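import Cfsg.Agent.Lib.M22Order.Interface
import Cfsg.Agent.Lib.CharApps.PrimeClassBound
import Cfsg.Agent.Lib.CharApps.InertialThreeInvolution
import Cfsg.Agent.Lib.CharApps.ClassCount
import Cfsg.Agent.Lib.Small.Order7920Tools

/-!
# Simple groups of order 443520: the second degree list does not occur (piece D3)

A central involution of a Sylow two-subgroup: the relations of the three blocks, the absence of
involutions inverting elements of order seven or eleven, the two orthogonality relations and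
the integrality of the class multiplication constant at an element of order five leave no column.
-/

set_option autoImplicit false
set_option linter.style.haveILetI false
set_option linter.unusedSectionVars false

open Cfsg CfsgLib.Chars CfsgLib.CharApps CfsgLib.Small

namespace CfsgLib.M22Order

universe u

namespace AltCase

/-- The values allowed at an involution with centralizer of order `C`. -/
def cands (d C : ℕ) : List ℤ :=
  ((List.range 67).map fun k : ℕ => (k : ℤ) - 33).filter fun v =>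
    decide (((d : ℤ) - v) % 4 = 0) && decide (v * v ≤ (C : ℤ)) &&
      decide (((443520 / C : ℕ) : ℤ) * v % (d : ℤ) = 0)

/-- The last test on a column. -/
def leaf (C : ℕ) (a b f g h i j k : ℤ) : Bool :=
  let t := 1 + 21 * a + 55 * b + 132 * f + 120 * g + 154 * h + 210 * i + 210 * j + 560 * k
  let l := -(t / 385)
  !(decide (840 - 40 * (a * a) - 7 * (g * g) + 4 * (i * i + j * j) - 3 * (k * k) = 0) &&
      decide (t % 385 = 0) &&
      decide (1 + (a * a + b * b + 2 * (f * f) + g * g + h * h + i * i + j * j + 2 * (k * k) + l * l)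
        = (C : ℤ)) &&
      decide (960 * (462 + 22 * (a * a) + 14 * (f * f) - 3 * (h * h)) % ((C : ℤ) * C) = 0))

/-- The search for one order. -/
def check (C : ℕ) : Bool :=
  (cands 55 C).all fun b => (cands 66 C).all fun f =>
    !decide (1320 - 24 * (b * b) - 20 * (f * f) + 11 * ((b + f - 1) * (b + f - 1)) = 0) ||
      (cands 21 C).all fun a => (cands 210 C).all fun i => (cands 210 C).all fun j =>
        leaf C a b f (b + f - 1) (1 + a + 2 * f) i j (1 - a - (b + f - 1) + i + j)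

theorem check_ok : [128, 384, 1152].all check = true := by decide +kernel

theorem mem_cands {d C : ℕ} {v : ℤ} (hC : C ≤ 1152) (h4 : (4 : ℤ) ∣ (d : ℤ) - v)
    (hsq : v * v ≤ (C : ℤ)) (hdvd : (d : ℤ) ∣ ((443520 / C : ℕ) : ℤ) * v) : v ∈ cands d C := by
  have h1 : -33 ≤ v ∧ v ≤ 33 := by
    have hC' : (C : ℤ) ≤ 1152 := by exact_mod_cast hC
    constructor <;> nlinarith
  refine List.mem_filter.2 ⟨List.mem_map.2 ⟨(v + 33).toNat, List.mem_range.2 (by omega), ?_⟩, ?_⟩
  · rw [Int.toNat_of_nonneg (by omega)]; omega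
  · simp only [Bool.and_eq_true, decide_eq_true_eq]
    exact ⟨⟨Int.emod_eq_zero_of_dvd h4, hsq⟩, Int.emod_eq_zero_of_dvd hdvd⟩

variable {G : Type u} [Group G] [Finite G]

theorem sum12 {M : Type*} [AddCommMonoid M] (f : Fin 12 → M) :
    ∑ i, f i = f 0 + (f 1 + (f 2 + (f 3 + (f 4 + (f 5 + (f 6 + (f 7 + (f 8 + (f 9 + (f 10 + f 11)))))))))) := by
  simp [Fin.sum_univ_succ]

theorem alt_deg : specAlt.deg = ![1, 21, 55, 66, 66, 120, 154, 210, 210, 280, 280, 385] := rfl
theorem alt_r11 : specAlt.r11 = ![1, -1, 0, 0, 0, -1, 0, 1, 1, -1, 0, 0] := rfl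
theorem alt_r7 : specAlt.r7 = ![1, 0, -1, -1, 0, 1, 0, 0, 0, 0, 0, 0] := rfl
theorem alt_r5 : specAlt.r5 = ![1, 1, 0, 1, 1, 0, -1, 0, 0, 0, 0, 0] := rfl
theorem alt_p11 : specAlt.pair11 = (9, 10) := rfl
theorem alt_p7 : specAlt.pair7 = (3, 4) := rfl

theorem not_dvd_cen {p : ℕ} {n : ℕ} [hp : Fact p.Prime] (h : Local G p n) (hp2 : ¬ 2 ∣ p) {t : G}
    (ht : orderOf t = 2) : ¬ p ∣ Nat.card (cen t) := by
  intro hdvd
  obtain ⟨⟨x, hxC⟩, hxo⟩ := exists_prime_orderOf_dvd_card' (G := cen t) p hdvd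
  rw [Subgroup.orderOf_mk] at hxo
  have htC : t ∈ cen x :=
    Subgroup.mem_centralizer_singleton_iff.2 (Subgroup.mem_centralizer_singleton_iff.1 hxC).symm
  have := Subgroup.orderOf_dvd_natCard _ htC
  rw [ht, h.cent x hxo] at this
  exact hp2 this

theorem not_inverted {p n : ℕ} [hp : Fact p.Prime] (h : Local G p n) (hn : ¬ 2 ∣ n)
    (hfac : (Nat.card G).factorization p = 1) {x u : G} (hx : orderOf x = p) (hu : u * u = 1)
    (hux : u * x * u⁻¹ = x⁻¹) : u = 1 := by
  let P : Sylow p G := Sylow.ofCard (Subgroup.zpowers x) (by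
    rw [Nat.card_zpowers, hx, hfac, pow_one])
  have hN := h.norm P
  have hPz : (P : Subgroup G) = Subgroup.zpowers x := Sylow.coe_ofCard _ _
  rw [hPz] at hN
  have hmap : ∀ y ∈ Subgroup.zpowers x, u * y * u⁻¹ ∈ Subgroup.zpowers x := fun y hy => by
    obtain ⟨k, rfl⟩ := Subgroup.mem_zpowers_iff.1 hy
    rw [← conj_zpow, hux]
    exact Subgroup.zpow_mem _ (Subgroup.inv_mem _ (Subgroup.mem_zpowers x)) k
  have hmem : u ∈ Subgroup.normalizer ((Subgroup.zpowers x : Subgroup G) : Set G) := by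
    rw [Subgroup.mem_normalizer_iff]
    refine fun y => ⟨hmap y, fun hy => ?_⟩
    have h := hmap _ hy
    rw [inv_eq_of_mul_eq_one_left hu] at h
    simpa [mul_assoc, hu, ← mul_assoc u u] using h
  have h1 := Subgroup.orderOf_dvd_natCard _ hmem
  rw [hN] at h1
  rcases (Nat.dvd_prime Nat.prime_two).1 (orderOf_dvd_of_pow_eq_one (by rw [sq, hu]) : orderOf u ∣ 2)
    with h2 | h2
  · exact orderOf_eq_one_iff.1 h2
  · exact absurd (h2 ▸ h1) hn

theorem pairs_dvd (x z : G) : Nat.card (cen x) ^ 2 ∣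
    Nat.card {ab : G × G // (ab.1 * x * ab.1⁻¹) * (ab.2 * x * ab.2⁻¹) = z} := by
  classical
  haveI := Fintype.ofFinite G
  refine ⟨Nat.card {y : G // IsConj x y ∧ IsConj x (y⁻¹ * z)}, ?_⟩
  let e : {ab : G × G // (ab.1 * x * ab.1⁻¹) * (ab.2 * x * ab.2⁻¹) = z} ≃
      Σ y : {y : G // IsConj x y ∧ IsConj x (y⁻¹ * z)},
      {a : G // a * x * a⁻¹ = y.1} × {b : G // b * x * b⁻¹ = y.1⁻¹ * z} :=
    { toFun := fun ab => ⟨⟨ab.1.1 * x * ab.1.1⁻¹, isConj_iff.2 ⟨_, rfl⟩,
        isConj_iff.2 ⟨ab.1.2, (inv_mul_eq_of_eq_mul ab.2.symm).symm⟩⟩, ⟨ab.1.1, rfl⟩,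
        ⟨ab.1.2, (inv_mul_eq_of_eq_mul ab.2.symm).symm⟩⟩
      invFun := fun w => ⟨(w.2.1.1, w.2.2.1), by
        rw [w.2.1.2, w.2.2.2, mul_inv_cancel_left]⟩
      left_inv := fun ab => rfl
      right_inv := fun w => by
        obtain ⟨⟨y, hy⟩, ⟨a, ha⟩, ⟨b, hb⟩⟩ := w
        change a * x * a⁻¹ = y at ha
        subst ha
        rfl }
  have hfib : ∀ y : {y : G // IsConj x y ∧ IsConj x (y⁻¹ * z)},
      Nat.card ({a : G // a * x * a⁻¹ = y.1} × {b : G // b * x * b⁻¹ = y.1⁻¹ * z}) =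
        Nat.card (cen x) ^ 2 := fun y => by
    rw [Nat.card_prod, card_conj_fiber x y.2.1, card_conj_fiber x y.2.2, pow_two]
  rw [Nat.card_congr e, Nat.card_sigma, Finset.sum_congr rfl fun y _ => hfib y, Finset.sum_const,
    Finset.card_univ, smul_eq_mul, ← Nat.card_eq_fintype_card, mul_comm]

theorem pairs_empty {p n : ℕ} [hp : Fact p.Prime] (h : Local G p n) (hn : ¬ 2 ∣ n)
    (hfac : (Nat.card G).factorization p = 1) {t z : G} (ht : t * t = 1) (ht1 : t ≠ 1)
    (hz : orderOf z = p) :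
    IsEmpty {ab : G × G // (ab.1 * t * ab.1⁻¹) * (ab.2 * t * ab.2⁻¹) = z} := by
  refine ⟨fun ⟨⟨a, b⟩, hab⟩ => ?_⟩
  have h1 : (a * t * a⁻¹) * (a * t * a⁻¹) = 1 := by
    rw [← sq, conj_pow, sq, ht, mul_one, mul_inv_cancel]
  have h2 : (b * t * b⁻¹) * (b * t * b⁻¹) = 1 := by
    rw [← sq, conj_pow, sq, ht, mul_one, mul_inv_cancel]
  have hu := not_inverted h hn hfac hz (u := a * t * a⁻¹) h1 ?_
  · exact ht1 (conj_eq_one_iff.1 hu)
  · simp only at hab
    generalize a * t * a⁻¹ = u at hab h1 ⊢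
    generalize b * t * b⁻¹ = u' at hab h2
    rw [← hab, _root_.mul_inv_rev u u', inv_eq_of_mul_eq_one_left h2,
      inv_eq_of_mul_eq_one_left h1, ← mul_assoc, h1, one_mul]

theorem exists_central_invol (hG : Nat.card G = 443520) :
    ∃ t : G, orderOf t = 2 ∧ 128 ∣ Nat.card (cen t) := by
  haveI := Fact.mk Nat.prime_two
  obtain ⟨P⟩ : Nonempty (Sylow 2 G) := inferInstance
  have hP : Nat.card P = 128 := by
    rw [P.card_eq_multiplicity, hG, show 443520 = 2 ^ 7 * 3465 by norm_num,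
      Nat.factorization_mul (by norm_num) (by norm_num), Finsupp.add_apply,
      Nat.Prime.factorization_pow Nat.prime_two, Finsupp.single_eq_same,
      Nat.factorization_eq_zero_of_not_dvd (by norm_num)]
    norm_num
  haveI : Nontrivial P := Finite.one_lt_card_iff_nontrivial.1 (by rw [hP]; norm_num)
  haveI := P.isPGroup'.center_nontrivial
  obtain ⟨z, hz⟩ := exists_prime_orderOf_dvd_card' (G := Subgroup.center (P : Subgroup G)) 2 (by
    obtain ⟨k, hk⟩ := IsPGroup.iff_card.1 (P.isPGroup'.to_subgroup (Subgroup.center (P : Subgroup G)))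
    rw [hk]
    have h1 : 1 < 2 ^ k := hk ▸ Finite.one_lt_card
    exact dvd_pow_self 2 fun h0 => by rw [h0] at h1; norm_num at h1)
  refine ⟨z.1.1, by rw [Subgroup.orderOf_coe, Subgroup.orderOf_coe, hz], ?_⟩
  rw [← hP]
  refine Subgroup.card_dvd_of_le fun y hy => Subgroup.mem_centralizer_singleton_iff.2 ?_
  exact congrArg Subtype.val (Subgroup.mem_center_iff.1 z.2 ⟨y, hy⟩)

theorem false_of_alt [IsSimpleGroup G] (hG : Nat.card G = 443520) (h11 : LocalEleven G)
    (h7 : LocalSeven G) (h5 : LocalFive G) (S : Chars G specAlt) : False := by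
  classical
  haveI := Fintype.ofFinite G
  haveI := irrFintype G
  haveI : Fact (Nat.Prime 5) := ⟨by norm_num⟩
  haveI : Fact (Nat.Prime 7) := ⟨by norm_num⟩
  haveI : Fact (Nat.Prime 11) := ⟨by norm_num⟩
  obtain ⟨t, ht, h128⟩ := exists_central_invol hG
  have htt : t * t = 1 := by rw [← sq, ← ht, pow_orderOf_eq_one]
  have ht1 : t ≠ 1 := fun h => by rw [h, orderOf_one] at ht; omega
  set C := Nat.card (cen t) with hC
  have hCd : C ∣ 443520 := hG ▸ Subgroup.card_subgroup_dvd_card (cen t)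
  have hCs : C ∈ [128, 384, 1152] := by
    obtain ⟨m, hm⟩ := h128
    have hm' : m ∣ 3465 := by
      refine Nat.dvd_of_mul_dvd_mul_left (show 0 < 128 by norm_num) ?_
      rw [← hm]; exact hCd
    have n5 := not_dvd_cen h5 (by norm_num) ht
    have n7 := not_dvd_cen h7 (by norm_num) ht
    have n11 := not_dvd_cen h11 (by norm_num) ht
    have hml : m ≤ 3465 := Nat.le_of_dvd (by norm_num) hm'
    have hkey : ∀ m ∈ (3465 : ℕ).divisors, ¬ 5 ∣ 128 * m → ¬ 7 ∣ 128 * m → ¬ 11 ∣ 128 * m →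
        128 * m ∈ [128, 384, 1152] := by decide +kernel
    rw [← hC, hm] at n5 n7 n11
    rw [hm]
    exact hkey m (Nat.mem_divisors.2 ⟨hm', by norm_num⟩) n5 n7 n11
  have hCle : C ≤ 1152 := by
    simp only [List.mem_cons, List.not_mem_nil, or_false] at hCs
    omega
  have hCpos : 0 < C := Nat.card_pos
  have hidx : (cen t).index = 443520 / C := by
    rw [← hG, ← Subgroup.card_mul_index (cen t), Nat.mul_div_cancel_left _ hCpos]
  have hperf : commutator G = ⊤ :=
    commutator_eq_top (not_isMulCommutative_of_card (by rw [hG]; norm_num))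
  choose v hv using fun k => exists_int_apply_involution htt (S.c k)
  have h4 : ∀ k, (4 : ℤ) ∣ (specAlt.deg k : ℤ) - v k := fun k => by
    rw [← S.deg k]; exact four_dvd_degree_sub hperf (S.c k) htt (hv k)
  have hdv : ∀ k, (specAlt.deg k : ℤ) ∣ ((443520 / C : ℕ) : ℤ) * v k := fun k => by
    have h := degree_dvd_index_mul (S.c k) (hv k)
    rwa [S.deg k, hidx] at h
  have hv0 : v 0 = 1 := by
    have h := hv 0
    rw [S.principal, principal_apply] at h
    exact_mod_cast h
  have hnorm : ∑ k, v k ^ 2 = (C : ℤ) := by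
    have h := second_orthogonality (G := G) t t
    rw [if_pos (IsConj.refl t), ← S.c.sum_comp] at h
    simp only [← hv, map_intCast] at h
    simp only [sq]
    exact_mod_cast h
  have hdeg : ∑ k, (specAlt.deg k : ℤ) * v k = 0 := by
    have h := sum_degree_mul (G := G) t
    rw [if_neg ht1, ← S.c.sum_comp] at h
    simp only [deg_eq, S.deg, ← hv] at h
    exact_mod_cast h
  have hmem : ∀ k, v k ∈ cands (specAlt.deg k) C := fun k => by
    refine mem_cands hCle (h4 k) ?_ (hdv k)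
    rw [← hnorm, ← sq]
    exact Finset.single_le_sum (f := fun k => v k ^ 2) (fun k _ => sq_nonneg _) (Finset.mem_univ k)
  obtain ⟨hp11, hr11⟩ := S.rel_eleven t (by rw [ht]; norm_num)
  obtain ⟨hp7, hr7⟩ := S.rel_seven t (by rw [ht]; norm_num)
  have hr5 := S.rel_five t (by rw [ht]; norm_num)
  -- the counts of pairs
  have hcount : ∀ z : G, (Nat.card {ab : G × G //
      (ab.1 * t * ab.1⁻¹) * (ab.2 * t * ab.2⁻¹) = z⁻¹} : ℂ) =
      443520 * ∑ k, (v k : ℂ) * (v k : ℂ) * (S.c k : G → ℂ) z / (specAlt.deg k : ℂ) := by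
    intro z
    rw [card_conj_mul_conj, inv_inv, hG, ← S.c.sum_comp]
    simp only [deg_eq, S.deg, ← hv]
    norm_num
  obtain ⟨x11, hx11⟩ := exists_prime_orderOf_dvd_card' (G := G) 11 (by rw [hG]; norm_num)
  obtain ⟨x7, hx7⟩ := exists_prime_orderOf_dvd_card' (G := G) 7 (by rw [hG]; norm_num)
  obtain ⟨x5, hx5⟩ := exists_prime_orderOf_dvd_card' (G := G) 5 (by rw [hG]; norm_num)
  have hfac : ∀ p, p = 7 ∨ p = 11 → (Nat.card G).factorization p = 1 := by
    intro p hp
    rw [hG]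
    rcases hp with rfl | rfl
    · rw [show 443520 = 7 ^ 1 * 63360 by norm_num, Nat.factorization_mul (by norm_num) (by norm_num),
        Finsupp.add_apply, Nat.Prime.factorization_pow (by norm_num), Finsupp.single_eq_same,
        Nat.factorization_eq_zero_of_not_dvd (by norm_num)]
    · rw [show 443520 = 11 ^ 1 * 40320 by norm_num, Nat.factorization_mul (by norm_num) (by norm_num),
        Finsupp.add_apply, Nat.Prime.factorization_pow (by norm_num), Finsupp.single_eq_same,
        Nat.factorization_eq_zero_of_not_dvd (by norm_num)]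
  have e11 := hcount x11
  haveI := pairs_empty h11 (by norm_num) (hfac 11 (Or.inr rfl)) htt ht1
    (by rw [orderOf_inv, hx11] : orderOf x11⁻¹ = 11)
  rw [Nat.card_of_isEmpty, Nat.cast_zero, eq_comm, mul_eq_zero] at e11
  have e11 := e11.resolve_left (by norm_num)
  have e7 := hcount x7
  haveI := pairs_empty h7 (by norm_num) (hfac 7 (Or.inl rfl)) htt ht1
    (by rw [orderOf_inv, hx7] : orderOf x7⁻¹ = 7)
  rw [Nat.card_of_isEmpty, Nat.cast_zero, eq_comm, mul_eq_zero] at e7
  have e7 := e7.resolve_left (by norm_num)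
  have e5 := hcount x5
  obtain ⟨q, hq⟩ := pairs_dvd t x5⁻¹
  rw [hq, ← hC] at e5
  obtain ⟨a11, a11'⟩ := S.at_eleven x11 hx11
  obtain ⟨a7, a7'⟩ := S.at_seven x7 hx7
  have a5 := S.at_five x5 hx5
  simp only [sum12, alt_deg, alt_r11, alt_r7, alt_r5, alt_p11, alt_p7] at e11 e7 e5 hr11 hr7 hr5 hp11 hp7 hnorm hdeg
  simp only [alt_deg, alt_r11, alt_r7, alt_r5, alt_p11, alt_p7] at a11 a11' a7 a7' a5 hmem
  simp [a5] at e5
  rw [a11 0 (by decide) (by decide), a11 1 (by decide) (by decide), a11 2 (by decide) (by decide),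
    a11 3 (by decide) (by decide), a11 4 (by decide) (by decide), a11 5 (by decide) (by decide),
    a11 6 (by decide) (by decide), a11 7 (by decide) (by decide), a11 8 (by decide) (by decide),
    a11 11 (by decide) (by decide)] at e11
  rw [a7 0 (by decide) (by decide), a7 1 (by decide) (by decide), a7 2 (by decide) (by decide),
    a7 5 (by decide) (by decide), a7 6 (by decide) (by decide), a7 7 (by decide) (by decide),
    a7 8 (by decide) (by decide), a7 9 (by decide) (by decide), a7 10 (by decide) (by decide),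
    a7 11 (by decide) (by decide)] at e7
  have hk : v 10 = v 9 := by
    have h : (v 10 : ℂ) = (v 9 : ℂ) := by rw [hv, hv]; exact hp11.symm
    exact_mod_cast h
  have hf : v 4 = v 3 := by
    have h : (v 4 : ℂ) = (v 3 : ℂ) := by rw [hv, hv]; exact hp7.symm
    exact_mod_cast h
  simp [← hv, hk, hf, hv0] at e11 e7 e5 hr11 hr7 hr5 hnorm hdeg
  have q11 : (840 : ℤ) - 40 * (v 1 * v 1) - 7 * (v 5 * v 5) + 4 * (v 7 * v 7 + v 8 * v 8) -
      3 * (v 9 * v 9) = 0 := by
    have h : ((840 : ℂ) - 40 * ((v 1 : ℂ) * v 1) - 7 * ((v 5 : ℂ) * v 5) +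
        4 * ((v 7 : ℂ) * v 7 + (v 8 : ℂ) * v 8) - 3 * ((v 9 : ℂ) * v 9)) = 0 := by
      linear_combination (840 : ℂ) * e11 - (3 * ((v 9 : ℂ) * v 9)) * a11'
    exact_mod_cast h
  have q7 : (1320 : ℤ) - 24 * (v 2 * v 2) - 20 * (v 3 * v 3) + 11 * (v 5 * v 5) = 0 := by
    have h : ((1320 : ℂ) - 24 * ((v 2 : ℂ) * v 2) - 20 * ((v 3 : ℂ) * v 3) +
        11 * ((v 5 : ℂ) * v 5)) = 0 := by
      linear_combination (1320 : ℂ) * e7 - (20 * ((v 3 : ℂ) * v 3)) * a7'
    exact_mod_cast h
  have q5 : (C : ℤ) * C * q = 960 * (462 + 22 * (v 1 * v 1) + 14 * (v 3 * v 3) - 3 * (v 6 * v 6)) := by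
    have h : ((C : ℂ) * C * q) =
        960 * (462 + 22 * ((v 1 : ℂ) * v 1) + 14 * ((v 3 : ℂ) * v 3) - 3 * ((v 6 : ℂ) * v 6)) := by
      linear_combination e5
    exact_mod_cast h
  have l11 : 1 - v 1 - v 5 + v 7 + v 8 - v 9 = 0 := by
    have h : (1 : ℂ) - v 1 - v 5 + v 7 + v 8 - v 9 = 0 := by linear_combination hr11
    exact_mod_cast h
  have l7 : 1 - v 2 - v 3 + v 5 = 0 := by
    have h : (1 : ℂ) - v 2 - v 3 + v 5 = 0 := by linear_combination hr7
    exact_mod_cast h
  have l5 : 1 + v 1 + 2 * v 3 - v 6 = 0 := by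
    have h : (1 : ℂ) + v 1 + 2 * v 3 - v 6 = 0 := by linear_combination hr5
    exact_mod_cast h
  have hck := List.all_eq_true.1 check_ok C hCs
  simp only [check, List.all_eq_true, Bool.or_eq_true, Bool.not_eq_true', decide_eq_false_iff_not]
    at hck
  have hg : v 5 = v 2 + v 3 - 1 := by linarith
  have hh : v 6 = 1 + v 1 + 2 * v 3 := by linarith
  have hk9 : v 9 = 1 - v 1 - (v 2 + v 3 - 1) + v 7 + v 8 := by linarith
  rw [hg] at q11 q7 hnorm hdeg
  rw [hh] at q5 hnorm hdeg
  rw [hk9] at q11 hnorm hdeg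
  have hlf := ((hck (v 2) (hmem 2) (v 3) (hmem 3)).resolve_left fun h => h q7) (v 1) (hmem 1)
    (v 7) (hmem 7) (v 8) (hmem 8)
  simp only [leaf, Bool.not_eq_true', Bool.and_eq_false_iff, decide_eq_false_iff_not] at hlf
  generalize v 1 = a, v 2 = b, v 3 = f, v 7 = i, v 8 = j, v 11 = l at *
  set T := 1 + 21 * a + 55 * b + 132 * f + 120 * (b + f - 1) + 154 * (1 + a + 2 * f) + 210 * i +
    210 * j + 560 * (1 - a - (b + f - 1) + i + j) with hT
  have hTl : T = 385 * (-l) := by rw [hT]; linarith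
  have hdiv : T / 385 = -l := by rw [hTl]; omega
  rw [hdiv, neg_neg] at hlf
  rcases hlf with ((h | h) | h) | h
  · exact h q11
  · exact h (by rw [hTl]; omega)
  · exact h (by linarith)
  · refine h (Int.emod_eq_zero_of_dvd ⟨(q : ℤ), ?_⟩)
    linarith

end AltCase

/-- Piece D3. -/
theorem alt : AltStmt.{u} := fun _ _ _ hs hG h11 h7 h5 S => by
  haveI := hs
  exact AltCase.false_of_alt hG h11 h7 h5 S

end CfsgLib.M22Order
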