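import Cfsg.Agent.Lib.M22Order.Interface

/-!
# Simple groups of order 443520: the local facts from the pieces
-/

set_option autoImplicit false

namespace CfsgLib.M22Order

universe u

/-- The facts used for the identification, from the pieces. -/
theorem facts_of (hA : ElevenStmt.{u}) (hB : TableStmt.{u}) (hC : SevenStmt.{u}) (hD1 : FiveStmt.{u})
    (hD2 : DegreesStmt.{u}) (hD3 : AltStmt.{u}) (hE : InvolStmt.{u}) (hF : ThreeStmt.{u}) (hO : OrdersStmt.{u})
    (G : Type u) [Group G] [Finite G] (hs : IsSimpleGroup G) (hG : Nat.card G = 443520) :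
    M22Nse.Facts G := by
  have h11 := hA G hs hG
  obtain ⟨T⟩ := hB G hs hG h11
  obtain ⟨h7, S, hTS⟩ := hC G hs hG h11 T
  obtain ⟨h5, hTS'⟩ := hD1 G hs hG h11 h7 T S hTS
  obtain ⟨C⟩ : Nonempty (Chars G specMain) :=
    (hD2 G hs hG h11 h7 h5 T S hTS').resolve_right fun ⟨C⟩ => hD3 G hs hG h11 h7 h5 C
  have h2 := hE G hs hG h11 h7 h5 C
  have h3 := hF G hs hG h11 h7 h5 h2 C
  obtain ⟨hord, h8⟩ := hO G hs hG h11 h7 h5 h2 h3 C
  refine ⟨hG, hs, fun hab => ?_, hord, h8, h2.conj, h3.conj, h2.cent, h3.cent, h3.invol, h3.cent_syl, h3.norm,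
    h5.norm⟩
  obtain ⟨g, hg⟩ := h8
  haveI := hs
  letI : CommGroup G := { ‹Group G› with mul_comm := hab }
  have h := IsSimpleGroup.prime_card (α := G)
  rw [hG] at h
  norm_num at h

end CfsgLib.M22Order
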