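import Mathlib

/-!
# Simple groups of order 443520: arithmetic of the principal block at eleven

The degrees admitting values at an involution whose centralizer has order divisible by 128
(piece B of `tools/S1663_plan.md`).
-/

set_option autoImplicit false

namespace CfsgLib.M22Order.BlockArith

/-- The degrees of non-exceptional characters. -/
def neDegs : List ℕ := [10, 12, 21, 32, 45, 56, 120, 144, 210, 252, 320, 384, 560]

/-- The sign attached to a degree congruent to plus or minus one. -/
def sgnDeg (d : ℕ) : ℤ := if d % 11 = 1 then 1 else -1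

/-- The orders of centralizers of central involutions, with a bound on the square root. -/
def centralCents : List (ℕ × ℕ) :=
  [(128, 11), (384, 19), (640, 25), (896, 29), (1152, 33), (1920, 43), (2688, 51), (4480, 66),
    (5760, 75), (8064, 89), (13440, 115), (40320, 200)]

/-- The possible values of a character of degree `d` at such an involution. -/
def vals (d C r : ℕ) : List ℤ :=
  let b := min (d - 1) r
  ((List.range (b / 2 + 2)).map fun i : ℕ => (d : ℤ) - 4 * ((((d - b) / 4 + i : ℕ)) : ℤ)).filter
    fun v => decide (v.natAbs ≤ b ∧ (d : ℤ) ∣ ((443520 / C : ℕ) : ℤ) * v ∧ v * v ≤ (C : ℤ))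

/-- The signed degree of the exceptional characters. -/
def excDeg (a b c d : ℕ) : ℤ :=
  1 + (sgnDeg a * a + sgnDeg b * b + sgnDeg c * c + sgnDeg d * d)

/-- The conditions on the values at an involution. -/
def fitsValues (a b c d C : ℕ) (p q r s : ℤ) : Bool :=
  let T := excDeg a b c d
  let de := T.natAbs
  let w := T.sign * (1 + (sgnDeg a * p + sgnDeg b * q + sgnDeg c * r + sgnDeg d * s))
  decide (w.natAbs < de) && decide ((4 : ℤ) ∣ (de : ℤ) - w) &&
    decide (1 + (p * p + q * q + r * r + s * s) + 2 * (w * w) ≤ (C : ℤ)) &&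
    decide (443520 + (sgnDeg a * ((443520 / a : ℕ) : ℤ) * (p * p) +
      sgnDeg b * ((443520 / b : ℕ) : ℤ) * (q * q) +
      sgnDeg c * ((443520 / c : ℕ) : ℤ) * (r * r) + sgnDeg d * ((443520 / d : ℕ) : ℤ) * (s * s)) -
      T.sign * ((443520 / de : ℕ) : ℤ) * (w * w) = 0) &&
    decide ((de : ℤ) ∣ ((443520 / C : ℕ) : ℤ) * w)

/-- Whether a central involution is possible. -/
def centralFits (a b c d : ℕ) : Bool :=
  centralCents.any fun C => (vals a C.1 C.2).any fun p => (vals b C.1 C.2).any fun q =>
    decide (1 + (p * p + q * q) ≤ (C.1 : ℤ)) && (vals c C.1 C.2).any fun r =>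
      decide (1 + (p * p + q * q + r * r) ≤ (C.1 : ℤ)) && (vals d C.1 C.2).any fun s =>
        fitsValues a b c d C.1 p q r s

/-- The degree lists that are left. -/
def degreeLists : List (List ℕ × ℕ) := [
    ([10, 10, 10, 45], 16),
    ([10, 10, 12, 12], 5),
    ([10, 10, 32, 56], 5),
    ([10, 10, 120, 144], 5),
    ([10, 12, 12, 45], 60),
    ([10, 12, 12, 120], 105),
    ([10, 12, 45, 120], 72),
    ([10, 21, 45, 45], 60),
    ([10, 21, 45, 120], 105),
    ([10, 32, 45, 56], 60),
    ([10, 32, 56, 120], 105),
    ([10, 45, 45, 45], 126),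
    ([10, 45, 120, 144], 60),
    ([10, 45, 120, 210], 126),
    ([10, 120, 120, 144], 105),
    ([12, 21, 32, 45], 5),
    ([12, 32, 120, 144], 5),
    ([12, 56, 56, 120], 5),
    ([21, 21, 21, 56], 6),
    ([21, 21, 32, 32], 105),
    ([21, 21, 45, 56], 60),
    ([21, 21, 56, 120], 105),
    ([21, 21, 320, 384], 105),
    ([21, 32, 32, 210], 126),
    ([21, 32, 32, 252], 336),
    ([21, 32, 56, 56], 60),
    ([21, 45, 45, 56], 126),
    ([21, 45, 45, 210], 280),
    ([21, 56, 120, 210], 126),
    ([21, 56, 120, 252], 336),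
    ([21, 120, 210, 210], 280),
    ([21, 210, 210, 384], 16),
    ([21, 210, 320, 384], 126),
    ([45, 56, 120, 144], 126),
    ([45, 56, 120, 210], 192),
    ([45, 120, 120, 210], 16),
    ([45, 120, 120, 320], 126),
    ([45, 120, 144, 210], 280),
    ([56, 120, 210, 252], 105)]

/-- The first three conditions on four degrees. -/
def admissible (a b c d : ℕ) : Bool :=
  decide (2 ≤ (excDeg a b c d).natAbs) && decide ((excDeg a b c d).natAbs < 666) &&
    decide (443520 % (excDeg a b c d).natAbs = 0) &&
    decide (1 + (a * a + b * b + c * c + d * d) + 2 * ((excDeg a b c d).natAbs ^ 2) ≤ 443520)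

/-- The check for the smallest degree `a`. -/
def checkFrom (a : ℕ) : Bool :=
  neDegs.all fun b => neDegs.all fun c => neDegs.all fun d =>
    if a ≤ b ∧ b ≤ c ∧ c ≤ d ∧ admissible a b c d = true ∧
        ([a, b, c, d], (excDeg a b c d).natAbs) ∉ degreeLists
      then !centralFits a b c d else true

set_option maxRecDepth 100000 in
set_option synthInstance.maxSize 4096 in
theorem ne_degree_list : ∀ d < (666 : ℕ), d ∣ 443520 → d ≠ 1 → (d % 11 = 1 ∨ d % 11 = 10) →
    d ∈ neDegs := by
  decide +kernel

end CfsgLib.M22Order.BlockArith
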