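import Cfsg.Agent.Lib.M22Order.BlockArith

/-!
# Simple groups of order 443520: checking the block at eleven
-/

set_option autoImplicit false
set_option maxRecDepth 100000

namespace CfsgLib.M22Order.BlockArith

theorem check10 : checkFrom 10 = true := by decide +kernel

theorem check12 : checkFrom 12 = true := by decide +kernel

theorem check21 : checkFrom 21 = true := by decide +kernel

theorem check32 : checkFrom 32 = true := by decide +kernel

theorem check45 : checkFrom 45 = true := by decide +kernel

theorem check56 : checkFrom 56 = true := by decide +kernel

theorem check120 : checkFrom 120 = true := by decide +kernel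

theorem check144 : checkFrom 144 = true := by decide +kernel

theorem check210 : checkFrom 210 = true := by decide +kernel

theorem check252 : checkFrom 252 = true := by decide +kernel

theorem check320 : checkFrom 320 = true := by decide +kernel

theorem check384 : checkFrom 384 = true := by decide +kernel

theorem check560 : checkFrom 560 = true := by decide +kernel

theorem check_all : ∀ a ∈ neDegs, checkFrom a = true := by
  intro a ha
  fin_cases ha
  · exact check10
  · exact check12
  · exact check21
  · exact check32
  · exact check45
  · exact check56
  · exact check120
  · exact check144
  · exact check210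
  · exact check252
  · exact check320
  · exact check384
  · exact check560

theorem mem_degreeLists {a b c d : ℕ} (ha : a ∈ neDegs) (hb : b ∈ neDegs) (hc : c ∈ neDegs)
    (hd : d ∈ neDegs) (hab : a ≤ b) (hbc : b ≤ c) (hcd : c ≤ d) (hadm : admissible a b c d = true)
    (hfit : centralFits a b c d = true) :
    ([a, b, c, d], (excDeg a b c d).natAbs) ∈ degreeLists := by
  by_contra hmem
  have h := check_all a ha
  simp only [checkFrom, List.all_eq_true] at h
  have h2 := h b hb c hc d hd
  rw [if_pos ⟨hab, hbc, hcd, hadm, hmem⟩, hfit] at h2
  simp at h2

end CfsgLib.M22Order.BlockArith
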