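import Cfsg.Prelude.Def_Spor_Mathieu

/-!
# Simple groups of the order of the Mathieu group of degree 22: interface

Used for S1663 (uniqueness by the order).
-/

set_option autoImplicit false

namespace CfsgLib.M22Order

universe u

/-- A simple group of order `443520` is the Mathieu group of degree 22. -/
def Unique : Prop :=
  ∀ (G : Type u) [Group G] [Finite G], IsSimpleGroup G → Nat.card G = 443520 → Cfsg.Spor.IsoM22 G

end CfsgLib.M22Order
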