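import Cfsg.Agent.Lib.M22Order.DegreesBasic

/-!
# Simple groups of order 443520: the degrees (piece D2 of `tools/S1663_plan.md`)
-/

set_option autoImplicit false
set_option linter.style.haveILetI false
set_option linter.unusedSectionVars false

open Cfsg CfsgLib.Chars CfsgLib.CharApps CfsgLib.Blocks CfsgLib.Small

namespace CfsgLib.M22Order

universe u

variable {G : Type u} [Group G] [Finite G] [IsSimpleGroup G] (hG : Nat.card G = 443520) (h5 : LocalFive G)
  (T : TableEleven G) (S : TableSeven G)

include hG h5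

/-- The second orthogonality relation with a column at five. -/
theorem rel_five_of {c : Fin 12 ≃ IrrCharacter G} {r : Fin 12 → ℤ} {y : G} (hy : orderOf y = 5)
    (hat : ∀ i, (c i : G → ℂ) y = (r i : ℂ)) {g : G} (hg : ¬ 5 ∣ orderOf g) :
    ∑ i, (r i : ℂ) * (c i : G → ℂ) g = 0 := by
  classical
  haveI := irrFintype G
  have h := second_orthogonality (G := G) g y
  rw [if_neg (fun hh => by
      obtain ⟨a, ha⟩ := isConj_iff.1 hh
      have : orderOf g = 5 := by rw [← ha, ← MulAut.conj_apply, MulEquiv.orderOf_eq, hy]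
      exact hg (by rw [this]))] at h
  rw [← Equiv.sum_comp c] at h
  rw [← h]
  exact Finset.sum_congr rfl fun i _ => by rw [hat i, map_intCast]; ring

/-- The values at five from the degrees. -/
theorem at_five_of {c : Fin 12 → IrrCharacter G} {deg : Fin 12 → ℕ} {r : Fin 12 → ℤ}
    (hdeg : ∀ i, dg (c i) = deg i) (hr : ∀ i, -1 ≤ r i ∧ r i ≤ 1 ∧ (5 : ℤ) ∣ r i - deg i)
    {a : IrrCharacter G} (ha : dg a = 21) {x : G} (hx : orderOf x = 5) (i : Fin 12) :
    (c i : G → ℂ) x = (r i : ℂ) := by
  obtain ⟨v, hv, hv5, hS⟩ := exists_val hG h5 hx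
  obtain ⟨h1, h2⟩ := val_le_one hG hv hv5 hS ha (c i)
  have h3 := hv5 (c i)
  rw [hdeg i] at h3
  obtain ⟨r1, r2, r3⟩ := hr i
  rw [← hv]
  congr 1
  omega

omit hG h5

theorem zero_at {p n : ℕ} {lists : List ((Fin n → ℕ) × ℕ)} (T : Table G p n lists) {χ : IrrCharacter G}
    (h1 : dg χ ≠ 1) (ha : ∀ i, dg χ ≠ T.list.1 i) (hθ : dg χ ≠ T.list.2) {x : G} (hx : orderOf x = p) :
    (χ : G → ℂ) x = 0 := by
  rcases T.known χ with h | ⟨i, h⟩ | ⟨j, h⟩ | ⟨-, h⟩
  · exact absurd ((deg_eq_one_iff χ).mp (h ▸ principal_apply _)) h1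
  · exact absurd (h ▸ T.deg_a i) (ha i)
  · exact absurd (h ▸ T.deg_θ j) hθ
  · exact h x hx

include hG h5

set_option maxHeartbeats 1000000 in
theorem chars_main (hT : T.list = (![21, 45, 45, 210], 280)) (hS : S.list = (![55, 99], 45)) :
    Nonempty (Chars G specMain) := by
  classical
  haveI := irrFintype G
  haveI := Fact.mk (show Nat.Prime 5 by norm_num)
  have dp := principal_dg (G := G) hG
  have d0 : dg (T.a 0) = 21 := by rw [dg, T.deg_a, hT]; rfl
  have d1 : dg (T.a 1) = 45 := by rw [dg, T.deg_a, hT]; rfl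
  have d2 : dg (T.a 2) = 45 := by rw [dg, T.deg_a, hT]; rfl
  have d3 : dg (T.a 3) = 210 := by rw [dg, T.deg_a, hT]; rfl
  have dt : ∀ j, dg (T.θ j) = 280 := fun j => by rw [dg, T.deg_θ, hT]
  have e0 : dg (S.a 0) = 55 := by rw [dg, S.deg_a, hS]; rfl
  have e1 : dg (S.a 1) = 99 := by rw [dg, S.deg_a, hS]; rfl
  have et : ∀ j, dg (S.θ j) = 45 := fun j => by rw [dg, S.deg_θ, hS]
  have h45 : ∀ χ : IrrCharacter G, dg χ = 45 → χ = S.θ 0 ∨ χ = S.θ 1 := by
    intro χ hd
    rcases S.known χ with h | ⟨i, h⟩ | ⟨j, h⟩ | ⟨h, -⟩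
    · rw [h, dp] at hd; omega
    · fin_cases i <;> simp only [h, Fin.isValue, Fin.zero_eta, Fin.mk_one, e0, e1] at hd <;> omega
    · fin_cases j
      · exact .inl h
      · exact .inr h
    · rw [hd] at h; omega
  have hsw : (T.a 1 = S.θ 0 ∧ T.a 2 = S.θ 1) ∨ (T.a 1 = S.θ 1 ∧ T.a 2 = S.θ 0) := by
    have hne : T.a 1 ≠ T.a 2 := T.a_ne (by decide)
    rcases h45 _ d1 with h | h <;> rcases h45 _ d2 with h' | h'
    · exact absurd (h.trans h'.symm) hne
    · exact .inl ⟨h, h'⟩
    · exact .inr ⟨h, h'⟩
    · exact absurd (h.trans h'.symm) hne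
  obtain ⟨y, hy⟩ := exists_prime_orderOf_dvd_card' (G := G) 5 (by rw [hG]; norm_num)
  obtain ⟨v, hv, hv5, hSS⟩ := exists_val hG h5 hy
  let K : Finset (IrrCharacter G) :=
    {principal G, T.a 0, S.θ 0, S.θ 1, S.a 0, S.a 1, T.a 3, T.θ 0, T.θ 1}
  have hKsum : ∑ χ ∈ K, dg χ ^ 2 + 5929 * 38 = 443520 := by
    have hne := S.θ_ne
    have hne' := T.θ_ne
    rw [Finset.sum_insert, Finset.sum_insert, Finset.sum_insert, Finset.sum_insert, Finset.sum_insert,
      Finset.sum_insert, Finset.sum_insert, Finset.sum_insert, Finset.sum_singleton]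
    · simp only [dp, d0, d3, dt, e0, e1, et]
      norm_num
    all_goals
      simp only [Finset.mem_insert, Finset.mem_singleton, not_or]
      repeat' apply And.intro
    all_goals first
      | assumption
      | (intro h; have := congrArg dg h; simp only [dp, d0, d3, dt, e0, e1, et] at this; omega)
  have h77 : ∀ χ ∉ K, 77 ∣ dg χ := by
    intro χ hχ
    simp only [K, Finset.mem_insert, Finset.mem_singleton, not_or] at hχ
    obtain ⟨k0, k1, k2, k3, k4, k5, k6, k7, k8⟩ := hχ
    have h11 : 11 ∣ dg χ := by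
      rcases T.known χ with h | ⟨i, h⟩ | ⟨j, h⟩ | ⟨h, -⟩
      · exact absurd h k0
      · fin_cases i
        · exact absurd h k1
        · rcases hsw with ⟨s, -⟩ | ⟨s, -⟩
          · exact absurd (h.trans s) k2
          · exact absurd (h.trans s) k3
        · rcases hsw with ⟨-, s⟩ | ⟨-, s⟩
          · exact absurd (h.trans s) k3
          · exact absurd (h.trans s) k2
        · exact absurd h k6
      · fin_cases j
        · exact absurd h k7
        · exact absurd h k8
      · exact h
    have h7 : 7 ∣ dg χ := by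
      rcases S.known χ with h | ⟨i, h⟩ | ⟨j, h⟩ | ⟨h, -⟩
      · exact absurd h k0
      · fin_cases i
        · exact absurd h k4
        · exact absurd h k5
      · fin_cases j
        · exact absurd h k2
        · exact absurd h k3
      · exact h
    omega
  obtain ⟨A, B, C, hA, hB, hC, hr, hle⟩ := exists_new hG hv hv5 hSS d0 (K := K)
    (U := {principal G, T.a 0, S.a 1}) (by
      intro χ hχ
      simp only [K, Finset.mem_insert, Finset.mem_singleton] at hχ ⊢
      tauto) (by
      intro χ hχ
      simp only [Finset.mem_insert, Finset.mem_singleton] at hχ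
      rcases hχ with rfl | rfl | rfl
      · rw [dp]; norm_num
      · rw [d0]; norm_num
      · rw [e1]; norm_num) hKsum (by norm_num) h77
  have hU3 : ({principal G, T.a 0, S.a 1} : Finset (IrrCharacter G)).card = 3 := by
    rw [Finset.card_insert_of_notMem, Finset.card_pair]
    · exact fun h => by have := congrArg dg h; simp only [d0, e1] at this; omega
    · simp only [Finset.mem_insert, Finset.mem_singleton, not_or]
      constructor <;> (intro h; have := congrArg dg h; simp only [dp, d0, e1] at this; omega)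
  rw [hU3] at hle
  have hA1 : A.card = 1 ∧ B.card = 1 ∧ C.card = 1 := by
    have hA2 : A.card ≤ 2 := by omega
    have hB2 : B.card ≤ 2 := by omega
    interval_cases A.card <;> interval_cases B.card <;> omega
  obtain ⟨A', rfl⟩ := Finset.card_eq_one.1 hA1.1
  obtain ⟨B', rfl⟩ := Finset.card_eq_one.1 hA1.2.1
  obtain ⟨C', rfl⟩ := Finset.card_eq_one.1 hA1.2.2
  let f : Fin 12 → IrrCharacter G :=
    ![principal G, T.a 0, S.θ 0, S.θ 1, S.a 0, S.a 1, A', T.a 3, B', T.θ 0, T.θ 1, C']
  have hA' := hA A' (Finset.mem_singleton_self _)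
  have hB' := hB B' (Finset.mem_singleton_self _)
  have hC' := hC C' (Finset.mem_singleton_self _)
  have hfd : ∀ i, dg (f i) = specMain.deg i := by
    intro i
    fin_cases i <;> simp [f, specMain, dp, d0, d3, dt, e0, e1, et, hA', hB', hC']
  have hinj : Function.Injective f := by
    intro i j h
    have h' := congrArg dg h
    rw [hfd, hfd] at h'
    fin_cases i <;> fin_cases j <;> first
      | rfl
      | (simp [specMain] at h'; done)
      | exact absurd h S.θ_ne
      | exact absurd h.symm S.θ_ne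
      | exact absurd h T.θ_ne
      | exact absurd h.symm T.θ_ne
  have hbij := bijective_of_sum hinj (by
    rw [hG]; simp only [hfd]; decide)
  let c := Equiv.ofBijective f hbij
  have hd : ∀ i, charDegree (c i : G → ℂ) = specMain.deg i := hfd
  have hr5 : ∀ i, -1 ≤ specMain.r5 i ∧ specMain.r5 i ≤ 1 ∧ (5 : ℤ) ∣ specMain.r5 i - specMain.deg i := by decide
  have sT : T.sgn 0 = -1 ∧ T.sgn 1 = 1 ∧ T.sgn 2 = 1 ∧ T.sgn 3 = 1 ∧ T.ε = 1 := by
    have hh := T.sgn_eq
    have he := T.ε_eq
    rw [hT] at hh he
    have q0 := hh 0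
    have q1 := hh 1
    have q2 := hh 2
    have q3 := hh 3
    simp only [Matrix.cons_val_zero, Matrix.cons_val_one, Matrix.cons_val] at q0 q1 q2 q3 he
    omega
  have sS : S.sgn 0 = -1 ∧ S.sgn 1 = 1 ∧ S.ε = 1 := by
    have hh := S.sgn_eq
    have he := S.ε_eq
    rw [hS] at hh he
    have q0 := hh 0
    have q1 := hh 1
    simp only [Matrix.cons_val_zero, Matrix.cons_val_one, Matrix.cons_val] at q0 q1 he
    omega
  refine ⟨{ c := c, deg := hd, principal := rfl, rel_eleven := ?_, rel_seven := ?_, rel_five := ?_,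
            at_eleven := ?_, at_seven := ?_, at_five := ?_ }⟩
  · intro g hg
    have r0 := T.rel 0 g hg
    have r1 := T.rel 1 g hg
    rw [Fin.sum_univ_four, sT.1, sT.2.1, sT.2.2.1, sT.2.2.2.1, sT.2.2.2.2] at r0 r1
    push_cast at r0 r1
    refine ⟨?_, ?_⟩
    · show (T.θ 0 : G → ℂ) g = (T.θ 1 : G → ℂ) g
      linear_combination r0 - r1
    · simp [Fin.sum_univ_succ, c, f, specMain, principal_apply]
      rcases hsw with ⟨s1, s2⟩ | ⟨s1, s2⟩ <;> rw [← s1, ← s2] <;> linear_combination -r0
  · intro g hg
    have r0 := S.rel 0 g hg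
    have r1 := S.rel 1 g hg
    rw [Fin.sum_univ_two, sS.1, sS.2.1, sS.2.2] at r0 r1
    push_cast at r0 r1
    refine ⟨?_, ?_⟩
    · show (S.θ 0 : G → ℂ) g = (S.θ 1 : G → ℂ) g
      linear_combination r0 - r1
    · simp [Fin.sum_univ_succ, c, f, specMain, principal_apply]
      linear_combination -r0
  · intro g hg
    exact rel_five_of hG h5 hy (fun i => at_five_of hG h5 hfd hr5 d0 hy i) hg
  · intro x hx
    refine ⟨fun i h1 h2 => ?_, ?_⟩
    · fin_cases i
      · simpa [c, f, specMain] using principal_apply x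
      · simpa [c, f, specMain, sT.1] using T.at_p 0 x hx
      · rcases hsw with ⟨s1, -⟩ | ⟨-, s2⟩
        · simpa [c, f, specMain, ← s1, sT.2.1] using T.at_p 1 x hx
        · simpa [c, f, specMain, ← s2, sT.2.2.1] using T.at_p 2 x hx
      · rcases hsw with ⟨-, s2⟩ | ⟨s1, -⟩
        · simpa [c, f, specMain, ← s2, sT.2.2.1] using T.at_p 2 x hx
        · simpa [c, f, specMain, ← s1, sT.2.1] using T.at_p 1 x hx
      · simpa [c, f, specMain] using zero_at T (χ := S.a 0) (by omega) (by rw [hT, e0]; decide) (by rw [hT, e0]; decide) hx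
      · simpa [c, f, specMain] using zero_at T (χ := S.a 1) (by omega) (by rw [hT, e1]; decide) (by rw [hT, e1]; decide) hx
      · simpa [c, f, specMain] using zero_at T (χ := A') (by omega) (by rw [hT, hA']; decide) (by rw [hT, hA']; decide) hx
      · simpa [c, f, specMain, sT.2.2.2.1] using T.at_p 3 x hx
      · simpa [c, f, specMain] using zero_at T (χ := B') (by omega) (by rw [hT, hB']; decide) (by rw [hT, hB']; decide) hx
      · exact absurd rfl h1
      · exact absurd rfl h2
      · simpa [c, f, specMain] using zero_at T (χ := C') (by omega) (by rw [hT, hC']; decide) (by rw [hT, hC']; decide) hx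
    · have := T.at_p_θ x hx
      rw [sT.2.2.2.2] at this
      simpa [c, f, specMain] using this
  · intro x hx
    refine ⟨fun i h1 h2 => ?_, ?_⟩
    · fin_cases i
      · simpa [c, f, specMain] using principal_apply x
      · simpa [c, f, specMain] using zero_at S (χ := T.a 0) (by omega) (by rw [hS, d0]; decide) (by rw [hS, d0]; decide) hx
      · exact absurd rfl h1
      · exact absurd rfl h2
      · simpa [c, f, specMain, sS.1] using S.at_p 0 x hx
      · simpa [c, f, specMain, sS.2.1] using S.at_p 1 x hx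
      · simpa [c, f, specMain] using zero_at S (χ := A') (by omega) (by rw [hS, hA']; decide) (by rw [hS, hA']; decide) hx
      · simpa [c, f, specMain] using zero_at S (χ := T.a 3) (by omega) (by rw [hS, d3]; decide) (by rw [hS, d3]; decide) hx
      · simpa [c, f, specMain] using zero_at S (χ := B') (by omega) (by rw [hS, hB']; decide) (by rw [hS, hB']; decide) hx
      · simpa [c, f, specMain] using zero_at S (χ := T.θ 0) (by rw [dt]; omega) (by rw [hS, dt]; decide) (by rw [hS, dt]; decide) hx
      · simpa [c, f, specMain] using zero_at S (χ := T.θ 1) (by rw [dt]; omega) (by rw [hS, dt]; decide) (by rw [hS, dt]; decide) hx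
      · simpa [c, f, specMain] using zero_at S (χ := C') (by omega) (by rw [hS, hC']; decide) (by rw [hS, hC']; decide) hx
    · have := S.at_p_θ x hx
      rw [sS.2.2] at this
      simpa [c, f, specMain] using this
  · intro x hx i
    exact at_five_of hG h5 hfd hr5 d0 hx i

set_option maxHeartbeats 1000000 in
theorem chars_alt (hT : T.list = (![21, 120, 210, 210], 280)) (hS : S.list = (![55, 120], 66)) :
    Nonempty (Chars G specAlt) := by
  classical
  haveI := irrFintype G
  haveI := Fact.mk (show Nat.Prime 5 by norm_num)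
  have dp := principal_dg (G := G) hG
  have d0 : dg (T.a 0) = 21 := by rw [dg, T.deg_a, hT]; rfl
  have d1 : dg (T.a 1) = 120 := by rw [dg, T.deg_a, hT]; rfl
  have d2 : dg (T.a 2) = 210 := by rw [dg, T.deg_a, hT]; rfl
  have d3 : dg (T.a 3) = 210 := by rw [dg, T.deg_a, hT]; rfl
  have dt : ∀ j, dg (T.θ j) = 280 := fun j => by rw [dg, T.deg_θ, hT]
  have e0 : dg (S.a 0) = 55 := by rw [dg, S.deg_a, hS]; rfl
  have e1 : dg (S.a 1) = 120 := by rw [dg, S.deg_a, hS]; rfl
  have et : ∀ j, dg (S.θ j) = 66 := fun j => by rw [dg, S.deg_θ, hS]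
  have s1 : T.a 1 = S.a 1 := by
    rcases S.known (T.a 1) with h | ⟨i, h⟩ | ⟨j, h⟩ | ⟨h, -⟩
    · rw [h, dp] at d1; omega
    · fin_cases i
      · rw [h] at d1; simp only [Fin.isValue, Fin.zero_eta, e0] at d1; omega
      · exact h
    · rw [h, et] at d1; omega
    · rw [d1] at h; omega
  obtain ⟨y, hy⟩ := exists_prime_orderOf_dvd_card' (G := G) 5 (by rw [hG]; norm_num)
  obtain ⟨v, hv, hv5, hSS⟩ := exists_val hG h5 hy
  let K : Finset (IrrCharacter G) :=
    {principal G, T.a 0, S.a 0, S.θ 0, S.θ 1, S.a 1, T.a 2, T.a 3, T.θ 0, T.θ 1}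
  have hKsum : ∑ χ ∈ K, dg χ ^ 2 + 5929 * 29 = 443520 := by
    have hne := S.θ_ne
    have hne' := T.θ_ne
    have hne'' : T.a 2 ≠ T.a 3 := T.a_ne (by decide)
    rw [Finset.sum_insert, Finset.sum_insert, Finset.sum_insert, Finset.sum_insert, Finset.sum_insert,
      Finset.sum_insert, Finset.sum_insert, Finset.sum_insert, Finset.sum_insert, Finset.sum_singleton]
    · simp only [dp, d0, d2, d3, dt, e0, e1, et]
      norm_num
    all_goals
      simp only [Finset.mem_insert, Finset.mem_singleton, not_or]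
      repeat' apply And.intro
    all_goals first
      | assumption
      | (intro h; have := congrArg dg h; simp only [dp, d0, d2, d3, dt, e0, e1, et] at this; omega)
  have h77 : ∀ χ ∉ K, 77 ∣ dg χ := by
    intro χ hχ
    simp only [K, Finset.mem_insert, Finset.mem_singleton, not_or] at hχ
    obtain ⟨k0, k1, k2, k3, k4, k5, k6, k7, k8, k9⟩ := hχ
    have h11 : 11 ∣ dg χ := by
      rcases T.known χ with h | ⟨i, h⟩ | ⟨j, h⟩ | ⟨h, -⟩
      · exact absurd h k0
      · fin_cases i
        · exact absurd h k1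
        · exact absurd (h.trans s1) k5
        · exact absurd h k6
        · exact absurd h k7
      · fin_cases j
        · exact absurd h k8
        · exact absurd h k9
      · exact h
    have h7 : 7 ∣ dg χ := by
      rcases S.known χ with h | ⟨i, h⟩ | ⟨j, h⟩ | ⟨h, -⟩
      · exact absurd h k0
      · fin_cases i
        · exact absurd h k2
        · exact absurd h k5
      · fin_cases j
        · exact absurd h k3
        · exact absurd h k4
      · exact h
    omega
  obtain ⟨A, B, C, hA, hB, hC, hr, hle⟩ := exists_new hG hv hv5 hSS d0 (K := K)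
    (U := {principal G, T.a 0, S.θ 0, S.θ 1}) (by
      intro χ hχ
      simp only [K, Finset.mem_insert, Finset.mem_singleton] at hχ ⊢
      tauto) (by
      intro χ hχ
      simp only [Finset.mem_insert, Finset.mem_singleton] at hχ
      rcases hχ with rfl | rfl | rfl | rfl
      · rw [dp]; norm_num
      · rw [d0]; norm_num
      · rw [et]; norm_num
      · rw [et]; norm_num) hKsum (by norm_num) h77
  have hU4 : ({principal G, T.a 0, S.θ 0, S.θ 1} : Finset (IrrCharacter G)).card = 4 := by
    rw [Finset.card_insert_of_notMem, Finset.card_insert_of_notMem, Finset.card_pair]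
    · exact S.θ_ne
    all_goals
      simp only [Finset.mem_insert, Finset.mem_singleton, not_or]
      repeat' apply And.intro
    all_goals (intro h; have := congrArg dg h; simp only [dp, d0, et] at this; omega)
  rw [hU4] at hle
  have hA1 : A.card = 1 ∧ C.card = 1 := by
    have hA2 : A.card ≤ 1 := by omega
    interval_cases A.card <;> omega
  obtain ⟨A', rfl⟩ := Finset.card_eq_one.1 hA1.1
  obtain ⟨C', rfl⟩ := Finset.card_eq_one.1 hA1.2
  let f : Fin 12 → IrrCharacter G :=
    ![principal G, T.a 0, S.a 0, S.θ 0, S.θ 1, S.a 1, A', T.a 2, T.a 3, T.θ 0, T.θ 1, C']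
  have hA' := hA A' (Finset.mem_singleton_self _)
  have hC' := hC C' (Finset.mem_singleton_self _)
  have hfd : ∀ i, dg (f i) = specAlt.deg i := by
    intro i
    fin_cases i <;> simp [f, specAlt, dp, d0, d2, d3, dt, e0, e1, et, hA', hC']
  have hinj : Function.Injective f := by
    intro i j h
    have h' := congrArg dg h
    rw [hfd, hfd] at h'
    fin_cases i <;> fin_cases j <;> first
      | rfl
      | (simp [specAlt] at h'; done)
      | exact absurd h S.θ_ne
      | exact absurd h.symm S.θ_ne
      | exact absurd h (T.a_ne (by decide))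
      | exact absurd h T.θ_ne
      | exact absurd h.symm T.θ_ne
  have hbij := bijective_of_sum hinj (by
    rw [hG]; simp only [hfd]; decide)
  let c := Equiv.ofBijective f hbij
  have hd : ∀ i, charDegree (c i : G → ℂ) = specAlt.deg i := hfd
  have hr5 : ∀ i, -1 ≤ specAlt.r5 i ∧ specAlt.r5 i ≤ 1 ∧ (5 : ℤ) ∣ specAlt.r5 i - specAlt.deg i := by decide
  have sT : T.sgn 0 = -1 ∧ T.sgn 1 = -1 ∧ T.sgn 2 = 1 ∧ T.sgn 3 = 1 ∧ T.ε = 1 := by
    have hh := T.sgn_eq
    have he := T.ε_eq
    rw [hT] at hh he
    have q0 := hh 0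
    have q1 := hh 1
    have q2 := hh 2
    have q3 := hh 3
    simp only [Matrix.cons_val_zero, Matrix.cons_val_one, Matrix.cons_val] at q0 q1 q2 q3 he
    omega
  have sS : S.sgn 0 = -1 ∧ S.sgn 1 = 1 ∧ S.ε = 1 := by
    have hh := S.sgn_eq
    have he := S.ε_eq
    rw [hS] at hh he
    have q0 := hh 0
    have q1 := hh 1
    simp only [Matrix.cons_val_zero, Matrix.cons_val_one, Matrix.cons_val] at q0 q1 he
    omega
  refine ⟨{ c := c, deg := hd, principal := rfl, rel_eleven := ?_, rel_seven := ?_, rel_five := ?_,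
            at_eleven := ?_, at_seven := ?_, at_five := ?_ }⟩
  · intro g hg
    have r0 := T.rel 0 g hg
    have r1 := T.rel 1 g hg
    rw [Fin.sum_univ_four, sT.1, sT.2.1, sT.2.2.1, sT.2.2.2.1, sT.2.2.2.2, s1] at r0 r1
    push_cast at r0 r1
    refine ⟨?_, ?_⟩
    · show (T.θ 0 : G → ℂ) g = (T.θ 1 : G → ℂ) g
      linear_combination r0 - r1
    · simp [Fin.sum_univ_succ, c, f, specAlt, principal_apply]
      linear_combination -r0
  · intro g hg
    have r0 := S.rel 0 g hg
    have r1 := S.rel 1 g hg
    rw [Fin.sum_univ_two, sS.1, sS.2.1, sS.2.2] at r0 r1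
    push_cast at r0 r1
    refine ⟨?_, ?_⟩
    · show (S.θ 0 : G → ℂ) g = (S.θ 1 : G → ℂ) g
      linear_combination r0 - r1
    · simp [Fin.sum_univ_succ, c, f, specAlt, principal_apply]
      linear_combination -r0
  · intro g hg
    exact rel_five_of hG h5 hy (fun i => at_five_of hG h5 hfd hr5 d0 hy i) hg
  · intro x hx
    refine ⟨fun i h1 h2 => ?_, ?_⟩
    · fin_cases i
      · simpa [c, f, specAlt] using principal_apply x
      · simpa [c, f, specAlt, sT.1] using T.at_p 0 x hx
      · simpa [c, f, specAlt] using zero_at T (χ := S.a 0) (by omega) (by rw [hT, e0]; decide) (by rw [hT, e0]; decide) hx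
      · simpa [c, f, specAlt] using zero_at T (χ := S.θ 0) (by rw [et]; omega) (by rw [hT, et]; decide) (by rw [hT, et]; decide) hx
      · simpa [c, f, specAlt] using zero_at T (χ := S.θ 1) (by rw [et]; omega) (by rw [hT, et]; decide) (by rw [hT, et]; decide) hx
      · simpa [c, f, specAlt, ← s1, sT.2.1] using T.at_p 1 x hx
      · simpa [c, f, specAlt] using zero_at T (χ := A') (by omega) (by rw [hT, hA']; decide) (by rw [hT, hA']; decide) hx
      · simpa [c, f, specAlt, sT.2.2.1] using T.at_p 2 x hx
      · simpa [c, f, specAlt, sT.2.2.2.1] using T.at_p 3 x hx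
      · exact absurd rfl h1
      · exact absurd rfl h2
      · simpa [c, f, specAlt] using zero_at T (χ := C') (by omega) (by rw [hT, hC']; decide) (by rw [hT, hC']; decide) hx
    · have := T.at_p_θ x hx
      rw [sT.2.2.2.2] at this
      simpa [c, f, specAlt] using this
  · intro x hx
    refine ⟨fun i h1 h2 => ?_, ?_⟩
    · fin_cases i
      · simpa [c, f, specAlt] using principal_apply x
      · simpa [c, f, specAlt] using zero_at S (χ := T.a 0) (by omega) (by rw [hS, d0]; decide) (by rw [hS, d0]; decide) hx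
      · simpa [c, f, specAlt, sS.1] using S.at_p 0 x hx
      · exact absurd rfl h1
      · exact absurd rfl h2
      · simpa [c, f, specAlt, sS.2.1] using S.at_p 1 x hx
      · simpa [c, f, specAlt] using zero_at S (χ := A') (by omega) (by rw [hS, hA']; decide) (by rw [hS, hA']; decide) hx
      · simpa [c, f, specAlt] using zero_at S (χ := T.a 2) (by omega) (by rw [hS, d2]; decide) (by rw [hS, d2]; decide) hx
      · simpa [c, f, specAlt] using zero_at S (χ := T.a 3) (by omega) (by rw [hS, d3]; decide) (by rw [hS, d3]; decide) hx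
      · simpa [c, f, specAlt] using zero_at S (χ := T.θ 0) (by rw [dt]; omega) (by rw [hS, dt]; decide) (by rw [hS, dt]; decide) hx
      · simpa [c, f, specAlt] using zero_at S (χ := T.θ 1) (by rw [dt]; omega) (by rw [hS, dt]; decide) (by rw [hS, dt]; decide) hx
      · simpa [c, f, specAlt] using zero_at S (χ := C') (by omega) (by rw [hS, hC']; decide) (by rw [hS, hC']; decide) hx
    · have := S.at_p_θ x hx
      rw [sS.2.2] at this
      simpa [c, f, specAlt] using this
  · intro x hx i
    exact at_five_of hG h5 hfd hr5 d0 hx i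

omit hG h5

/-- Piece D2. -/
theorem degrees : DegreesStmt.{u} := by
  intro G _ _ _ hG _ _ h5 T S h
  simp only [pairsFive, List.mem_cons, Prod.mk.injEq, List.not_mem_nil, or_false] at h
  rcases h with ⟨hT, hS⟩ | ⟨hT, hS⟩
  · exact .inl (chars_main hG h5 T S hT hS)
  · exact .inr (chars_alt hG h5 T S hT hS)

end CfsgLib.M22Order
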