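import Cfsg.Agent.Lib.M22Order.Interface
import Cfsg.Agent.Lib.M12Order.Tools
import Cfsg.Agent.Lib.CharApps.PrimeClassBound
import Cfsg.Agent.Lib.Small.Order7920

/-!
# Simple groups of order 443520: the values at an element of order five and the further degrees
-/

set_option autoImplicit false
set_option linter.style.haveILetI false
set_option linter.unusedSectionVars false

open Cfsg CfsgLib.Chars CfsgLib.CharApps CfsgLib.Blocks CfsgLib.Small

namespace CfsgLib.M22Order

universe u

variable {G : Type u} [Group G] [Finite G]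

/-- The degree. -/
noncomputable abbrev dg (χ : IrrCharacter G) : ℕ := charDegree (χ : G → ℂ)

namespace Table

variable {p n : ℕ} {lists : List ((Fin n → ℕ) × ℕ)} (T : Table G p n lists)

theorem θ_ne : T.θ 0 ≠ T.θ 1 := fun h => by
  have := @T.inj (Fin.natAdd n 0) (Fin.natAdd n 1) (by simpa [Fin.append_right] using h)
  simp [Fin.ext_iff] at this

theorem a_ne {i j : Fin n} (h : i ≠ j) : T.a i ≠ T.a j := fun e =>
  h (by simpa [Fin.ext_iff] using @T.inj (Fin.castAdd 2 i) (Fin.castAdd 2 j) (by simpa [Fin.append_left] using e))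

theorem a_ne_θ (i : Fin n) (j : Fin 2) : T.a i ≠ T.θ j := fun e => by
  have := @T.inj (Fin.castAdd 2 i) (Fin.natAdd n j) (by simpa [Fin.append_left, Fin.append_right] using e)
  simp [Fin.ext_iff] at this
  omega

theorem known (χ : IrrCharacter G) :
    χ = principal G ∨ (∃ i, χ = T.a i) ∨ (∃ j, χ = T.θ j) ∨
      (p ∣ dg χ ∧ ∀ x : G, orderOf x = p → (χ : G → ℂ) x = 0) := by
  rcases T.cover χ with h | ⟨i, h⟩ | h
  · exact .inl h
  · refine Fin.addCases (m := n) (n := 2) (motive := fun i => χ = Fin.append T.a T.θ i → _) ?_ ?_ i h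
    · exact fun i h => .inr (.inl ⟨i, by simpa [Fin.append_left] using h⟩)
    · exact fun j h => .inr (.inr (.inl ⟨j, by simpa [Fin.append_right] using h⟩))
  · exact .inr (.inr (.inr h))

end Table

variable (hG : Nat.card G = 443520)

include hG

theorem nonabelian [IsSimpleGroup G] : ¬ IsMulCommutative G := not_isMulCommutative_of_card (by rw [hG]; norm_num)

theorem principal_dg : dg (principal G) = 1 := (deg_eq_one_iff (principal G)).mp (principal_apply _)

theorem eq_principal_of_one [IsSimpleGroup G] {χ : IrrCharacter G} (h : dg χ = 1) : χ = principal G :=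
  eq_of_degree_one (nonabelian hG) h (principal_dg hG)

/-- All the nontrivial powers of an element of order five are conjugate. -/
theorem isConj_pow_five (h5 : LocalFive G) {y : G} (hy : orderOf y = 5) :
    ∀ j < 5, j ≠ 0 → IsConj (y ^ j) y := by
  classical
  haveI := Fact.mk (show Nat.Prime 5 by norm_num)
  haveI := Fintype.ofFinite G
  obtain ⟨P, hP⟩ : ∃ P : Sylow 5 G, (P : Subgroup G) = Subgroup.zpowers y := by
    refine ⟨Sylow.ofCard (Subgroup.zpowers y) ?_, Sylow.coe_ofCard _ _⟩
    rw [Nat.card_zpowers, hy, hG, show 443520 = 5 ^ 1 * 88704 by norm_num,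
      Nat.factorization_mul (by norm_num) (by norm_num), Nat.factorization_pow]
    simp [Nat.factorization_eq_zero_of_not_dvd (show ¬ 5 ∣ 88704 by norm_num),
      Nat.Prime.factorization_self (show Nat.Prime 5 by norm_num)]
  have hN := h5.norm P
  rw [hP] at hN
  set s := (Finset.univ : Finset G).filter
    (fun n => n ∈ Subgroup.normalizer ((Subgroup.zpowers y : Subgroup G) : Set G)) with hs
  have hsc : s.card = 20 := by
    rw [← hN, Nat.card_eq_fintype_card, Fintype.card_subtype]
  have him : s.image (fun n => n * y * n⁻¹) ⊆ ({1, 2, 3, 4} : Finset ℕ).image (y ^ ·) := by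
    intro z hz
    obtain ⟨n, hn, rfl⟩ := Finset.mem_image.1 hz
    rw [hs, Finset.mem_filter] at hn
    have hmem : n * y * n⁻¹ ∈ Subgroup.zpowers y :=
      (Subgroup.mem_normalizer_iff.1 hn.2 y).1 (Subgroup.mem_zpowers y)
    obtain ⟨k, hk, hk'⟩ := Finset.mem_image.1
      ((mem_zpowers_iff_mem_range_orderOf).1 hmem)
    rw [Finset.mem_range, hy] at hk
    refine Finset.mem_image.2 ⟨k, ?_, hk'⟩
    have hk0 : k ≠ 0 := by
      rintro rfl
      rw [pow_zero, eq_comm, conj_eq_one_iff] at hk'
      rw [hk', orderOf_one] at hy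
      omega
    simp only [Finset.mem_insert, Finset.mem_singleton]
    omega
  have hfib : ∀ z ∈ s.image (fun n => n * y * n⁻¹),
      (s.filter fun n => n * y * n⁻¹ = z).card ≤ 5 := by
    intro z hz
    obtain ⟨m, -, rfl⟩ := Finset.mem_image.1 hz
    rw [← h5.cent y hy, Nat.card_eq_fintype_card, Fintype.card_subtype]
    refine Finset.card_le_card_of_injOn (fun n => m⁻¹ * n) ?_ ?_
    · intro n hn
      rw [Finset.mem_coe, Finset.mem_filter] at hn
      simp only [Finset.coe_filter, Finset.mem_univ, true_and, Set.mem_setOf_eq]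
      rw [Subgroup.mem_centralizer_singleton_iff]
      have h := hn.2
      calc m⁻¹ * n * y = m⁻¹ * (n * y * n⁻¹) * n := by group
        _ = m⁻¹ * (m * y * m⁻¹) * n := by rw [h]
        _ = y * (m⁻¹ * n) := by group
    · exact fun a _ b _ h => mul_left_cancel h
  have h4 : 4 ≤ (s.image (fun n => n * y * n⁻¹)).card := by
    have := Finset.card_le_mul_card_image s 5 hfib
    omega
  have heq := Finset.eq_of_subset_of_card_le him
    ((Finset.card_image_le).trans (le_trans (by decide) h4))
  intro j hj hj0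
  have hmem : y ^ j ∈ s.image (fun n => n * y * n⁻¹) := by
    rw [heq]
    exact Finset.mem_image.2 ⟨j, by simp only [Finset.mem_insert, Finset.mem_singleton]; omega, rfl⟩
  obtain ⟨n, -, hn⟩ := Finset.mem_image.1 hmem
  exact (isConj_iff.2 ⟨n, hn⟩).symm

/-- The values at an element of order five. -/
theorem exists_val (h5 : LocalFive G) {y : G} (hy : orderOf y = 5) :
    ∃ v : IrrCharacter G → ℤ, (∀ χ, (v χ : ℂ) = (χ : G → ℂ) y) ∧ (∀ χ, (5 : ℤ) ∣ v χ - dg χ) ∧
      ∀ S : Finset (IrrCharacter G), ∑ χ ∈ S, v χ ^ 2 ≤ 5 := by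
  haveI := Fact.mk (show Nat.Prime 5 by norm_num)
  haveI := Fintype.ofFinite G
  choose v hv hv5 using fun χ : IrrCharacter G =>
    exists_int_of_rational χ hy (isConj_pow_five hG h5 hy)
  refine ⟨v, hv, hv5, fun S => ?_⟩
  have h := M12Order.sum_sq_le_card_cen (g := y) S v (fun χ _ => hv χ)
  rw [h5.cent y hy] at h
  exact_mod_cast h

/-- The values at an element of order five are determined by the degree. -/
theorem val_le_one [IsSimpleGroup G] {y : G} {v : IrrCharacter G → ℤ}
    (hv : ∀ χ, (v χ : ℂ) = (χ : G → ℂ) y) (hv5 : ∀ χ, (5 : ℤ) ∣ v χ - dg χ)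
    (hS : ∀ S : Finset (IrrCharacter G), ∑ χ ∈ S, v χ ^ 2 ≤ 5) {a : IrrCharacter G} (ha : dg a = 21)
    (χ : IrrCharacter G) : -1 ≤ v χ ∧ v χ ≤ 1 := by
  classical
  have hp : v (principal G) = 1 := by
    have := hv (principal G)
    rw [principal_apply] at this
    exact_mod_cast this
  have hap : principal G ≠ a := fun e => by
    have := principal_dg hG
    rw [e, ha] at this
    omega
  have ha5 := hv5 a
  rw [ha] at ha5
  have ha1 : 1 ≤ v a ^ 2 := by
    rcases eq_or_ne (v a) 0 with e | e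
    · rw [e] at ha5; omega
    · nlinarith [mul_self_pos.2 e]
  rcases eq_or_ne χ (principal G) with rfl | hχp
  · omega
  rcases eq_or_ne χ a with rfl | hχa
  · have h := hS {principal G, χ}
    rw [Finset.sum_pair hap, hp] at h
    have h1 : v χ ≤ 2 := by nlinarith
    have h2 : -2 ≤ v χ := by nlinarith
    push_cast at ha5
    omega
  · have h := hS {χ, principal G, a}
    rw [Finset.sum_insert (by simp [hχp, hχa]), Finset.sum_pair hap, hp] at h
    constructor <;> nlinarith

/-- Further characters: three of degrees `154`, `231`, `385`, or two of degrees `154`, `385`. -/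
theorem exists_new [IsSimpleGroup G] [Fintype (IrrCharacter G)] [DecidableEq (IrrCharacter G)] {y : G}
    {v : IrrCharacter G → ℤ} (hv : ∀ χ, (v χ : ℂ) = (χ : G → ℂ) y) (hv5 : ∀ χ, (5 : ℤ) ∣ v χ - dg χ)
    (hS : ∀ S : Finset (IrrCharacter G), ∑ χ ∈ S, v χ ^ 2 ≤ 5) {a : IrrCharacter G} (ha : dg a = 21)
    {K U : Finset (IrrCharacter G)} (hUK : U ⊆ K) (hU : ∀ χ ∈ U, ¬ 5 ∣ dg χ) {r : ℕ}
    (hK : ∑ χ ∈ K, dg χ ^ 2 + 5929 * r = 443520) (hr : r ≤ 38)
    (h77 : ∀ χ ∉ K, 77 ∣ dg χ) :
    ∃ A B C : Finset (IrrCharacter G), (∀ χ ∈ A, dg χ = 154) ∧ (∀ χ ∈ B, dg χ = 231) ∧ (∀ χ ∈ C, dg χ = 385) ∧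
      4 * A.card + 9 * B.card + 25 * C.card = r ∧ A.card + B.card + U.card ≤ 5 := by
  set X := Finset.univ \ K
  have hX : ∀ χ ∈ X, ∃ m, dg χ = 77 * m := fun χ hχ => h77 χ (Finset.mem_sdiff.1 hχ).2
  have htot := sum_degree_sq_nat (G := G)
  rw [hG, ← Finset.sum_sdiff (Finset.subset_univ K)] at htot
  have hsum : ∑ χ ∈ X, (dg χ / 77) ^ 2 = r := by
    have h1 : ∀ χ ∈ X, dg χ ^ 2 = 5929 * (dg χ / 77) ^ 2 := fun χ hχ => by
      obtain ⟨m, hm⟩ := hX χ hχ
      rw [hm, Nat.mul_div_cancel_left _ (by norm_num)]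
      ring
    have h2 : ∑ χ ∈ X, dg χ ^ 2 = 5929 * ∑ χ ∈ X, (dg χ / 77) ^ 2 := by
      rw [Finset.mul_sum]; exact Finset.sum_congr rfl h1
    have h3 : ∑ χ ∈ X, dg χ ^ 2 + ∑ χ ∈ K, dg χ ^ 2 = 443520 := htot
    omega
  have hval : ∀ χ ∈ X, dg χ = 154 ∨ dg χ = 231 ∨ dg χ = 385 := by
    intro χ hχ
    obtain ⟨m, hm⟩ := hX χ hχ
    have hle : (dg χ / 77) ^ 2 ≤ r := hsum ▸ Finset.single_le_sum (f := fun ψ => (dg ψ / 77) ^ 2)
      (fun _ _ => Nat.zero_le _) hχ
    rw [hm, Nat.mul_div_cancel_left _ (by norm_num)] at hle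
    have hm7 : m ≤ 6 := by
      by_contra h
      nlinarith
    have hm0 : m ≠ 0 := fun h => (CfsgLib.Blocks.charDegree_pos χ).ne' (by
      show dg χ = 0
      rw [hm, h])
    have h5' := hv5 χ
    have hb := val_le_one hG hv hv5 hS ha χ
    rw [hm] at h5'
    push_cast at h5'
    interval_cases m <;> omega
  refine ⟨X.filter fun χ => dg χ = 154, X.filter fun χ => dg χ = 231, X.filter fun χ => dg χ = 385,
    fun χ h => (Finset.mem_filter.1 h).2, fun χ h => (Finset.mem_filter.1 h).2,
    fun χ h => (Finset.mem_filter.1 h).2, ?_, ?_⟩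
  · rw [← hsum, Finset.card_filter, Finset.card_filter, Finset.card_filter, Finset.mul_sum, Finset.mul_sum,
      Finset.mul_sum, ← Finset.sum_add_distrib, ← Finset.sum_add_distrib]
    refine Finset.sum_congr rfl fun χ hχ => ?_
    rcases hval χ hχ with h | h | h <;> simp [h]
  · set A := X.filter fun χ => dg χ = 154
    set B := X.filter fun χ => dg χ = 231
    have hAB : Disjoint A B := Finset.disjoint_left.2 fun χ h1 h2 => by
      rw [Finset.mem_filter] at h1 h2
      omega
    have hU' : Disjoint (A ∪ B) U := Finset.disjoint_left.2 fun χ h1 h2 => by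
      have h3 : χ ∈ X := by
        rcases Finset.mem_union.1 h1 with h | h <;> exact (Finset.mem_filter.1 h).1
      exact (Finset.mem_sdiff.1 h3).2 (hUK h2)
    have hne : ∀ χ ∈ A ∪ B ∪ U, 1 ≤ v χ ^ 2 := by
      intro χ hχ
      have h5' := hv5 χ
      have hd : ¬ 5 ∣ dg χ := by
        rcases Finset.mem_union.1 hχ with h | h
        · rcases Finset.mem_union.1 h with h | h <;> rw [(Finset.mem_filter.1 h).2] <;> norm_num
        · exact hU χ h
      rcases eq_or_ne (v χ) 0 with e | e
      · rw [e] at h5'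
        exfalso
        refine hd ?_
        omega
      · nlinarith [mul_self_pos.2 e]
    have h := hS (A ∪ B ∪ U)
    have h2 : ((A ∪ B ∪ U).card : ℤ) ≤ ∑ χ ∈ A ∪ B ∪ U, v χ ^ 2 := by
      simpa using Finset.sum_le_sum hne
    rw [Finset.card_union_of_disjoint hU', Finset.card_union_of_disjoint hAB] at h2
    omega

omit hG

/-- Twelve distinct characters whose squared degrees fill the order are all the characters. -/
theorem bijective_of_sum [Fintype (IrrCharacter G)] {c : Fin 12 → IrrCharacter G} (hinj : Function.Injective c)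
    (h : ∑ i, dg (c i) ^ 2 = Nat.card G) : Function.Bijective c := by
  classical
  refine ⟨hinj, fun χ => ?_⟩
  by_contra hne
  push Not at hne
  have htot := sum_degree_sq_nat (G := G)
  have hsub := Finset.sum_le_univ_sum_of_nonneg (s := insert χ (Finset.univ.image c)) (f := fun ψ => dg ψ ^ 2)
    (fun _ => Nat.zero_le _)
  rw [Finset.sum_insert (by simpa using fun i => hne i), Finset.sum_image (fun i _ j _ e => hinj e), h] at hsub
  rw [htot] at hsub
  have h1 : 1 ≤ dg χ ^ 2 := Nat.one_le_pow _ _ (CfsgLib.Blocks.charDegree_pos χ)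
  omega

end CfsgLib.M22Order
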