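import Cfsg.Agent.Lib.M22Order.BlockArith

/-!
# Simple groups of order 443520: the search for block values next to an involution centralizing a
Sylow subgroup of order eleven

A signed degree `f` and a signed value `u` are congruent modulo 44.  The search runs over all
multisets of the possible pairs for each possible centralizer order.
-/

set_option autoImplicit false
set_option linter.style.haveILetI false

namespace CfsgLib.M22Order.ElevenArith

open CfsgLib.M22Order.BlockArith

/-- The signed degrees congruent to one modulo eleven. -/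
def signedDegs : List ℤ := [-10, 12, -21, -32, 45, 56, -120, 144, 210, -252, 320, -384, -560]

/-- The possible signed values for a signed degree. -/
def opts (C : ℕ) : List (ℤ × ℤ) :=
  signedDegs.flatMap fun f =>
    ((List.range (f.natAbs / 22 + 1)).map fun i : ℕ => (f, f - f.sign * (44 * (i : ℤ)))).filter fun p =>
      decide (p.2.natAbs < f.natAbs ∧ p.2 * p.2 < (C : ℤ) ∧ f ∣ ((443520 / C : ℕ) : ℤ) * p.2)

theorem mem_opts {C : ℕ} {f u : ℤ} (hf : f ∈ signedDegs) (h44 : (44 : ℤ) ∣ f - u)
    (hlt : u.natAbs < f.natAbs) (hsq : u * u < (C : ℤ)) (hdvd : f ∣ ((443520 / C : ℕ) : ℤ) * u) :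
    (f, u) ∈ opts C := by
  obtain ⟨j, hj⟩ := h44
  refine List.mem_flatMap.2 ⟨f, hf, List.mem_filter.2 ⟨List.mem_map.2 ?_, decide_eq_true ⟨hlt, hsq, hdvd⟩⟩⟩
  rcases lt_trichotomy f 0 with hf0 | hf0 | hf0
  · refine ⟨(-j).toNat, List.mem_range.2 (by omega), ?_⟩
    rw [Int.sign_eq_neg_one_of_neg hf0, Prod.mk.injEq]
    exact ⟨rfl, by omega⟩
  · subst hf0
    simp [signedDegs] at hf
  · refine ⟨j.toNat, List.mem_range.2 (by omega), ?_⟩
    rw [Int.sign_eq_one_of_pos hf0, Prod.mk.injEq]
    exact ⟨rfl, by omega⟩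

/-- The final test: `m` exceptional characters, or none to be left when `m = 0`. -/
def leaf (C m : ℕ) (dd ss D S : ℤ) : Bool :=
  if m = 0 then decide (¬ (1 + D = 0 ∧ 1 + S = 0))
  else decide (¬ (2 ≤ (1 + D).natAbs ∧ 443520 % (1 + D).natAbs = 0 ∧
    (1 + S).natAbs < (1 + D).natAbs ∧ 1 + dd + (m : ℤ) * ((1 + D) * (1 + D)) ≤ 443520 ∧
    1 + ss + (m : ℤ) * ((1 + S) * (1 + S)) ≤ (C : ℤ) ∧ (44 : ℤ) ∣ (1 + S) - (1 + D) ∧
    (1 + D) ∣ ((443520 / C : ℕ) : ℤ) * (1 + S)))

/-- The search for `k` further characters. -/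
def go (C m : ℕ) : ℕ → List (ℤ × ℤ) → ℤ → ℤ → ℤ → ℤ → Bool
  | 0, _, dd, ss, D, S => leaf C m dd ss D S
  | k + 1, O, dd, ss, D, S => O.tails.all fun l =>
      match l with
      | [] => true
      | o :: os =>
        if 1 + (dd + o.1 * o.1) ≤ 443520 ∧ 1 + (ss + o.2 * o.2) ≤ (C : ℤ) then
          go C m k (o :: os) (dd + o.1 * o.1) (ss + o.2 * o.2) (D + o.1) (S + o.2)
        else true

/-- The sum of a function over a list. -/
def tot (φ : ℤ × ℤ → ℤ) (l : List (ℤ × ℤ)) : ℤ := (l.map φ).sum

theorem tot_nonneg {φ : ℤ × ℤ → ℤ} (hφ : ∀ p, 0 ≤ φ p) (l : List (ℤ × ℤ)) : 0 ≤ tot φ l := by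
  refine List.sum_nonneg fun x hx => ?_
  obtain ⟨p, -, rfl⟩ := List.mem_map.1 hx
  exact hφ p

theorem exists_first : ∀ {O : List (ℤ × ℤ)} {l : List (ℤ × ℤ)}, l ≠ [] → (∀ p ∈ l, p ∈ O) →
    ∃ o os, o :: os ∈ O.tails ∧ o ∈ l ∧ ∀ p ∈ l, p ∈ o :: os
  | [], l, hl, h => by
    obtain ⟨p, hp⟩ := List.exists_mem_of_ne_nil l hl
    exact absurd (h p hp) List.not_mem_nil
  | o :: os, l, hl, h => by
    by_cases ho : o ∈ l
    · exact ⟨o, os, by simp, ho, h⟩
    · obtain ⟨o', os', h1, h2, h3⟩ := exists_first (O := os) hl fun p hp =>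
        (List.mem_cons.1 (h p hp)).resolve_left fun e => ho (e ▸ hp)
      exact ⟨o', os', by rw [List.tails_cons]; exact List.mem_cons_of_mem _ h1, h2, h3⟩

/-- What a successful search says. -/
theorem go_sound {C m : ℕ} : ∀ (k : ℕ) (O : List (ℤ × ℤ)) (dd ss D S : ℤ), go C m k O dd ss D S = true →
    ∀ l : List (ℤ × ℤ), l.length = k → (∀ p ∈ l, p ∈ O) →
      1 + (dd + tot (fun p => p.1 * p.1) l) ≤ 443520 → 1 + (ss + tot (fun p => p.2 * p.2) l) ≤ (C : ℤ) →
      leaf C m (dd + tot (fun p => p.1 * p.1) l) (ss + tot (fun p => p.2 * p.2) l)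
        (D + tot Prod.fst l) (S + tot Prod.snd l) = true
  | 0, O, dd, ss, D, S, h, l, hl, _, _, _ => by
    rw [List.length_eq_zero_iff.1 hl]
    simpa [tot, go] using h
  | k + 1, O, dd, ss, D, S, h, l, hl, hmem, hd, hs => by
    obtain ⟨o, os, ht, ho, hl'⟩ := exists_first (List.ne_nil_of_length_eq_add_one hl) hmem
    have hperm := List.perm_cons_erase ho
    have hsum : ∀ φ : ℤ × ℤ → ℤ, tot φ l = φ o + tot φ (l.erase o) := fun φ => by
      rw [tot, tot, (hperm.map φ).sum_eq, List.map_cons, List.sum_cons]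
    rw [go, List.all_eq_true] at h
    have h' := h _ ht
    simp only [hsum] at hd hs ⊢
    have h1 := tot_nonneg (φ := fun p => p.1 * p.1) (fun p => mul_self_nonneg _) (l.erase o)
    have h2 := tot_nonneg (φ := fun p => p.2 * p.2) (fun p => mul_self_nonneg _) (l.erase o)
    simp only at h'
    rw [if_pos ⟨by omega, by omega⟩] at h'
    have key := go_sound k (o :: os) _ _ _ _ h' (l.erase o) (by
      rw [List.length_erase_of_mem ho]; omega) (fun p hp => hl' p (List.mem_of_mem_erase hp))
      (by omega) (by omega)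
    simpa only [add_assoc] using key

/-- The orders of centralizers that the search leaves for four characters. -/
def leftFour : List ℕ := [2112, 4224, 4928]

/-- The possible orders of centralizers. -/
def centList : List ℕ := (List.range 20160).filterMap fun i =>
  if 20160 % (i + 1) = 0 then some (22 * (i + 1)) else none

/-- One search. -/
def search (C m n : ℕ) : Bool := go C m n (opts C) 0 0 0 0

theorem search_one : centList.all (fun C => search C 5 1) = true := by decide +kernel

theorem search_four : centList.all (fun C => decide (C ∈ leftFour) || search C 2 4) = true := by decide +kernel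

theorem search_ten : centList.all (fun C => decide (C = 4928) || search C 0 10) = true := by decide +kernel

theorem centList_complete : ∀ k ∈ Nat.divisors 20160, 22 * k ∈ centList := by decide +kernel

end CfsgLib.M22Order.ElevenArith
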