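import Cfsg.Agent.Lib.M22Order.BlockTable
import Cfsg.Agent.Lib.M22Order.ElevenArith
import Cfsg.Agent.Lib.M12Order.FiveEvenTools

/-!
# Simple groups of order 443520: the Sylow subgroups of order eleven

An involution centralizing a Sylow subgroup of order eleven leaves three orders for its centralizer
by the values on the principal block; in each of them Burnside's transfer gives a contradiction.
-/

set_option autoImplicit false
set_option linter.style.haveILetI false
set_option linter.unusedSectionVars false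

open Cfsg CfsgLib.Chars CfsgLib.CharApps CfsgLib.Blocks CfsgLib.Small

namespace CfsgLib.M22Order.Eleven

open CfsgLib.M22Order.BlockTable CfsgLib.M22Order.BlockArith CfsgLib.M22Order.ElevenArith

universe u

section Arith

set_option maxRecDepth 100000
set_option synthInstance.maxHeartbeats 100000
set_option synthInstance.maxSize 4096

theorem signed_mem : ∀ d ∈ neDegs,
    (d % 11 = 1 → (d : ℤ) ∈ signedDegs) ∧ (d % 11 = 10 → -(d : ℤ) ∈ signedDegs) := by
  decide +kernel

theorem sylow_count : ∀ n ∈ Nat.divisors 40320, n % 11 = 1 →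
    n ∈ ([1, 12, 45, 56, 144, 210, 320, 672, 2520, 8064] : List ℕ) := by
  decide +kernel

theorem sylow_count_small : ∀ m ∈ ([192, 384, 448] : List ℕ), ∀ n ∈ Nat.divisors m, n % 11 = 1 →
    n = 1 ∨ (m = 192 ∧ n = 12) ∨ (m = 384 ∧ n = 12) ∨ (m = 448 ∧ n = 56) := by
  decide +kernel

theorem two_list : ∀ d ∈ neDegs, ∀ s ∈ ([1, -1] : List ℤ), (s * (d : ℤ) - 1) % 11 = 0 →
    2 ≤ (1 + s * (d : ℤ)).natAbs → 443520 % (1 + s * (d : ℤ)).natAbs = 0 →
    1 + d * d + 5 * ((1 + s * (d : ℤ)).natAbs * (1 + s * (d : ℤ)).natAbs) ≤ 443520 →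
    d = 21 ∨ (1 + s * (d : ℤ)).natAbs = 9 := by
  decide +kernel

end Arith

/-- An element of order eleven centralizes a two-group of order at most `2 ^ 7` that it normalizes. -/
theorem le_cen_of_normalized {H : Type*} [Group H] [Finite H] {x : H} (hx : orderOf x = 11)
    {S : Subgroup H} {k : ℕ} (hk : k ≤ 7) (hS : Nat.card S = 2 ^ k)
    (hn : x ∈ Subgroup.normalizer (S : Set H)) : S ≤ Subgroup.centralizer ({x} : Set H) := by
  haveI := Fact.mk (show Nat.Prime 11 by norm_num)
  have hz : Subgroup.zpowers x ≤ Subgroup.normalizer (S : Set H) := Subgroup.zpowers_le.2 hn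
  letI : MulAction (Subgroup.zpowers x) S :=
    { smul := fun y s => ⟨(y : H) * s * (y : H)⁻¹, (Subgroup.mem_normalizer_iff.1 (hz y.2) s).1 s.2⟩
      one_smul := fun s => Subtype.ext (by show (1 : H) * s * (1 : H)⁻¹ = s; simp)
      mul_smul := fun a b s => Subtype.ext (by
        show ((a : H) * b) * s * ((a : H) * b)⁻¹ = (a : H) * ((b : H) * s * (b : H)⁻¹) * (a : H)⁻¹
        group) }
  have hsm : ∀ (y : Subgroup.zpowers x) (s : S), ((y • s : S) : H) = (y : H) * s * (y : H)⁻¹ := fun _ _ => rfl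
  have hP : IsPGroup 11 (Subgroup.zpowers x) :=
    IsPGroup.of_card (n := 1) (by rw [Nat.card_zpowers, hx, pow_one])
  set T := S ⊓ Subgroup.centralizer ({x} : Set H) with hT
  have hfix : Nat.card (MulAction.fixedPoints (Subgroup.zpowers x) S) = Nat.card T := by
    refine Nat.card_congr
      { toFun := fun s => ⟨(s.1 : H), s.1.2, Subgroup.mem_centralizer_singleton_iff.2 (by
          have h := congrArg Subtype.val (s.2 ⟨x, Subgroup.mem_zpowers x⟩)
          rw [hsm] at h
          exact (mul_inv_eq_iff_eq_mul.1 h).symm)⟩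
        invFun := fun s => ⟨⟨(s : H), s.2.1⟩, fun y => Subtype.ext (by
          rw [hsm]
          obtain ⟨j, hj⟩ := y.2
          have hc : Commute x (s : H) := (Subgroup.mem_centralizer_singleton_iff.1 s.2.2).symm
          show (y : H) * s * (y : H)⁻¹ = s
          rw [← hj]
          exact (hc.zpow_left j).mul_inv_cancel)⟩
        left_inv := fun _ => rfl
        right_inv := fun _ => rfl }
  have hmod := hP.card_modEq_card_fixedPoints (α := S)
  rw [hfix, hS] at hmod
  obtain ⟨j, hjk, hj⟩ := (Nat.dvd_prime_pow Nat.prime_two).1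
    (hS ▸ Subgroup.card_dvd_of_le (inf_le_left : T ≤ S))
  rw [hj] at hmod
  have key : ∀ k < 8, ∀ j < k + 1, 2 ^ k % 11 = 2 ^ j % 11 → j = k := by decide
  obtain rfl := key k (by omega) j (by omega) hmod
  exact (Subgroup.eq_of_le_of_card_ge (inf_le_left : T ≤ S) (by rw [hS, hj])) ▸ inf_le_right

/-- Transfer: the Sylow two-subgroup is centralized. -/
theorem two_power_dvd_centralizer {H : Type*} [Group H] [Finite H] (Q : Sylow 11 H)
    (hQ : Nat.card (Q : Subgroup H) = 11)
    (hle : Subgroup.normalizer ((Q : Subgroup H) : Set H) ≤ Subgroup.centralizer ((Q : Subgroup H) : Set H))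
    {k r : ℕ} (hk : k ≤ 7) (hH : Nat.card H = 11 * (2 ^ k * r)) (hr : ¬ 2 ∣ r) (hr11 : ¬ 11 ∣ 2 ^ k * r) :
    2 ^ k ∣ Nat.card (Subgroup.centralizer ((Q : Subgroup H) : Set H)) := by
  haveI := Fact.mk (show Nat.Prime 11 by norm_num)
  haveI := Fact.mk Nat.prime_two
  set M := (MonoidHom.transferSylow Q hle).ker with hM
  have hc := (MonoidHom.ker_transferSylow_isComplement' Q hle).card_mul_card
  rw [← hM, hQ, hH] at hc
  have hMc : Nat.card M = 2 ^ k * r := by omega
  obtain ⟨S⟩ := (inferInstance : Nonempty (Sylow 2 M))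
  have hS : Nat.card (S : Subgroup M) = 2 ^ k := card_sylow_eq (p := 2) k r hMc hr S
  set S' := (S : Subgroup M).map M.subtype with hS'
  have hS'c : Nat.card S' = 2 ^ k := by rw [hS', Subgroup.card_map_of_injective M.subtype_injective, hS]
  set X := Subgroup.normalizer (S' : Set H) with hX
  have hcard := CfsgLib.Base.card_sup_dvd X M
  rw [Sylow.normalizer_sup_eq_top S, Subgroup.card_top, hH, hMc] at hcard
  have h11 : 11 ∣ Nat.card X :=
    ((Nat.Prime.coprime_iff_not_dvd (by norm_num)).2 hr11).dvd_of_dvd_mul_right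
      ((Dvd.intro _ rfl).trans hcard)
  obtain ⟨x, hx⟩ := exists_prime_orderOf_dvd_card' (G := X) 11 h11
  have hxo : orderOf (x : H) = 11 := by rw [Subgroup.orderOf_coe, hx]
  have hle' : S' ≤ Subgroup.centralizer ((Subgroup.zpowers (x : H) : Subgroup H) : Set H) := by
    rw [Subgroup.zpowers_eq_closure, Subgroup.centralizer_closure]
    exact le_cen_of_normalized hxo hk hS'c x.2
  obtain ⟨R, hR⟩ := (IsPGroup.of_card (p := 11) (n := 1) (show Nat.card (Subgroup.zpowers (x : H)) = 11 ^ 1 by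
    rw [Nat.card_zpowers, hxo, pow_one])).exists_le_sylow
  have hRc : Nat.card (R : Subgroup H) = 11 := by
    rw [R.card_eq_multiplicity, ← Q.card_eq_multiplicity, hQ]
  have hRz : Subgroup.zpowers (x : H) = (R : Subgroup H) :=
    Subgroup.eq_of_le_of_card_ge hR (by rw [hRc, Nat.card_zpowers, hxo])
  obtain ⟨g, hg⟩ := MulAction.exists_smul_eq H R Q
  rw [hRz] at hle'
  have hle2 : S'.map (MulAut.conj g).toMonoidHom ≤ Subgroup.centralizer ((Q : Subgroup H) : Set H) := by
    rintro _ ⟨s, hs, rfl⟩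
    refine Subgroup.mem_centralizer_iff.2 fun q hq => ?_
    rw [← hg, Sylow.smul_def] at hq
    obtain ⟨v, hv, rfl⟩ := hq
    have h := Subgroup.mem_centralizer_iff.1 (hle' hs) v hv
    show g * v * g⁻¹ * (g * s * g⁻¹) = g * s * g⁻¹ * (g * v * g⁻¹)
    calc g * v * g⁻¹ * (g * s * g⁻¹) = g * (v * s) * g⁻¹ := by group
      _ = g * (s * v) * g⁻¹ := by rw [h]
      _ = g * s * g⁻¹ * (g * v * g⁻¹) := by group
  have hd := Subgroup.card_dvd_of_le hle2
  rwa [Subgroup.card_map_of_injective (MulAut.conj g).injective, hS'c] at hd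

variable {G : Type u} [Group G] [Finite G] [IsSimpleGroup G] (hG : Nat.card G = 443520)

include hG

/-- The orders of centralizers that the values on the block leave. -/
theorem cent_of_signed {t : G} (ht : t * t = 1) (ht1 : t ≠ 1) (hC11 : 11 ∣ Nat.card (cen t))
    {M : Ideal AlgInt} (hM : IsPModular 11 M) {n m : ℕ}
    (hnm : (n = 1 ∧ m = 5) ∨ (n = 4 ∧ m = 2) ∨ (n = 10 ∧ m = 0))
    (S Y : Finset (IrrCharacter G)) (hS : S.card = n) (hY : Y.card = m) (hdisj : Disjoint S Y)
    (hin' : ∀ χ, χ ∈ S ∨ χ ∈ Y → χ ∈ principalBlock M G ∧ χ ≠ principal G) (s : IrrCharacter G → ℤ)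
    (hs : ∀ χ ∈ S, (s χ = 1 ∨ s χ = -1) ∧ (s χ * (charDegree (χ : G → ℂ) : ℤ) - 1) % 11 = 0)
    {ε : ℤ} (hε : ε = 1 ∨ ε = -1)
    (hTd : ∀ θ ∈ Y, ε * (charDegree (θ : G → ℂ) : ℤ) = 1 + ∑ χ ∈ S, s χ * (charDegree (χ : G → ℂ) : ℤ))
    (hTv : ∀ θ ∈ Y, (ε : ℂ) * (θ : G → ℂ) t = 1 + ∑ χ ∈ S, (s χ : ℂ) * (χ : G → ℂ) t)
    (h0d : m = 0 → 1 + ∑ χ ∈ S, s χ * (charDegree (χ : G → ℂ) : ℤ) = 0)
    (h0v : m = 0 → 1 + ∑ χ ∈ S, (s χ : ℂ) * (χ : G → ℂ) t = 0) :
    n ≠ 1 ∧ Nat.card (cen t) ∈ leftFour ∧ (n = 10 → Nat.card (cen t) = 4928) := by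
  classical
  haveI := Fintype.ofFinite G
  haveI := irrFintype G
  haveI := Fact.mk (show Nat.Prime 11 by norm_num)
  haveI := hM.2.1.isPrime
  have hsq : ¬ 11 ^ 2 ∣ Nat.card G := by rw [hG]; norm_num
  have hin : ∀ χ ∈ S ∪ Y, χ ∈ principalBlock M G ∧ χ ≠ principal G := fun χ hχ => hin' χ (Finset.mem_union.1 hχ)
  have hdata : ∀ χ : IrrCharacter G, ∃ j : ℤ, (j : ℂ) = (χ : G → ℂ) t := fun χ => exists_int_apply_involution ht χ
  choose v hv using hdata
  set C := Nat.card (cen t) with hC
  have hKC := index_mul_card_cen hG t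
  rw [← hC] at hKC
  have hK : (cen t).index = 443520 / C := by
    rw [← hKC, Nat.mul_div_cancel _ Nat.card_pos]
  -- facts for each character
  have hper : ∀ χ ∈ S ∪ Y, (4 : ℤ) ∣ (charDegree (χ : G → ℂ) : ℤ) - v χ ∧
      (11 : ℤ) ∣ v χ - (charDegree (χ : G → ℂ) : ℤ) ∧ (v χ).natAbs < charDegree (χ : G → ℂ) ∧
      (charDegree (χ : G → ℂ) : ℤ) ∣ ((443520 / C : ℕ) : ℤ) * v χ ∧ charDegree (χ : G → ℂ) ≠ 1 := by
    intro χ hχ
    obtain ⟨hB, hne⟩ := hin χ hχ
    have hd1 : charDegree (χ : G → ℂ) ≠ 1 := fun h => hne (eq_principal hG h)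
    obtain ⟨j, hj, h4, hlo, hhi⟩ := involution_value hG ht ht1 χ hd1
    have hjv : j = v χ := by exact_mod_cast hj.trans (hv χ).symm
    subst hjv
    have h11 := int_congr_of_principalBlock hM hsq hB hC11 (hv χ)
    have hkm := M12Order.dvd_index_mul χ (hv χ)
    rw [hK] at hkm
    have hneg : v χ ≠ -(charDegree (χ : G → ℂ) : ℤ) := fun h =>
      apply_ne_neg_degree hG ht ht1 χ hne (by rw [← hv χ, h]; push_cast; rfl)
    exact ⟨h4, by exact_mod_cast h11, by omega, hkm, hd1⟩
  -- the sums of squares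
  have hprin : principal G ∉ S ∪ Y := fun h => (hin _ h).2 rfl
  have hv1 : v (principal G) = 1 := by
    have h := hv (principal G)
    rw [principal_apply] at h
    exact_mod_cast h
  have hss : 1 + ∑ χ ∈ S, v χ * v χ + ∑ θ ∈ Y, v θ * v θ ≤ (C : ℤ) := by
    have h := M12Order.sum_sq_le_card_cen (g := t) (insert (principal G) (S ∪ Y)) v fun χ _ => hv χ
    rw [Finset.sum_insert hprin, Finset.sum_union hdisj, hv1] at h
    simp only [pow_two] at h
    rw [hC]
    show _ ≤ ((Nat.card (cen t) : ℕ) : ℤ)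
    linarith
  have hdd : 1 + ∑ χ ∈ S, (charDegree (χ : G → ℂ) : ℤ) * charDegree (χ : G → ℂ) +
      ∑ θ ∈ Y, (charDegree (θ : G → ℂ) : ℤ) * charDegree (θ : G → ℂ) ≤ 443520 := by
    have h := sum_degree_sq_nat (G := G)
    have h' := Finset.sum_le_univ_sum_of_nonneg (s := insert (principal G) (S ∪ Y))
      (f := fun χ : IrrCharacter G => charDegree (χ : G → ℂ) ^ 2) fun χ => Nat.zero_le _
    rw [h, hG, Finset.sum_insert hprin, Finset.sum_union hdisj, principal_degree hG] at h'
    have h2 : ((1 ^ 2 + (∑ χ ∈ S, charDegree (χ : G → ℂ) ^ 2 + ∑ θ ∈ Y, charDegree (θ : G → ℂ) ^ 2) : ℕ) : ℤ) ≤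
        443520 := by exact_mod_cast h'
    push_cast at h2
    simp only [pow_two] at h2
    linarith
  -- the list
  set l : List (ℤ × ℤ) := S.toList.map fun χ => (s χ * (charDegree (χ : G → ℂ) : ℤ), s χ * v χ) with hl
  have htot : ∀ φ : ℤ × ℤ → ℤ, tot φ l = ∑ χ ∈ S, φ (s χ * (charDegree (χ : G → ℂ) : ℤ), s χ * v χ) := fun φ => by
    rw [tot, hl, List.map_map]
    exact Finset.sum_map_toList S _
  have hsgn : ∀ χ ∈ S, s χ * s χ = 1 := fun χ hχ => by rcases (hs χ hχ).1 with h | h <;> rw [h] <;> rfl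
  have hmem : ∀ p ∈ l, p ∈ opts C := by
    intro p hp
    obtain ⟨χ, hχ, rfl⟩ := List.mem_map.1 hp
    rw [Finset.mem_toList] at hχ
    obtain ⟨h4, h11, hlt, hkm, hd1⟩ := hper χ (Finset.mem_union_left _ hχ)
    obtain ⟨hs1, hs2⟩ := hs χ hχ
    obtain ⟨hdlt, hddvd, -⟩ := degree_facts hG χ
    have hd := ne_degree_list _ hdlt hddvd hd1 (by rcases hs1 with h | h <;> rw [h] at hs2 <;> omega)
    obtain ⟨hp1, hn1⟩ := signed_mem _ hd
    have hsq' : v χ * v χ < (C : ℤ) := by
      have h1 := Finset.single_le_sum (f := fun χ : IrrCharacter G => v χ * v χ)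
        (fun _ _ => mul_self_nonneg _) hχ
      have h2 : 0 ≤ ∑ θ ∈ Y, v θ * v θ := Finset.sum_nonneg fun _ _ => mul_self_nonneg _
      omega
    rcases hs1 with h | h <;> rw [h] at hs2 ⊢
    · simp only [one_mul] at hs2 ⊢
      exact mem_opts (hp1 (by omega)) (by omega) (by omega) hsq' hkm
    · simp only [neg_one_mul] at hs2 ⊢
      exact mem_opts (hn1 (by omega)) (by omega) (by omega) (by rwa [neg_mul_neg]) (by
        rw [mul_neg]; exact neg_dvd.2 (dvd_neg.2 hkm))
  have hlen : l.length = n := by rw [hl, List.length_map, Finset.length_toList, hS]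
  have hd2 : tot (fun p => p.1 * p.1) l = ∑ χ ∈ S, (charDegree (χ : G → ℂ) : ℤ) * charDegree (χ : G → ℂ) := by
    rw [htot]
    exact Finset.sum_congr rfl fun χ hχ => by
      linear_combination ((charDegree (χ : G → ℂ) : ℤ) * charDegree (χ : G → ℂ)) * hsgn χ hχ
  have hu2 : tot (fun p => p.2 * p.2) l = ∑ χ ∈ S, v χ * v χ := by
    rw [htot]
    exact Finset.sum_congr rfl fun χ hχ => by linear_combination (v χ * v χ) * hsgn χ hχ
  have hvS : (1 + ∑ χ ∈ S, (s χ : ℂ) * (χ : G → ℂ) t) = ((1 + ∑ χ ∈ S, s χ * v χ : ℤ) : ℂ) := by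
    push_cast
    simp only [hv]
  have hTv' : ∀ θ ∈ Y, ε * v θ = 1 + ∑ χ ∈ S, s χ * v χ := fun θ hθ => by
    have h := hTv θ hθ
    rw [hvS, ← hv θ] at h
    exact_mod_cast h
  have hnonnegY1 : 0 ≤ ∑ θ ∈ Y, (charDegree (θ : G → ℂ) : ℤ) * charDegree (θ : G → ℂ) :=
    Finset.sum_nonneg fun _ _ => mul_self_nonneg _
  have hnonnegY2 : 0 ≤ ∑ θ ∈ Y, v θ * v θ := Finset.sum_nonneg fun _ _ => mul_self_nonneg _
  have hleaf : leaf C m (tot (fun p => p.1 * p.1) l) (tot (fun p => p.2 * p.2) l) (tot Prod.fst l)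
      (tot Prod.snd l) = false := by
    rw [hd2, hu2, htot Prod.fst, htot Prod.snd, leaf]
    dsimp only
    by_cases hm : m = 0
    · have h1 := h0d hm
      have h2 := h0v hm
      rw [hvS] at h2
      have h2' : (1 + ∑ χ ∈ S, s χ * v χ : ℤ) = 0 := by exact_mod_cast h2
      rw [if_pos hm, decide_eq_false_iff_not, not_not]
      exact ⟨h1, h2'⟩
    · obtain ⟨θ, hθ⟩ : Y.Nonempty := Finset.card_pos.1 (by omega)
      have hconstd : ∀ φ ∈ Y, (charDegree (φ : G → ℂ) : ℤ) * charDegree (φ : G → ℂ) =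
          (1 + ∑ χ ∈ S, s χ * (charDegree (χ : G → ℂ) : ℤ)) * (1 + ∑ χ ∈ S, s χ * (charDegree (χ : G → ℂ) : ℤ)) :=
        fun φ hφ => by rw [← hTd φ hφ]; rcases hε with h | h <;> rw [h] <;> ring
      have hconstv : ∀ φ ∈ Y, v φ * v φ = (1 + ∑ χ ∈ S, s χ * v χ) * (1 + ∑ χ ∈ S, s χ * v χ) :=
        fun φ hφ => by rw [← hTv' φ hφ]; rcases hε with h | h <;> rw [h] <;> ring
      rw [Finset.sum_congr rfl hconstd, Finset.sum_const, hY, nsmul_eq_mul] at hdd
      rw [Finset.sum_congr rfl hconstv, Finset.sum_const, hY, nsmul_eq_mul] at hss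
      obtain ⟨h4, h11, hlt, hkm, hd1⟩ := hper θ (Finset.mem_union_right _ hθ)
      obtain ⟨-, hθd, hθ0⟩ := degree_facts hG θ
      have eT : (1 + ∑ χ ∈ S, s χ * (charDegree (χ : G → ℂ) : ℤ)).natAbs = charDegree (θ : G → ℂ) := by
        rw [← hTd θ hθ]; rcases hε with h | h <;> simp [h]
      have eW : (1 + ∑ χ ∈ S, s χ * v χ).natAbs = (v θ).natAbs := by
        rw [← hTv' θ hθ]; rcases hε with h | h <;> simp [h]
      rw [if_neg hm, decide_eq_false_iff_not, not_not]
      refine ⟨by rw [eT]; omega, by rw [eT]; exact Nat.mod_eq_zero_of_dvd hθd, by rw [eT, eW]; omega, hdd, hss, ?_, ?_⟩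
      · rw [← hTd θ hθ, ← hTv' θ hθ]
        rcases hε with h | h <;> rw [h] <;> omega
      · rw [← hTd θ hθ, ← hTv' θ hθ]
        rcases hε with h | h <;> rw [h]
        · simpa using hkm
        · simpa [mul_neg, neg_dvd, dvd_neg] using hkm
  have hCmem : C ∈ centList := by
    have h2 : 2 ∣ C := by
      have := Subgroup.orderOf_dvd_natCard (cen t) (Subgroup.mem_centralizer_singleton_iff.2 rfl : t ∈ cen t)
      rwa [orderOf_eq_prime (p := 2) (by rw [pow_two, ht]) ht1] at this
    obtain ⟨j, hj⟩ := (by norm_num : Nat.Coprime 2 11).mul_dvd_of_dvd_of_dvd h2 hC11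
    rw [hj]
    refine centList_complete j (Nat.mem_divisors.2 ⟨?_, by norm_num⟩)
    have hd : 22 * j ∣ 22 * 20160 := by
      rw [← hj, show 22 * 20160 = 443520 by norm_num]
      exact ⟨_, by rw [← hKC]; ring⟩
    exact Nat.dvd_of_mul_dvd_mul_left (by norm_num) hd
  have hfalse : search C m n ≠ true := fun h => by
    have := go_sound n (opts C) 0 0 0 0 h l hlen hmem (by rw [hd2]; linarith) (by rw [hu2]; linarith)
    simp only [zero_add] at this
    rw [hleaf] at this
    exact Bool.false_ne_true this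
  rcases hnm with ⟨rfl, rfl⟩ | ⟨rfl, rfl⟩ | ⟨rfl, rfl⟩
  · exact absurd (List.all_eq_true.1 search_one C hCmem) hfalse
  · have h := List.all_eq_true.1 search_four C hCmem
    rw [Bool.or_eq_true, decide_eq_true_iff] at h
    exact ⟨by norm_num, h.resolve_right hfalse, by norm_num⟩
  · have h := List.all_eq_true.1 search_ten C hCmem
    rw [Bool.or_eq_true, decide_eq_true_iff] at h
    have h' := h.resolve_right hfalse
    exact ⟨by norm_num, by simp [h', leftFour], fun _ => h'⟩

variable (P : Sylow 11 G) (hP : Nat.card (P : Subgroup G) = 11)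

include hP

/-- A centralizer of one of the three orders is impossible. -/
theorem false_of_local {t : G} (htC : t ∈ Subgroup.centralizer ((P : Subgroup G) : Set G))
    {e c : ℕ} (he : e = 5 ∨ e = 10) (hc : Nat.card (Subgroup.centralizer ((P : Subgroup G) : Set G)) = 11 * c)
    (hN : Nat.card (Subgroup.normalizer ((P : Subgroup G) : Set G)) = 11 * c * e)
    (hce : c * e ∈ ([3360, 720, 280, 60] : List ℕ)) (hleft : Nat.card (cen t) ∈ leftFour)
    (h10 : e = 10 → Nat.card (cen t) = 4928)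
    (hbig : e = 10 → ∀ d, Nat.card (Subgroup.centralizer ((P : Subgroup G) : Set G) ⊓ cen t : Subgroup G) = 11 * d →
      (c = 336 → 16 ∣ d) ∧ (c = 72 → 8 ∣ d) ∧ (c = 28 → 7 ∣ d)) : False := by
  classical
  haveI := Fact.mk (show Nat.Prime 11 by norm_num)
  set V := Subgroup.centralizer ((P : Subgroup G) : Set G) with hV
  set N := Subgroup.normalizer ((P : Subgroup G) : Set G) with hNdef
  set C := cen t with hC
  haveI := (isCyclic_of_prime_card hP).isMulCommutative
  have hPV : (P : Subgroup G) ≤ V := Subgroup.le_centralizer _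
  have hVN : V ≤ N := Subgroup.centralizer_le_normalizer _
  have hPC : (P : Subgroup G) ≤ C := fun y hy =>
    Subgroup.mem_centralizer_singleton_iff.2 (Subgroup.mem_centralizer_iff.1 htC y hy)
  obtain ⟨m, k, r, hm, hCm, hkr, hk, hr⟩ : ∃ m k r : ℕ, m ∈ ([192, 384, 448] : List ℕ) ∧
      Nat.card C = 11 * m ∧ m = 2 ^ k * r ∧ k ≤ 7 ∧ ¬ 2 ∣ r := by
    simp only [leftFour, List.mem_cons, List.not_mem_nil, or_false] at hleft
    rcases hleft with h | h | h
    · exact ⟨192, 6, 3, by simp, h, by norm_num, by norm_num, by norm_num⟩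
    · exact ⟨384, 7, 3, by simp, h, by norm_num, by norm_num, by norm_num⟩
    · exact ⟨448, 6, 7, by simp, h, by norm_num, by norm_num, by norm_num⟩
  have hm11 : ¬ 11 ∣ m := by
    simp only [List.mem_cons, List.not_mem_nil, or_false] at hm
    rcases hm with rfl | rfl | rfl <;> norm_num
  set Q := P.subtype hPC with hQdef
  have hQc : Nat.card (Q : Subgroup C) = 11 := by
    rw [hQdef, Sylow.coe_subtype, Nat.card_congr (Subgroup.subgroupOfEquivOfLe hPC).toEquiv, hP]
  have hQN : Subgroup.normalizer ((Q : Subgroup C) : Set C) = N.subgroupOf C := by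
    rw [hQdef, Sylow.coe_subtype, hNdef, ← Subgroup.subgroupOf_normalizer_eq hPC]
  have hNC : Nat.card (Subgroup.normalizer ((Q : Subgroup C) : Set C)) = Nat.card (N ⊓ C : Subgroup G) := by
    rw [hQN, ← Subgroup.inf_subgroupOf_right N C,
      Nat.card_congr (Subgroup.subgroupOfEquivOfLe (inf_le_right : N ⊓ C ≤ C)).toEquiv]
  obtain ⟨a, ha⟩ : 11 ∣ Nat.card (N ⊓ C : Subgroup G) :=
    hP ▸ Subgroup.card_dvd_of_le (le_inf (hPV.trans hVN) hPC)
  obtain ⟨d, hd⟩ : 11 ∣ Nat.card (V ⊓ C : Subgroup G) :=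
    hP ▸ Subgroup.card_dvd_of_le (le_inf hPV hPC)
  have hda : d ∣ a := by
    have h := Subgroup.card_dvd_of_le (inf_le_inf_right C hVN)
    rw [ha, hd] at h
    exact Nat.dvd_of_mul_dvd_mul_left (by norm_num) h
  have hdc : d ∣ c := by
    have h := Subgroup.card_dvd_of_le (inf_le_left : V ⊓ C ≤ V)
    rw [hd, hc] at h
    exact Nat.dvd_of_mul_dvd_mul_left (by norm_num) h
  have hace : a ∣ c * e := by
    have h := Subgroup.card_dvd_of_le (inf_le_left : N ⊓ C ≤ N)
    rw [ha, hN, mul_assoc] at h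
    exact Nat.dvd_of_mul_dvd_mul_left (by norm_num) h
  have hn := card_normalizer_mul Q
  rw [hNC, ha, hCm, mul_assoc] at hn
  have hn' : a * Nat.card (Sylow 11 C) = m := by omega
  have hmod : Nat.card (Sylow 11 C) % 11 = 1 := card_sylow_modEq_one 11 C
  have hm0 : m ≠ 0 := by
    simp only [List.mem_cons, List.not_mem_nil, or_false] at hm
    rcases hm with rfl | rfl | rfl <;> norm_num
  have hcases := sylow_count_small m hm _ (Nat.mem_divisors.2 ⟨Dvd.intro_left a hn', hm0⟩) hmod
  simp only [List.mem_cons, List.not_mem_nil, or_false] at hm hce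
  have ha' : a = 8 ∧ m = 448 ∨ a = 16 ∧ m = 192 ∨ a = 32 ∧ m = 384 := by
    rcases hcases with h | ⟨hm', h⟩ | ⟨hm', h⟩ | ⟨hm', h⟩
    · exfalso
      rw [h, mul_one] at hn'
      rw [hn'] at hace
      rcases hm with rfl | rfl | rfl <;> rcases hce with h' | h' | h' | h' <;> rw [h'] at hace <;> norm_num at hace
    all_goals (rw [h] at hn'; omega)
  -- the normalizer in the centralizer centralizes
  have hle : N ⊓ C ≤ V := by
    rcases he with rfl | rfl
    · intro g hg
      have hord : orderOf g ∣ 11 * a := ha ▸ Subgroup.orderOf_dvd_natCard _ hg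
      haveI : (V.subgroupOf N).Normal := by
        rw [hV, hNdef, ← Subgroup.normalizerMonoidHom_ker]
        exact MonoidHom.normal_ker _
      have hidx : Nat.card (N ⧸ V.subgroupOf N) = 5 := by
        have h := Subgroup.card_eq_card_quotient_mul_card_subgroup (V.subgroupOf N)
        rw [Nat.card_congr (Subgroup.subgroupOfEquivOfLe hVN).toEquiv, hN, hc] at h
        have hc0 : 0 < 11 * c := hc ▸ Nat.card_pos
        exact (Nat.eq_of_mul_eq_mul_right hc0 (by rw [← h]; ring)).symm
      obtain ⟨x, hx⟩ : ∃ x : N, x = ⟨g, hg.1⟩ := ⟨_, rfl⟩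
      have h1 : orderOf (QuotientGroup.mk' (V.subgroupOf N) x) ∣ 5 := hidx ▸ orderOf_dvd_natCard _
      have h2 : orderOf (QuotientGroup.mk' (V.subgroupOf N) x) ∣ 11 * a :=
        (orderOf_map_dvd _ x).trans (by rw [hx, ← Subgroup.orderOf_coe]; exact hord)
      have h3 : QuotientGroup.mk' (V.subgroupOf N) x = 1 := orderOf_eq_one_iff.1
        (Nat.eq_one_of_dvd_coprimes (by rcases ha' with ⟨h, -⟩ | ⟨h, -⟩ | ⟨h, -⟩ <;> rw [h] <;> norm_num) h1 h2)
      rw [QuotientGroup.mk'_apply, QuotientGroup.eq_one_iff, Subgroup.mem_subgroupOf, hx] at h3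
      exact h3
    · obtain ⟨h16, h8, h7⟩ := hbig rfl d hd
      have h44 := h10 rfl
      rw [hCm] at h44
      have ha8 : a = 8 := by omega
      subst ha8
      have hcc : c = 336 ∨ c = 72 ∨ c = 28 ∨ c = 6 := by omega
      have hd8 : d = 8 := by
        have hd' := Nat.le_of_dvd (by norm_num) hda
        rcases hcc with rfl | rfl | rfl | rfl
        · have := (h16 rfl).trans hda; norm_num at this
        · exact Nat.dvd_antisymm hda (h8 rfl)
        · have := (h7 rfl).trans hda; norm_num at this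
        · norm_num at hace
      have heq : V ⊓ C = N ⊓ C := Subgroup.eq_of_le_of_card_ge (inf_le_inf_right C hVN) (by rw [ha, hd, hd8])
      exact heq ▸ inf_le_left
  have hle' : Subgroup.normalizer ((Q : Subgroup C) : Set C) ≤ Subgroup.centralizer ((Q : Subgroup C) : Set C) := by
    rw [hQN]
    intro x hx
    refine Subgroup.mem_centralizer_iff.2 fun y hy => Subtype.ext ?_
    rw [hQdef, Sylow.coe_subtype] at hy
    exact Subgroup.mem_centralizer_iff.1 (hle ⟨hx, x.2⟩) y hy
  have h2k := two_power_dvd_centralizer Q hQc hle' hk (by rw [hCm, hkr]) hr (hkr ▸ hm11)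
  have hmap : (Subgroup.centralizer ((Q : Subgroup C) : Set C)).map C.subtype ≤ V ⊓ C := by
    rintro _ ⟨x, hx, rfl⟩
    refine ⟨Subgroup.mem_centralizer_iff.2 fun y hy => ?_, x.2⟩
    have := Subgroup.mem_centralizer_iff.1 hx ⟨y, hPC hy⟩ (by rw [hQdef, Sylow.coe_subtype]; exact hy)
    exact congrArg Subtype.val this
  have h3 : 2 ^ k ∣ Nat.card (V ⊓ C : Subgroup G) :=
    h2k.trans ((Subgroup.card_map_of_injective C.subtype_injective).symm ▸ Subgroup.card_dvd_of_le hmap)
  rw [hd] at h3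
  have h4 : 2 ^ k ∣ a :=
    ((Nat.Coprime.pow_left k (by norm_num : Nat.Coprime 2 11)).dvd_of_dvd_mul_left h3).trans hda
  have hk' : 2 ^ k ∣ m := ⟨r, hkr⟩
  rcases ha' with ⟨rfl, rfl⟩ | ⟨rfl, rfl⟩ | ⟨rfl, rfl⟩ <;> interval_cases k <;> norm_num at hkr h4 <;> omega

/-- An involution of the centralizer with a large centralizer there. -/
theorem exists_involution {c : ℕ} (hc : Nat.card (Subgroup.centralizer ((P : Subgroup G) : Set G)) = 11 * c)
    (h2 : 2 ∣ c) :
    ∃ t ∈ Subgroup.centralizer ((P : Subgroup G) : Set G), orderOf t = 2 ∧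
      ∀ d, Nat.card (Subgroup.centralizer ((P : Subgroup G) : Set G) ⊓ cen t : Subgroup G) = 11 * d →
        (c = 336 → 16 ∣ d) ∧ (c = 72 → 8 ∣ d) ∧ (c = 28 → 7 ∣ d) := by
  classical
  haveI := Fact.mk Nat.prime_two
  set V := Subgroup.centralizer ((P : Subgroup G) : Set G) with hV
  by_cases h28 : c = 28
  · subst h28
    haveI := Fact.mk (show Nat.Prime 7 by norm_num)
    haveI := Fact.mk (show Nat.Prime 11 by norm_num)
    obtain ⟨Q⟩ := (inferInstance : Nonempty (Sylow 7 V))
    have hQ : Nat.card (Q : Subgroup V) = 7 :=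
      (card_sylow_eq (p := 7) 1 44 (by rw [hc]; norm_num) (by norm_num) Q).trans (pow_one 7)
    haveI := (isCyclic_of_prime_card hP).isMulCommutative
    have hPV : (P : Subgroup G) ≤ V := Subgroup.le_centralizer _
    have hPN : (P : Subgroup G).subgroupOf V ≤ Subgroup.normalizer ((Q : Subgroup V) : Set V) := by
      intro x hx
      refine Subgroup.centralizer_le_normalizer _ (Subgroup.mem_centralizer_iff.2 fun y _ => Subtype.ext ?_)
      exact (Subgroup.mem_centralizer_iff.1 y.2 x hx).symm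
    have h11 : 11 ∣ Nat.card (Subgroup.normalizer ((Q : Subgroup V) : Set V)) := by
      refine dvd_trans (dvd_of_eq ?_) (Subgroup.card_dvd_of_le hPN)
      rw [Nat.card_congr (Subgroup.subgroupOfEquivOfLe hPV).toEquiv, hP]
    have h7N : 7 ∣ Nat.card (Subgroup.normalizer ((Q : Subgroup V) : Set V)) :=
      (dvd_of_eq hQ.symm).trans (Subgroup.card_dvd_of_le Subgroup.le_normalizer)
    have hmul := card_normalizer_mul Q
    rw [hc] at hmul
    obtain ⟨j, hj⟩ := (by norm_num : Nat.Coprime 7 11).mul_dvd_of_dvd_of_dvd h7N h11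
    rw [hj] at hmul
    have h4 : j * Nat.card (Sylow 7 V) = 4 := by nlinarith
    have hn7 : Nat.card (Sylow 7 V) = 1 := by
      have hdvd : Nat.card (Sylow 7 V) ∣ 4 := Dvd.intro_left j h4
      have hmod : Nat.card (Sylow 7 V) % 7 = 1 := card_sylow_modEq_one 7 V
      have := Nat.le_of_dvd (by norm_num) hdvd
      omega
    haveI := (Nat.card_eq_one_iff_unique.1 hn7).1
    haveI : (Q : Subgroup V).Normal := Sylow.normal_of_subsingleton Q
    haveI : IsCyclic (Q : Subgroup V) := isCyclic_of_prime_card hQ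
    obtain ⟨S⟩ := (inferInstance : Nonempty (Sylow 2 V))
    have hS : Nat.card (S : Subgroup V) = 4 :=
      (card_sylow_eq (p := 2) 2 77 (by rw [hc]; norm_num) (by norm_num) S).trans (by norm_num)
    let φ : (S : Subgroup V) →* MulAut (Q : Subgroup V) := MulAut.conjNormal.comp (S : Subgroup V).subtype
    have hker : φ.ker ≠ ⊥ := fun h => by
      have := Subgroup.card_dvd_of_injective φ ((MonoidHom.ker_eq_bot_iff φ).1 h)
      rw [hS, IsCyclic.card_mulAut, hQ, Nat.totient_prime (by norm_num)] at this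
      norm_num at this
    obtain ⟨k, hk⟩ := IsPGroup.iff_card.1 (S.2.to_subgroup φ.ker)
    have hk0 : k ≠ 0 := fun h => hker (Subgroup.card_eq_one.1 (by rw [hk, h, pow_zero]))
    obtain ⟨z, hz⟩ := exists_prime_orderOf_dvd_card' (G := φ.ker) 2 (hk ▸ dvd_pow_self 2 hk0)
    refine ⟨(((z : (S : Subgroup V)) : V) : G), (((z : (S : Subgroup V)) : V)).2, ?_, fun d hd =>
      ⟨fun h => absurd h (by norm_num), fun h => absurd h (by norm_num), fun _ => ?_⟩⟩
    · rw [Subgroup.orderOf_coe, Subgroup.orderOf_coe, Subgroup.orderOf_coe, hz]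
    · have hle : (Q : Subgroup V).map V.subtype ≤ V ⊓ cen (((z : (S : Subgroup V)) : V) : G) := by
        rintro _ ⟨y, hy, rfl⟩
        refine ⟨y.2, Subgroup.mem_centralizer_singleton_iff.2 ?_⟩
        have h := congrArg (fun f : MulAut (Q : Subgroup V) => ((f ⟨y, hy⟩ : (Q : Subgroup V)) : V))
          (MonoidHom.mem_ker.1 z.2)
        simp only [φ, MonoidHom.comp_apply, MulAut.conjNormal_apply, MulAut.one_apply, Subgroup.coe_subtype] at h
        exact congrArg Subtype.val (mul_inv_eq_iff_eq_mul.1 h).symm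
      have h7 := Subgroup.card_dvd_of_le hle
      rw [Subgroup.card_map_of_injective V.subtype_injective, hQ, hd] at h7
      exact (by norm_num : Nat.Coprime 7 11).dvd_of_dvd_mul_left h7
  · obtain ⟨S⟩ := (inferInstance : Nonempty (Sylow 2 V))
    have h2V : 2 ∣ Nat.card V := hc ▸ h2.mul_left 11
    haveI : Nontrivial (S : Subgroup V) := (Subgroup.nontrivial_iff_ne_bot _).2 (S.ne_bot_of_dvd_card h2V)
    haveI := S.2.center_nontrivial
    obtain ⟨k, hk⟩ := IsPGroup.iff_card.1 (S.2.to_subgroup (Subgroup.center (S : Subgroup V)))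
    have hk0 : k ≠ 0 := fun h => by
      rw [h, pow_zero] at hk
      have := Finite.one_lt_card_iff_nontrivial.2 (S.2.center_nontrivial)
      omega
    obtain ⟨z, hz⟩ := exists_prime_orderOf_dvd_card' (G := Subgroup.center (S : Subgroup V)) 2
      (hk ▸ dvd_pow_self 2 hk0)
    refine ⟨(((z : (S : Subgroup V)) : V) : G), (((z : (S : Subgroup V)) : V)).2, ?_, fun d hd => ?_⟩
    · rw [Subgroup.orderOf_coe, Subgroup.orderOf_coe, Subgroup.orderOf_coe, hz]
    have hle : (S : Subgroup V).map V.subtype ≤ V ⊓ cen (((z : (S : Subgroup V)) : V) : G) := by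
      rintro _ ⟨y, hy, rfl⟩
      refine ⟨y.2, Subgroup.mem_centralizer_singleton_iff.2 ?_⟩
      exact congrArg (fun w : (S : Subgroup V) => ((w : V) : G)) (Subgroup.mem_center_iff.1 z.2 ⟨y, hy⟩)
    have hS2 := Subgroup.card_dvd_of_le hle
    rw [Subgroup.card_map_of_injective V.subtype_injective, hd] at hS2
    refine ⟨fun h => ?_, fun h => ?_, fun h => absurd h h28⟩ <;> subst h
    · rw [card_sylow_eq (p := 2) 4 231 (by rw [hc]; norm_num) (by norm_num) S] at hS2
      exact (by norm_num : Nat.Coprime (2 ^ 4) 11).dvd_of_dvd_mul_left hS2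
    · rw [card_sylow_eq (p := 2) 3 99 (by rw [hc]; norm_num) (by norm_num) S] at hS2
      exact (by norm_num : Nat.Coprime (2 ^ 3) 11).dvd_of_dvd_mul_left hS2

/-- The centralizer is the Sylow subgroup itself. -/
theorem sylow_eleven_data :
    Subgroup.centralizer ((P : Subgroup G) : Set G) = (P : Subgroup G) ∧
      Nat.card (Subgroup.normalizer ((P : Subgroup G) : Set G)) = 55 := by
  classical
  haveI := Fact.mk (show Nat.Prime 11 by norm_num)
  haveI := Fintype.ofFinite G
  haveI := irrFintype G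
  have hn := nonabelian hG
  have hsq : ¬ 11 ^ 2 ∣ Nat.card G := by rw [hG]; norm_num
  obtain ⟨e, he1, hed, hce⟩ := exists_normalizer_centralizer hn P hP
  obtain ⟨c, hc⟩ := dvd_card_centralizer P hP
  have hmul := card_normalizer_mul P
  rw [← hce, hc, hG, mul_assoc, mul_assoc] at hmul
  set n := Nat.card (Sylow 11 G) with hndef
  have hmul' : c * (e * n) = 40320 := by omega
  have he : e = 2 ∨ e = 5 ∨ e = 10 := by
    have h := Nat.le_of_dvd (by norm_num) hed
    norm_num at hed h
    interval_cases e <;> omega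
  have hn1 : 1 < n := one_lt_card_sylow hn (by rw [hG]; norm_num)
  have hn' := sylow_count n (Nat.mem_divisors.2 ⟨⟨c * e, by rw [← hmul']; ring⟩, by norm_num⟩)
    (card_sylow_modEq_one 11 G)
  simp only [List.mem_cons, List.not_mem_nil, or_false] at hn'
  have hcases : (e = 5 ∧ c = 1) ∨ (e = 2 ∧ c = 63) ∨ (2 ∣ c ∧ (e = 2 ∨
      (e = 5 ∨ e = 10) ∧ c * e ∈ ([3360, 720, 280, 60] : List ℕ))) := by
    simp only [List.mem_cons, List.not_mem_nil, or_false]
    rcases he with rfl | rfl | rfl <;> rcases hn' with h | h | h | h | h | h | h | h | h | h <;>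
      rw [h] at hmul' hn1 <;> omega
  have hN : Nat.card (Subgroup.normalizer ((P : Subgroup G) : Set G)) = 11 * c * e := by rw [← hce, hc]
  haveI hcyc := (isCyclic_of_prime_card hP).isMulCommutative
  rcases hcases with ⟨rfl, rfl⟩ | hrest
  · exact ⟨(Subgroup.eq_of_le_of_card_ge (Subgroup.le_centralizer _) (by rw [hc, hP])).symm, hN⟩
  exfalso
  obtain ⟨M, hM⟩ := CharApps.exists_pModular (p := 11)
  haveI := hM.2.1.isPrime
  have hrel' : (Subgroup.centralizer ((P : Subgroup G) : Set G)).relIndex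
      (Subgroup.normalizer ((P : Subgroup G) : Set G)) = e := by
    have hle : Subgroup.centralizer ((P : Subgroup G) : Set G) ≤
        Subgroup.normalizer ((P : Subgroup G) : Set G) := Subgroup.centralizer_le_normalizer _
    have h := Subgroup.relIndex_mul_relIndex _ _ _ bot_le hle
    rw [Subgroup.relIndex_bot_left, Subgroup.relIndex_bot_left, ← hce] at h
    exact Nat.eq_of_mul_eq_mul_left Nat.card_pos h
  obtain ⟨X, Y, σ, ε, hB, hdisj, hX, hY, hXp, hε, hYd, hYeq, hrel⟩ :=
    Small.O7920.exists_block_data (by norm_num) hM P hP hrel'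
  have h1one : ¬ 11 ∣ orderOf (1 : G) := by rw [orderOf_one]; norm_num
  have hXmod : ∀ χ ∈ X, (σ χ = 1 ∨ σ χ = -1) ∧
      (σ χ * (charDegree (χ : G → ℂ) : ℤ) - 1) % 11 = 0 := fun χ hχ => by
    have h := (hXp χ hχ).2.1
    rw [Int.modEq_iff_dvd] at h
    exact ⟨(hXp χ hχ).1, by omega⟩
  have hσp : ∀ h : principal G ∈ X, σ (principal G) = 1 := fun h => by
    have h' := (hXmod _ h).2
    rw [principal_degree hG] at h'
    rcases (hXmod _ h).1 with h'' | h'' <;> rw [h''] at h' ⊢ <;> omega
  have hXne : ∀ χ ∈ X.erase (principal G), χ ∈ principalBlock M G ∧ χ ≠ principal G := fun χ hχ =>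
    ⟨(hB χ).2 (Or.inl (Finset.mem_of_mem_erase hχ)), Finset.ne_of_mem_erase hχ⟩
  have hcen : ∀ y ∈ Subgroup.centralizer ((P : Subgroup G) : Set G), 11 ∣ Nat.card (cen y) := by
    intro y hy
    rw [← hP]
    exact Subgroup.card_dvd_of_le fun x hx =>
      Subgroup.mem_centralizer_singleton_iff.2 (Subgroup.mem_centralizer_iff.1 hy x hx)
  -- with more than one exceptional character the principal one is not exceptional
  have hsplit : e ≠ 10 → principal G ∈ X ∧ principal G ∉ Y := by
    intro hne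
    have hnY : principal G ∉ Y := fun hmem => by
      have hY2 : 1 < Y.card := by rw [hY]; rcases he with rfl | rfl | rfl <;> omega
      obtain ⟨a, ha, hane⟩ := Finset.exists_mem_ne hY2 (principal G)
      have h1 := hYeq a ha _ hmem 1 h1one
      rw [deg_eq, principal_apply, Nat.cast_eq_one] at h1
      exact hane (eq_principal hG h1)
    exact ⟨((hB _).1 (CfsgLib.Blocks.principal_mem_principalBlock M)).resolve_right hnY, hnY⟩
  rcases hrest with ⟨rfl, rfl⟩ | ⟨h2c, hec⟩
  · -- normalizer of index two over a centralizer of order `693`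
    obtain ⟨hpX, hpY⟩ := hsplit (by norm_num)
    obtain ⟨χ, hχ⟩ := Finset.card_eq_one.1 (show (X.erase (principal G)).card = 1 by
      rw [Finset.card_erase_of_mem hpX, hX])
    obtain ⟨hχB, hχp⟩ := hXne χ (hχ ▸ Finset.mem_singleton_self χ)
    have hχX : χ ∈ X := Finset.mem_of_mem_erase (hχ ▸ Finset.mem_singleton_self χ)
    obtain ⟨θ, hθ⟩ : Y.Nonempty := Finset.card_pos.1 (by rw [hY]; norm_num)
    have hθp : θ ≠ principal G := fun h => hpY (h ▸ hθ)
    have hrel1 := hrel θ hθ 1 h1one
    rw [← Finset.add_sum_erase _ _ hpX, hσp hpX, hχ, Finset.sum_singleton] at hrel1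
    simp only [deg_eq, principal_degree hG] at hrel1
    have hT : ε * (charDegree (θ : G → ℂ) : ℤ) = 1 + σ χ * (charDegree (χ : G → ℂ) : ℤ) := by
      have : ((ε * (charDegree (θ : G → ℂ) : ℤ) : ℤ) : ℂ) =
          ((1 + σ χ * (charDegree (χ : G → ℂ) : ℤ) : ℤ) : ℂ) := by push_cast; simpa using hrel1
      exact_mod_cast this
    obtain ⟨hdlt, hddvd, -⟩ := degree_facts hG χ
    obtain ⟨-, hθdvd, hθ0⟩ := degree_facts hG θ
    obtain ⟨hs1, hs2⟩ := hXmod χ hχX
    have hd1 : charDegree (χ : G → ℂ) ≠ 1 := fun h => hχp (eq_principal hG h)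
    have hθ1 : charDegree (θ : G → ℂ) ≠ 1 := fun h => hθp (eq_principal hG h)
    have hmem := ne_degree_list _ hdlt hddvd hd1 (by rcases hs1 with h | h <;> rw [h] at hs2 <;> omega)
    have habs : (1 + σ χ * (charDegree (χ : G → ℂ) : ℤ)).natAbs = charDegree (θ : G → ℂ) := by
      rw [← hT]; rcases hε with h | h <;> simp [h]
    have hbound : 1 + charDegree (χ : G → ℂ) * charDegree (χ : G → ℂ) +
        5 * (charDegree (θ : G → ℂ) * charDegree (θ : G → ℂ)) ≤ 443520 := by
      have h' := Finset.sum_le_univ_sum_of_nonneg (s := insert (principal G) (insert χ Y))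
        (f := fun χ : IrrCharacter G => charDegree (χ : G → ℂ) ^ 2) fun χ => Nat.zero_le _
      rw [sum_degree_sq_nat (G := G), hG, Finset.sum_insert (by
          simp only [Finset.mem_insert, not_or]; exact ⟨hχp.symm, hpY⟩),
        Finset.sum_insert (fun h => Finset.disjoint_left.1 hdisj hχX h), principal_degree hG,
        Finset.sum_congr rfl (g := fun _ => charDegree (θ : G → ℂ) ^ 2) fun φ hφ => by
          have h := hYeq φ hφ θ hθ 1 h1one
          simp only [deg_eq, Nat.cast_inj] at h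
          rw [h],
        Finset.sum_const, hY, smul_eq_mul] at h'
      norm_num [pow_two] at h'
      omega
    have hlist := two_list _ hmem (σ χ) (by rcases hs1 with h | h <;> simp [h]) hs2 (by omega)
      (by rw [habs]; exact Nat.mod_eq_zero_of_dvd hθdvd) (by rw [habs]; exact hbound)
    have hvan : ∀ (φ : IrrCharacter G) (p j : ℕ), φ ∈ principalBlock M G → p.Prime → p ∣ 63 →
        p ^ j ∣ 443520 → ¬ p ^ (j + 1) ∣ 443520 → p ^ j ∣ charDegree (φ : G → ℂ) →
        ¬ 11 ∣ charDegree (φ : G → ℂ) → False := by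
      intro φ p j hφ hp hp63 hj hj' hdj hnd
      haveI := Fact.mk hp
      obtain ⟨⟨y, hyV⟩, hy⟩ := exists_prime_orderOf_dvd_card'
        (G := Subgroup.centralizer ((P : Subgroup G) : Set G)) p (by rw [hc]; exact hp63.mul_left 11)
      rw [Subgroup.orderOf_mk] at hy
      have h0 : (φ : G → ℂ) y = 0 :=
        M12Order.FiveEven.apply_eq_zero hp φ (hG ▸ hj) (hG ▸ hj') hdj (by rw [hy])
      haveI : Fact (Nat.Prime 11) := ⟨by norm_num⟩
      have h := int_congr_of_principalBlock hM hsq hφ (hcen y hyV) (m := 0) (by rw [h0, Int.cast_zero])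
      rw [zero_sub, dvd_neg] at h
      exact hnd (by exact_mod_cast h)
    rcases hlist with h | h
    · exact hvan χ 7 1 hχB (by norm_num) (by norm_num) (by norm_num) (by norm_num) (by rw [h]; norm_num)
        (by rw [h]; norm_num)
    · rw [habs] at h
      exact hvan θ 3 2 ((hB θ).2 (Or.inr hθ)) (by norm_num) (by norm_num) (by norm_num) (by norm_num)
        (by rw [h]; norm_num) (by rw [h]; norm_num)
  -- an involution in the centralizer
  obtain ⟨t, htC, hto, hbig⟩ := exists_involution hG P hP hc h2c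
  have ht : t * t = 1 := by rw [← sq, ← hto, pow_orderOf_eq_one]
  have ht1 : t ≠ 1 := fun h => by rw [h, orderOf_one] at hto; omega
  have ht11 : ¬ 11 ∣ orderOf t := by rw [hto]; norm_num
  obtain ⟨θ, hθ⟩ : Y.Nonempty := Finset.card_pos.1 (by rw [hY]; rcases he with rfl | rfl | rfl <;> norm_num)
  have hTd : ∀ φ ∈ Y, ε * (charDegree (φ : G → ℂ) : ℤ) = ∑ χ ∈ X, σ χ * (charDegree (χ : G → ℂ) : ℤ) :=
    fun φ hφ => by
      have h := hrel φ hφ 1 h1one
      simp only [deg_eq] at h
      exact_mod_cast h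
  by_cases he10 : e = 10
  · subst he10
    obtain ⟨φ, hφ⟩ := Finset.card_eq_one.1 (show Y.card = 1 by rw [hY])
    have hθφ : θ = φ := by rw [hφ, Finset.mem_singleton] at hθ; exact hθ
    by_cases hmem : principal G ∈ Y
    · have hθ1 : θ = principal G := by
        rw [hφ, Finset.mem_singleton] at hmem
        rw [hθφ, hmem]
      have hy := hYd θ hθ
      rw [Int.modEq_iff_dvd, hθ1, principal_degree hG] at hy
      have hε1 : ε = -1 := by rcases hε with h | h <;> rw [h] at hy ⊢ <;> omega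
      have h := cent_of_signed hG ht ht1 (hcen t htC) hM (n := 10) (m := 0) (by omega) X ∅ hX rfl
        (Finset.disjoint_empty_right X) (fun χ hχ => by
          replace hχ := hχ.resolve_right (Finset.notMem_empty χ)
          exact ⟨(hB χ).2 (Or.inl hχ), fun h => Finset.disjoint_left.1 hdisj hχ (h ▸ hmem)⟩)
        σ hXmod hε (by simp) (by simp) (fun _ => by
          rw [← hTd θ hθ, hε1, hθ1, principal_degree hG]; norm_num)
        (fun _ => by rw [← hrel θ hθ t ht11, hε1, hθ1, principal_apply]; norm_num)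
      exact false_of_local hG P hP htC (Or.inr rfl) hc hN (hec.resolve_left (by norm_num)).2 h.2.1
        (fun _ => h.2.2 rfl) (fun _ => hbig)
    · have hprin : principal G ∈ X :=
        ((hB _).1 (CfsgLib.Blocks.principal_mem_principalBlock M)).resolve_right hmem
      have hθX : θ ∉ X := fun h => Finset.disjoint_left.1 hdisj h hθ
      have hθX' : θ ∉ X.erase (principal G) := fun h => hθX (Finset.mem_of_mem_erase h)
      have hs' : ∀ χ ∈ X.erase (principal G), (if χ = θ then -ε else σ χ) = σ χ := fun χ hχ => by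
        rw [if_neg fun e : χ = θ => hθX' (e ▸ hχ)]
      have h := cent_of_signed hG ht ht1 (hcen t htC) hM (n := 10) (m := 0) (by omega)
        (insert θ (X.erase (principal G))) ∅ (by
          rw [Finset.card_insert_of_notMem hθX', Finset.card_erase_of_mem hprin, hX]) rfl
        (Finset.disjoint_empty_right _) (fun χ hχ => by
          replace hχ := hχ.resolve_right (Finset.notMem_empty χ)
          rcases Finset.mem_insert.1 hχ with rfl | h
          · exact ⟨(hB χ).2 (Or.inr hθ), fun h => hmem (h ▸ hθ)⟩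
          · exact hXne χ h)
        (fun χ => if χ = θ then -ε else σ χ) (fun χ hχ => by
          rcases Finset.mem_insert.1 hχ with rfl | h
          · have hy := hYd χ hθ
            rw [Int.modEq_iff_dvd] at hy
            rw [if_pos rfl]
            rcases hε with h' | h' <;> rw [h'] at hy ⊢ <;> omega
          · rw [hs' χ h]
            exact hXmod χ (Finset.mem_of_mem_erase h))
        hε (by simp) (by simp) (fun _ => by
          rw [Finset.sum_insert hθX', if_pos rfl, Finset.sum_congr rfl fun χ hχ => by rw [hs' χ hχ]]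
          have h1 := hTd θ hθ
          rw [← Finset.add_sum_erase _ _ hprin, hσp hprin, principal_degree hG] at h1
          linear_combination -h1)
        (fun _ => by
          rw [Finset.sum_insert hθX', if_pos rfl, Finset.sum_congr rfl fun χ hχ => by rw [hs' χ hχ]]
          have h1 := hrel θ hθ t ht11
          rw [← Finset.add_sum_erase _ _ hprin, hσp hprin, principal_apply] at h1
          push_cast at h1 ⊢
          linear_combination -h1)
      exact false_of_local hG P hP htC (Or.inr rfl) hc hN (hec.resolve_left (by norm_num)).2 h.2.1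
        (fun _ => h.2.2 rfl) (fun _ => hbig)
  · obtain ⟨hpX, hpY⟩ := hsplit he10
    have h := cent_of_signed hG ht ht1 (hcen t htC) hM (n := e - 1) (m := (11 - 1) / e)
      (by rcases he with rfl | rfl | rfl <;> omega) (X.erase (principal G)) Y
      (by rw [Finset.card_erase_of_mem hpX, hX]) hY (hdisj.mono_left (Finset.erase_subset _ _))
      (fun χ hχ => by
        rcases hχ with h | h
        · exact hXne χ h
        · exact ⟨(hB χ).2 (Or.inr h), fun e' => hpY (e' ▸ h)⟩)
      σ (fun χ hχ => hXmod χ (Finset.mem_of_mem_erase hχ)) hε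
      (fun φ hφ => by rw [hTd φ hφ, ← Finset.add_sum_erase _ _ hpX, hσp hpX, principal_degree hG]; norm_num)
      (fun φ hφ => by
        rw [hrel φ hφ t ht11, ← Finset.add_sum_erase _ _ hpX, hσp hpX, principal_apply]; norm_num)
      (fun h0 => absurd h0 (by rcases he with rfl | rfl | rfl <;> first | norm_num | exact absurd rfl he10))
      (fun h0 => absurd h0 (by rcases he with rfl | rfl | rfl <;> first | norm_num | exact absurd rfl he10))
    rcases he with rfl | rfl | rfl
    · exact h.1 rfl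
    · exact false_of_local hG P hP htC (Or.inl rfl) hc hN (hec.resolve_left (by norm_num)).2 h.2.1
        (fun h' => absurd h' (by norm_num)) (fun h' => absurd h' (by norm_num))
    · exact he10 rfl

end CfsgLib.M22Order.Eleven

namespace CfsgLib.M22Order

universe u

/-- Piece A. -/
theorem eleven : ElevenStmt.{u} := by
  intro G _ _ hs hG
  haveI := hs
  haveI := Fact.mk (show Nat.Prime 11 by norm_num)
  have hdata : ∀ P : Sylow 11 G, Nat.card (P : Subgroup G) = 11 := fun P =>
    (CfsgLib.Small.card_sylow_eq (p := 11) 1 40320 (by rw [hG]; norm_num) (by norm_num) P).trans (pow_one 11)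
  refine ⟨fun x hx => ?_, fun P => (Eleven.sylow_eleven_data hG P (hdata P)).2⟩
  obtain ⟨P, hle⟩ := (IsPGroup.of_card (p := 11) (n := 1)
    (show Nat.card (Subgroup.zpowers x) = 11 ^ 1 by
      rw [Nat.card_zpowers, hx, pow_one])).exists_le_sylow
  have hC := (Eleven.sylow_eleven_data hG P (hdata P)).1
  have hPz : Subgroup.zpowers x = (P : Subgroup G) :=
    Subgroup.eq_of_le_of_card_ge hle (by rw [hdata P, Nat.card_zpowers, hx])
  have hCx : cen x = Subgroup.centralizer (Subgroup.zpowers x : Set G) := by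
    rw [Subgroup.zpowers_eq_closure, Subgroup.centralizer_closure]
  rw [hCx, hPz, hC, hdata P]

end CfsgLib.M22Order
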