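import Cfsg.Agent.Lib.M22Order.Assembly
import Cfsg.Agent.Lib.M22Nse.Main
import Cfsg.Agent.Lib.M22Nse.Target

/-!
# Simple groups of order 443520 are the Mathieu group of degree 22, from the pieces
-/

set_option autoImplicit false

namespace CfsgLib.M22Order

universe u

/-- The isomorphism, from the facts. -/
theorem iso_of_facts (G : Type u) [Group G] [Finite G] (hG : M22Nse.Facts G) : Cfsg.Spor.IsoM22 G := by
  have FM := M22Nse.facts _ M22Nse.hyp_M22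
  obtain ⟨SG⟩ := M22Nse.sixteen G hG
  obtain ⟨SM⟩ := M22Nse.sixteen _ FM
  obtain ⟨V, iV, dV, Γ, rΓ, φ, hΓ, hφ⟩ := M22Nse.graph G hG SG
  obtain ⟨W, iW, dW, Δ, rΔ, ψ, hΔ, hψ⟩ := M22Nse.graph _ FM SM
  exact M22Nse.iso G _ hG FM V Γ W Δ φ ψ hΓ hΔ hφ hψ

/-- The isomorphism, from the pieces. -/
theorem unique_of (hA : ElevenStmt.{u}) (hB : TableStmt.{u}) (hC : SevenStmt.{u}) (hD1 : FiveStmt.{u})
    (hD2 : DegreesStmt.{u}) (hD3 : AltStmt.{u}) (hE : InvolStmt.{u}) (hF : ThreeStmt.{u}) (hO : OrdersStmt.{u}) :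
    Unique.{u} :=
  fun G _ _ hs hG => iso_of_facts G (facts_of hA hB hC hD1 hD2 hD3 hE hF hO G hs hG)

end CfsgLib.M22Order
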