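import Mathlib

/-!
# Simple groups of order 443520: arithmetic at five

The searches behind piece D1 of `tools/S1663_plan.md`.
-/

set_option autoImplicit false

namespace CfsgLib.M22Order.FiveArith

/-- The degrees that can occur besides the trivial one, for all five pairs of lists. -/
def degAll : List ℕ :=
  [21, 45, 55, 56, 66, 99, 105, 120, 126, 210, 252, 280, 336, 77, 154, 231, 308, 385, 462, 539, 616]

/-- The same without the degree that needs the first pair. -/
def degRest : List ℕ := degAll.filter fun d => decide (d ≠ 99)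

/-- A multiple of 77 below 666 is in the list. -/
theorem seventy_seven : ∀ d < 666, 77 ∣ d → 0 < d → d ∈ degRest := by decide +kernel

/-- There is no block with two ordinary and two exceptional characters. -/
theorem two_false : ∀ d ∈ degAll, ∀ D ∈ degAll, ∀ s ∈ ([1, -1] : List ℤ), ∀ ε ∈ ([1, -1] : List ℤ),
    s * (d : ℤ) % 5 = 1 → ε * (D : ℤ) % 5 = 2 → ε * (D : ℤ) ≠ 1 + s * (d : ℤ) := by
  decide +kernel

/-- The possible members of the block at five. -/
def cand : List ℕ := degRest.filter fun d => decide (d % 5 = 1 ∨ d % 5 = 4)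

/-- The signed degree. -/
def sv (d : ℕ) : ℤ := if d % 5 = 1 then (d : ℤ) else -(d : ℤ)

theorem mem_cand {d : ℕ} (h : d ∈ degRest) {s : ℤ} (hs : s = 1 ∨ s = -1)
    (hm : s * (d : ℤ) % 5 = 1) : d ∈ cand ∧ s * (d : ℤ) = sv d := by
  refine ⟨List.mem_filter.2 ⟨h, decide_eq_true ?_⟩, ?_⟩
  · rcases hs with rfl | rfl <;> omega
  · unfold sv
    rcases hs with rfl | rfl <;> split_ifs <;> omega

theorem four_table : ∀ a ∈ cand, ∀ b ∈ cand, ∀ c ∈ cand, ∀ d ∈ cand,
    1 + (sv a + sv b + sv c + sv d) = 0 →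
      ∃ i j k l : Fin 4, [i, j, k, l].Nodup ∧ ![a, b, c, d] i = 21 ∧ ![a, b, c, d] j = 66 ∧
        ![a, b, c, d] k = 66 ∧ ![a, b, c, d] l = 154 := by
  decide +kernel

theorem univ_of_nodup : ∀ i j k l : Fin 4, [i, j, k, l].Nodup →
    (Finset.univ : Finset (Fin 4)) = {i, j, k, l} ∧
      i ∉ ({j, k, l} : Finset (Fin 4)) ∧ j ∉ ({k, l} : Finset (Fin 4)) ∧ k ≠ l := by
  decide +kernel

/-- The values allowed to a character of degree 21. -/
def uVals : List ℤ := [-19, -15, -11, -7, -3, 1, 5, 9, 13, 17]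

theorem mem_uVals {u : ℤ} (h4 : (4 : ℤ) ∣ 21 - u) (h1 : -21 < u) (h2 : u < 21) : u ∈ uVals := by
  simp only [uVals, List.mem_cons, List.not_mem_nil, or_false]
  omega

/-- The values allowed to the character of degree 55 at an involution centralizing a five-element. -/
def pVals : List ℤ := [-45, -25, -5, 15, 35]

theorem mem_pVals {p : ℤ} (h4 : (4 : ℤ) ∣ 55 - p) (h5 : (5 : ℤ) ∣ p) (h1 : -55 < p) (h2 : p < 55) :
    p ∈ pVals := by
  simp only [pVals, List.mem_cons, List.not_mem_nil, or_false]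
  omega

/-- The values allowed to the character of degree 120. -/
def qVals : List ℤ := [-100, -80, -60, -40, -20, 0, 20, 40, 60, 80, 100]

theorem mem_qVals {q : ℤ} (h4 : (4 : ℤ) ∣ 120 - q) (h5 : (5 : ℤ) ∣ q) (h1 : -120 < q) (h2 : q < 120) :
    q ∈ qVals := by
  simp only [qVals, List.mem_cons, List.not_mem_nil, or_false]
  omega

/-- The divisors of 5760. -/
def cents : List ℕ :=
  [1, 2, 3, 4, 5, 6, 8, 9, 10, 12, 15, 16, 18, 20, 24, 30,
    32, 36, 40, 45, 48, 60, 64, 72, 80, 90, 96, 120, 128, 144, 160, 180,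
    192, 240, 288, 320, 360, 384, 480, 576, 640, 720, 960, 1152, 1440, 1920, 2880, 5760]

theorem mem_cents {C : ℕ} (h : C ∣ 5760) : C ∈ cents := by
  have key : ∀ C ∈ Nat.divisors 5760, C ∈ cents := by decide +kernel
  exact key C (Nat.mem_divisors.2 ⟨h, by norm_num⟩)

/-- The test with the square lemma. -/
def squareTest (p q u : ℤ) (c C : ℕ) : Bool :=
  let f := 1 - p + q
  let w := 1 + u + 2 * f
  let n := 4800 * (c : ℤ) * (462 + 22 * (u * u) + 14 * (f * f) - 3 * (w * w))
  !(decide (C % 9 = 0 → u % 3 = 0) &&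
      decide (1 + (p * p + q * q + 2 * (f * f) + u * u + w * w) ≤ (C : ℤ))) ||
    decide (Int.sqrt n * Int.sqrt n ≠ n)

theorem square_check :
    (pVals.all fun p => qVals.all fun q =>
      !decide (1320 - 24 * (p * p) + 11 * (q * q) - 20 * ((1 - p + q) * (1 - p + q)) = 0) ||
        uVals.all fun u => [6, 16, 36, 96].all fun c =>
          cents.all fun C => squareTest p q u c C) = true := by
  decide +kernel

theorem square_false {p q u : ℤ} {c C : ℕ} (hp : p ∈ pVals) (hq : q ∈ qVals) (hu : u ∈ uVals)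
    (hc : c ∈ ([6, 16, 36, 96] : List ℕ)) (hC : C ∣ 5760) (h3 : C % 9 = 0 → u % 3 = 0)
    (heq : 1320 - 24 * (p * p) + 11 * (q * q) - 20 * ((1 - p + q) * (1 - p + q)) = 0)
    (hle : 1 + (p * p + q * q + 2 * ((1 - p + q) * (1 - p + q)) + u * u +
      (1 + u + 2 * (1 - p + q)) * (1 + u + 2 * (1 - p + q))) ≤ (C : ℤ))
    {r : ℕ} (hr : (r : ℤ) ^ 2 = 4800 * (c : ℤ) *
      (462 + 22 * (u * u) + 14 * ((1 - p + q) * (1 - p + q)) -
        3 * ((1 + u + 2 * (1 - p + q)) * (1 + u + 2 * (1 - p + q))))) : False := by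
  have h := List.all_eq_true.1 (List.all_eq_true.1 square_check p hp) q hq
  rw [decide_eq_true heq, Bool.not_true, Bool.false_or] at h
  have h2 := List.all_eq_true.1 (List.all_eq_true.1 (List.all_eq_true.1 h u hu) c hc) C
    (mem_cents hC)
  simp only [squareTest, Bool.or_eq_true, Bool.not_eq_true', Bool.and_eq_false_iff,
    decide_eq_false_iff_not, decide_eq_true_eq] at h2
  rcases h2 with (h2 | h2) | h2
  · exact h2 h3
  · exact h2 hle
  · refine h2 ?_
    rw [← hr, sq, Int.sqrt_eq, Int.natAbs_natCast]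

/-- The values allowed to the character of degree 99. -/
def mVals : List ℤ := (List.range 49).map fun i : ℕ => 4 * (i : ℤ) - 97

theorem mem_mVals {q : ℤ} (h4 : (4 : ℤ) ∣ 99 - q) (h1 : -99 < q) (h2 : q < 99) : q ∈ mVals := by
  refine List.mem_map.2 ⟨((q + 97) / 4).toNat, List.mem_range.2 ?_, ?_⟩ <;> omega

theorem seven_check :
    (pVals.all fun p => mVals.all fun q =>
      !(decide ((1 - p + q) % 5 = 0) &&
          decide (495 - 9 * (p * p) + 5 * (q * q) - 11 * ((1 - p + q) * (1 - p + q)) = 0)) ||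
        decide (1 - p + q ∈ ([5, -15, 25, -35, 45, -45] : List ℤ))) = true := by
  decide +kernel

/-- The values allowed to the character of degree 210. -/
def xVals : List ℤ := [-70, -50, -30, -10, 10, 30, 50, 70]

theorem mem_xVals {x : ℤ} {C : ℕ} (hC : C ∣ 5760) (h4 : (4 : ℤ) ∣ 210 - x) (h5 : (5 : ℤ) ∣ x)
    (hsq : x * x ≤ (C : ℤ)) : x ∈ xVals := by
  have h : (C : ℤ) ≤ 5760 := by exact_mod_cast Nat.le_of_dvd (by norm_num) hC
  have h1 : -75 ≤ x ∧ x ≤ 75 := by constructor <;> nlinarith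
  simp only [xVals, List.mem_cons, List.not_mem_nil, or_false]
  omega

theorem eleven_check :
    (([5, -15, 25, -35, 45, -45] : List ℤ).all fun f => uVals.all fun u => xVals.all fun x =>
      cents.all fun C =>
        let k := 1 - u + 2 * f + x
        !(decide (2520 - 120 * (u * u) + 112 * (f * f) + 12 * (x * x) - 9 * (k * k) = 0) &&
          decide (C % 9 = 0 → u % 3 = 0) && decide (x * x ≤ (C : ℤ)) && decide (k % 5 = 0))) = true := by
  decide +kernel

theorem first_false {p q u x : ℤ} {C : ℕ} (hp : p ∈ pVals) (hq : q ∈ mVals) (hu : u ∈ uVals)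
    (hx : x ∈ xVals) (hC : C ∣ 5760) (hf5 : (1 - p + q) % 5 = 0)
    (h7 : 495 - 9 * (p * p) + 5 * (q * q) - 11 * ((1 - p + q) * (1 - p + q)) = 0)
    (h3 : C % 9 = 0 → u % 3 = 0) (hsq : x * x ≤ (C : ℤ))
    (hk5 : (1 - u + 2 * (1 - p + q) + x) % 5 = 0)
    (h11 : 2520 - 120 * (u * u) + 112 * ((1 - p + q) * (1 - p + q)) + 12 * (x * x) -
      9 * ((1 - u + 2 * (1 - p + q) + x) * (1 - u + 2 * (1 - p + q) + x)) = 0) : False := by
  have h := List.all_eq_true.1 (List.all_eq_true.1 seven_check p hp) q hq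
  rw [decide_eq_true hf5, decide_eq_true h7, Bool.and_self, Bool.not_true, Bool.false_or,
    decide_eq_true_eq] at h
  have h2 := List.all_eq_true.1 (List.all_eq_true.1 (List.all_eq_true.1
    (List.all_eq_true.1 eleven_check _ h) u hu) x hx) C
    (mem_cents hC)
  simp only [decide_eq_true h11, decide_eq_true h3, decide_eq_true hsq, decide_eq_true hk5,
    Bool.and_self, Bool.not_true] at h2
  exact Bool.false_ne_true h2

/-- The orders of the centralizers of five-elements. -/
theorem five_orders {c n : ℕ} (hn : n % 5 = 1) (hc : ¬ 7 ∣ c) (hc' : ¬ 11 ∣ c)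
    (h : c * 4 * n = 88704) : c ∈ ([1, 6, 16, 36, 96] : List ℕ) := by
  have h1 : c * n = 22176 := by linarith
  have hd : c ∈ Nat.divisors 22176 := Nat.mem_divisors.2 ⟨⟨n, h1.symm⟩, by norm_num⟩
  have key : ∀ c ∈ Nat.divisors 22176, c % 7 ≠ 0 → c % 11 ≠ 0 → 22176 / c % 5 = 1 →
      c ∈ ([1, 6, 16, 36, 96] : List ℕ) := by decide +kernel
  refine key c hd (by omega) (by omega) ?_
  rw [← h1, Nat.mul_div_cancel_left _ (Nat.pos_of_ne_zero (by rintro rfl; simp at h1))]
  exact hn

end CfsgLib.M22Order.FiveArith
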