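import Cfsg.Agent.Lib.M22Order.FiveSection
import Cfsg.Agent.Lib.M22Order.FiveArith
import Cfsg.Agent.Lib.M22Order.BlockTable
import Cfsg.Agent.Lib.M22Order.DegreesBasic
import Cfsg.Agent.Lib.M22Order.Alt

/-!
# Simple groups of order 443520: the structure at five (piece D1)

An involution commuting with an element of order five is killed by the relations at eleven and
seven in the first pair of lists, and by the square lemma at five in the other pairs; afterwards
there are at most five characters of degree prime to five, which leaves two pairs.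
-/

set_option autoImplicit false
set_option linter.style.haveILetI false
set_option linter.unusedSectionVars false

open Cfsg CfsgLib.Chars CfsgLib.CharApps CfsgLib.Blocks CfsgLib.Small

namespace CfsgLib.M22Order.FiveCase

open CfsgLib.M22Order.FiveArith CfsgLib.M22Order.FiveSection

universe u

variable {G : Type u} [Group G] [Finite G]

/-- The count of pairs of conjugates of `t` with product an element of order `p`. -/
theorem quad {p n : ℕ} [Fact p.Prime] {lists : List ((Fin n → ℕ) × ℕ)} (T : Table G p n lists)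
    (hp : p ∣ Nat.card G) (hinv : ∀ x u : G, orderOf x = p → u * u = 1 → u * x * u⁻¹ = x⁻¹ → u = 1)
    {t : G} (ht : t * t = 1) (ht1 : t ≠ 1) (hpt : ¬ p ∣ orderOf t) :
    1 + ∑ i, (T.sgn i : ℂ) * (T.a i : G → ℂ) t ^ 2 / (T.list.1 i : ℂ) -
      (T.ε : ℂ) * (T.θ 0 : G → ℂ) t ^ 2 / (T.list.2 : ℂ) = 0 := by
  classical
  haveI := Fintype.ofFinite G
  haveI := irrFintype G
  obtain ⟨z, hz⟩ := exists_prime_orderOf_dvd_card' (G := G) p hp
  have hzi : orderOf z⁻¹ = p := by rw [orderOf_inv, hz]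
  have h0 := card_conj_mul_conj t t z⁻¹
  rw [inv_inv] at h0
  have : IsEmpty {ab : G × G // (ab.1 * t * ab.1⁻¹) * (ab.2 * t * ab.2⁻¹) = z⁻¹} := by
    refine ⟨fun ⟨⟨a, b⟩, hab⟩ => ?_⟩
    have h1 : (a * t * a⁻¹) * (a * t * a⁻¹) = 1 := by
      rw [← sq, conj_pow, sq, ht, mul_one, mul_inv_cancel]
    have h2 : (b * t * b⁻¹) * (b * t * b⁻¹) = 1 := by
      rw [← sq, conj_pow, sq, ht, mul_one, mul_inv_cancel]
    have hu := hinv z⁻¹ (a * t * a⁻¹) hzi h1 ?_
    · exact ht1 (conj_eq_one_iff.1 hu)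
    · simp only at hab
      generalize a * t * a⁻¹ = u at hab h1 ⊢
      generalize b * t * b⁻¹ = u' at hab h2
      rw [← hab, mul_inv_rev u u', inv_eq_of_mul_eq_one_left h2, inv_eq_of_mul_eq_one_left h1,
        ← mul_assoc, h1, one_mul]
  rw [Nat.card_of_isEmpty, Nat.cast_zero, eq_comm, mul_eq_zero] at h0
  have h0 := h0.resolve_left (Chars.card_ne_zero G)
  set B : Finset (IrrCharacter G) :=
    insert (principal G) (Finset.univ.image (Fin.append T.a T.θ)) with hB
  have hout : ∀ χ ∈ Bᶜ, (χ : G → ℂ) z = 0 := by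
    intro χ hχ
    simp only [hB, Finset.mem_compl, Finset.mem_insert, Finset.mem_image, Finset.mem_univ,
      true_and, not_or, not_exists] at hχ
    rcases T.cover χ with e | ⟨i, e⟩ | ⟨-, e⟩
    · exact absurd e hχ.1
    · exact absurd e.symm (hχ.2 i)
    · exact e z hz
  have hsum : ∀ f : IrrCharacter G → ℂ, (∀ χ ∈ Bᶜ, f χ = 0) →
      ∑ χ, f χ = f (principal G) + (∑ i, f (T.a i) + ∑ j, f (T.θ j)) := by
    intro f hf
    rw [← Finset.sum_add_sum_compl B, Finset.sum_eq_zero hf, add_zero, hB,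
      Finset.sum_insert (by simpa using fun i => T.ne_principal i),
      Finset.sum_image (fun x _ y _ e => T.inj e), Fin.sum_univ_add]
    simp only [Fin.append_left, Fin.append_right]
  rw [hsum _ (fun χ hχ => by simp [hout χ hχ]), principal_apply, principal_apply,
    principal_apply] at h0
  have ha : ∀ i, (T.a i : G → ℂ) t * (T.a i : G → ℂ) t * (T.a i : G → ℂ) z /
      (T.a i : G → ℂ) 1 = (T.sgn i : ℂ) * (T.a i : G → ℂ) t ^ 2 / (T.list.1 i : ℂ) := fun i => by
    rw [T.at_p i z hz, deg_eq, T.deg_a i]; ring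
  have hw : (T.θ 1 : G → ℂ) t = (T.θ 0 : G → ℂ) t := by
    have hε : (T.ε : ℂ) ≠ 0 := by
      rcases T.ε_eq.1 with h | h <;> simp [h]
    exact mul_left_cancel₀ hε ((T.rel 1 t hpt).trans (T.rel 0 t hpt).symm)
  simp only [ha, Fin.sum_univ_two, hw, deg_eq (T.θ 0), deg_eq (T.θ 1), T.deg_θ] at h0
  linear_combination h0 - ((T.θ 0 : G → ℂ) t ^ 2 / (T.list.2 : ℂ)) * T.at_p_θ z hz

theorem sign_eq {p : ℕ} {d : ℕ} {s : ℤ} (hs : s = 1 ∨ s = -1) (h : s * (d : ℤ) % (p : ℤ) = 1)
    (s₀ : ℤ) (h₀ : s₀ = 1 ∨ s₀ = -1) (h' : (-s₀) * (d : ℤ) % (p : ℤ) ≠ 1) : s = s₀ := by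
  rcases hs with rfl | rfl <;> rcases h₀ with rfl | rfl
  · rfl
  · exact absurd (by simpa using h) h'
  · exact absurd (by simpa using h) h'
  · rfl

variable [IsSimpleGroup G] (hG : Nat.card G = 443520) (h11 : LocalEleven G) (h7 : LocalSeven G)
  (T : TableEleven G) (S : TableSeven G) (hTS : (T.list, S.list) ∈ pairs)

theorem pair_cases (hTS : (T.list, S.list) ∈ pairs) :
    (T.list = (![21, 45, 45, 210], 280) ∧ S.list = (![55, 99], 45)) ∨
      ((T.list = (![21, 120, 210, 210], 280) ∨ T.list = (![21, 21, 56, 120], 105) ∨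
        T.list = (![21, 56, 120, 210], 126) ∨ T.list = (![21, 56, 120, 252], 336)) ∧
        S.list = (![55, 120], 66)) := by
  simp only [pairs, List.mem_cons, List.not_mem_nil, or_false, Prod.mk.injEq] at hTS
  rcases hTS with h | h | h | h | h
  · exact .inl h
  · exact .inr ⟨.inl h.1, h.2⟩
  · exact .inr ⟨.inr (.inl h.1), h.2⟩
  · exact .inr ⟨.inr (.inr (.inl h.1)), h.2⟩
  · exact .inr ⟨.inr (.inr (.inr h.1)), h.2⟩

include hG

theorem seventy_seven_of {χ : IrrCharacter G} (h11' : 11 ∣ dg χ) (h7' : 7 ∣ dg χ) :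
    dg χ ∈ degRest :=
  seventy_seven _ (BlockTable.degree_facts hG χ).1
    (Nat.Coprime.mul_dvd_of_dvd_of_dvd (by norm_num : Nat.Coprime 7 11) h7' h11')
    (BlockTable.degree_facts hG χ).2.2

include hTS

theorem degree_mem {χ : IrrCharacter G} (hne : χ ≠ principal G) :
    dg χ ∈ degAll ∧ (S.list = (![55, 120], 66) → dg χ ∈ degRest) := by
  have key : ∀ pr ∈ pairs, (∀ i, pr.1.1 i ∈ degRest) ∧ pr.1.2 ∈ degRest ∧
      (∀ i, pr.2.1 i ∈ degAll) ∧ pr.2.2 ∈ degAll := by decide +kernel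
  have keyB : (∀ i, ((![55, 120], 66) : (Fin 2 → ℕ) × ℕ).1 i ∈ degRest) ∧ (66 : ℕ) ∈ degRest := by
    decide +kernel
  obtain ⟨k1, k2, k3, k4⟩ := key _ hTS
  have hsub : ∀ d ∈ degRest, d ∈ degAll := fun d hd => (List.mem_filter.1 hd).1
  have both : dg χ ∈ degRest → dg χ ∈ degAll ∧ (S.list = (![55, 120], 66) → dg χ ∈ degRest) :=
    fun h => ⟨hsub _ h, fun _ => h⟩
  rcases T.known χ with h | ⟨i, rfl⟩ | ⟨j, rfl⟩ | ⟨h, -⟩
  · exact absurd h hne
  · exact both (by rw [dg, T.deg_a]; exact k1 i)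
  · exact both (by rw [dg, T.deg_θ]; exact k2)
  · rcases S.known χ with h' | ⟨i, rfl⟩ | ⟨j, rfl⟩ | ⟨h', -⟩
    · exact absurd h' hne
    · refine ⟨by rw [dg, S.deg_a]; exact k3 i, fun e => ?_⟩
      rw [dg, S.deg_a, e]
      exact keyB.1 i
    · refine ⟨by rw [dg, S.deg_θ]; exact k4, fun e => ?_⟩
      rw [dg, S.deg_θ, e]
      exact keyB.2
    · exact both (seventy_seven_of hG h h')

/-- The index of the centralizer in the normalizer is not two. -/
theorem index_ne_two [Fact (Nat.Prime 5)] (P : Sylow 5 G) (hP : Nat.card (P : Subgroup G) = 5) :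
    (Subgroup.centralizer ((P : Subgroup G) : Set G)).relIndex
      (Subgroup.normalizer ((P : Subgroup G) : Set G)) ≠ 2 := by
  classical
  intro hrel'
  haveI := Fintype.ofFinite G
  obtain ⟨M, hM⟩ := CharApps.exists_pModular (p := 5)
  haveI := hM.2.1.isPrime
  obtain ⟨X, Y, σ, ε, hB, hdisj, hX, hY, hXp, hε, hYd, hYeq, hrel⟩ :=
    Small.O7920.exists_block_data (by norm_num) hM P hP hrel'
  norm_num at hY
  have h5one : ¬ 5 ∣ orderOf (1 : G) := by rw [orderOf_one]; norm_num
  obtain ⟨θ₁, θ₂, hθne, rfl⟩ := Finset.card_eq_two.1 hY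
  have hθm : θ₁ ∈ ({θ₁, θ₂} : Finset (IrrCharacter G)) := by simp
  have hprin : principal G ∈ X := by
    rcases (hB _).1 (CfsgLib.Blocks.principal_mem_principalBlock M) with h | h
    · exact h
    exfalso
    have key : ∀ ψ ∈ ({θ₁, θ₂} : Finset (IrrCharacter G)), ψ = principal G := fun ψ hψ => by
      have h1 := hYeq ψ hψ _ h 1 h5one
      rw [deg_eq, principal_apply, Nat.cast_eq_one] at h1
      exact BlockTable.eq_principal hG h1
    exact hθne ((key _ hθm).trans (key _ (by simp)).symm)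
  obtain ⟨χ, hχe⟩ := Finset.card_eq_one.1 (show (X.erase (principal G)).card = 1 by
    rw [Finset.card_erase_of_mem hprin, hX])
  have hχX : χ ∈ X ∧ χ ≠ principal G := by
    have h : χ ∈ X.erase (principal G) := by simp [hχe]
    rw [Finset.mem_erase] at h
    exact ⟨h.2, h.1⟩
  have hσp : σ (principal G) = 1 := by
    have h := (hXp _ hprin).2.1
    rw [BlockTable.principal_degree hG, Int.modEq_iff_dvd] at h
    rcases (hXp _ hprin).1 with h' | h' <;> rw [h'] at h ⊢ <;> omega
  have hT : ε * (charDegree (θ₁ : G → ℂ) : ℤ) = 1 + σ χ * (charDegree (χ : G → ℂ) : ℤ) := by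
    have h := hrel θ₁ hθm 1 h5one
    rw [← Finset.add_sum_erase _ _ hprin, hχe, Finset.sum_singleton, hσp, principal_apply,
      deg_eq, deg_eq, Int.cast_one, one_mul] at h
    exact_mod_cast h
  have hθp : θ₁ ≠ principal G := fun h => Finset.disjoint_left.1 hdisj hprin (h ▸ hθm)
  have h1 := (hXp χ hχX.1).2.1
  have h2 := hYd θ₁ hθm
  rw [Int.ModEq] at h1 h2
  norm_num at h1 h2
  refine two_false _ (degree_mem hG T S hTS hχX.2).1 _ (degree_mem hG T S hTS hθp).1 (σ χ) ?_ ε ?_
    h1 h2 hT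
  · rcases (hXp χ hχX.1).1 with h | h <;> simp [h]
  · rcases hε with h | h <;> simp [h]

include h11 h7

/-- The facts at an involution centralizing an element of order five. -/
theorem invol_facts {t : G} (ht : orderOf t = 2) (h5 : 5 ∣ Nat.card (cen t)) :
    Nat.card (cen t) ∣ 5760 ∧ t * t = 1 ∧ t ≠ 1 ∧ ¬ 7 ∣ orderOf t ∧ ¬ 11 ∣ orderOf t ∧
      ∃ v : IrrCharacter G → ℤ, (∀ χ, (v χ : ℂ) = (χ : G → ℂ) t) ∧
        (∀ χ, dg χ ≠ 1 → (4 : ℤ) ∣ (dg χ : ℤ) - v χ ∧ -(dg χ : ℤ) < v χ ∧ v χ < (dg χ : ℤ)) ∧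
        (∀ χ, 5 ∣ dg χ → (5 : ℤ) ∣ v χ) ∧
        (∀ χ, 3 ∣ dg χ → Nat.card (cen t) % 9 = 0 → v χ % 3 = 0) := by
  haveI := Fact.mk (show Nat.Prime 7 by norm_num)
  haveI := Fact.mk (show Nat.Prime 11 by norm_num)
  haveI := Fintype.ofFinite G
  have htt : t * t = 1 := by rw [← sq, ← ht, pow_orderOf_eq_one]
  have ht1 : t ≠ 1 := fun h => by rw [h, orderOf_one] at ht; norm_num at ht
  have hC : Nat.card (cen t) ∣ 443520 := hG ▸ (cen t).card_subgroup_dvd_card
  have n7 := AltCase.not_dvd_cen h7 (by norm_num) ht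
  have n11 := AltCase.not_dvd_cen h11 (by norm_num) ht
  have hcop : Nat.Coprime (Nat.card (cen t)) 77 := by
    rw [show 77 = 7 * 11 from rfl]
    exact Nat.Coprime.mul_right
      (((by norm_num : Nat.Prime 7).coprime_iff_not_dvd).2 n7).symm
      (((by norm_num : Nat.Prime 11).coprime_iff_not_dvd).2 n11).symm
  have hC' : Nat.card (cen t) ∣ 5760 :=
    hcop.dvd_of_dvd_mul_right (show Nat.card (cen t) ∣ 5760 * 77 from hC)
  refine ⟨hC', htt, ht1, by rw [ht]; norm_num, by rw [ht]; norm_num, ?_⟩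
  choose v hv using fun χ : IrrCharacter G => exists_int_apply_involution htt χ
  have hidx := BlockTable.index_mul_card_cen hG t
  refine ⟨v, hv, fun χ hd => ?_, fun χ hd => ?_, fun χ hd h9 => ?_⟩
  · obtain ⟨m, hm, h4, hlo, hhi⟩ := BlockTable.involution_value hG htt ht1 χ hd
    have e : v χ = m := by
      have h : (v χ : ℂ) = (m : ℂ) := by rw [hv, hm]
      exact_mod_cast h
    subst e
    refine ⟨h4, lt_of_le_of_ne hlo fun h => ?_, hhi⟩
    refine BlockTable.apply_ne_neg_degree hG htt ht1 χ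
      (fun e => hd (e ▸ BlockTable.principal_degree hG)) ?_
    rw [← hv, ← h]
    push_cast
    rfl
  · have h := degree_dvd_index_mul χ (hv χ)
    have h' : (5 : ℤ) ∣ ((cen t).index : ℤ) * v χ :=
      (Int.natCast_dvd_natCast.2 hd).trans h
    refine ((Nat.prime_iff_prime_int.1 (by norm_num : Nat.Prime 5)).dvd_mul.1 h').resolve_left ?_
    intro hi
    have := Nat.mul_dvd_mul (Int.natCast_dvd_natCast.1 hi) h5
    rw [hidx] at this
    norm_num at this
  · have h := degree_dvd_index_mul χ (hv χ)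
    have h' : (3 : ℤ) ∣ ((cen t).index : ℤ) * v χ :=
      (Int.natCast_dvd_natCast.2 hd).trans h
    refine Int.emod_eq_zero_of_dvd
      (((Nat.prime_iff_prime_int.1 (by norm_num : Nat.Prime 3)).dvd_mul.1 h').resolve_left ?_)
    intro hi
    have := Nat.mul_dvd_mul (Int.natCast_dvd_natCast.1 hi) (Nat.dvd_of_mod_eq_zero h9)
    rw [hidx] at this
    norm_num at this

theorem quad_seven {t : G} (htt : t * t = 1) (ht1 : t ≠ 1) (ht7 : ¬ 7 ∣ orderOf t) :
    1 + ∑ i, (S.sgn i : ℂ) * (S.a i : G → ℂ) t ^ 2 / (S.list.1 i : ℂ) -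
      (S.ε : ℂ) * (S.θ 0 : G → ℂ) t ^ 2 / (S.list.2 : ℂ) = 0 := by
  haveI := Fact.mk (show Nat.Prime 7 by norm_num)
  have hfac : (Nat.card G).factorization 7 = 1 := by
    rw [hG, show 443520 = 7 ^ 1 * 63360 by norm_num, Nat.factorization_mul (by norm_num) (by norm_num),
      Nat.factorization_pow]
    simp [Nat.factorization_eq_zero_of_not_dvd (show ¬ 7 ∣ 63360 by norm_num),
      Nat.Prime.factorization_self (show Nat.Prime 7 by norm_num)]
  exact quad S (by rw [hG]; norm_num)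
    (fun x u hx hu hux => AltCase.not_inverted h7 (by norm_num) hfac hx hu hux) htt ht1 ht7

/-- No involution centralizes an element of order five in the first pair of lists. -/
theorem first_pair (hT : T.list = (![21, 45, 45, 210], 280)) (hS : S.list = (![55, 99], 45))
    {t : G} (ht : orderOf t = 2) (h5 : 5 ∣ Nat.card (cen t)) : False := by
  classical
  haveI := Fact.mk (show Nat.Prime 11 by norm_num)
  obtain ⟨hC, htt, ht1, ht7, ht11, v, hv, hb, hv5, hv3⟩ := invol_facts hG h11 h7 T S hTS ht h5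
  have dp := principal_dg (G := G) hG
  have d0 : dg (T.a 0) = 21 := by rw [dg, T.deg_a, hT]; rfl
  have d1 : dg (T.a 1) = 45 := by rw [dg, T.deg_a, hT]; rfl
  have d2 : dg (T.a 2) = 45 := by rw [dg, T.deg_a, hT]; rfl
  have d3 : dg (T.a 3) = 210 := by rw [dg, T.deg_a, hT]; rfl
  have dt : dg (T.θ 0) = 280 := by rw [dg, T.deg_θ, hT]
  have e0 : dg (S.a 0) = 55 := by rw [dg, S.deg_a, hS]; rfl
  have e1 : dg (S.a 1) = 99 := by rw [dg, S.deg_a, hS]; rfl
  have et : ∀ j, dg (S.θ j) = 45 := fun j => by rw [dg, S.deg_θ, hS]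
  have hsT : T.sgn 0 = -1 ∧ T.sgn 1 = 1 ∧ T.sgn 2 = 1 ∧ T.sgn 3 = 1 ∧ T.ε = 1 := by
    refine ⟨sign_eq (T.sgn_eq 0).1 (T.sgn_eq 0).2 _ (Or.inr rfl) ?_,
      sign_eq (T.sgn_eq 1).1 (T.sgn_eq 1).2 _ (Or.inl rfl) ?_,
      sign_eq (T.sgn_eq 2).1 (T.sgn_eq 2).2 _ (Or.inl rfl) ?_,
      sign_eq (T.sgn_eq 3).1 (T.sgn_eq 3).2 _ (Or.inl rfl) ?_, ?_⟩
    iterate 4 · rw [hT]; decide
    have h := T.ε_eq
    rw [hT] at h
    rcases h.1 with e | e
    · exact e
    · rw [e] at h; norm_num at h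
  have hsS : S.sgn 0 = -1 ∧ S.sgn 1 = 1 ∧ S.ε = 1 := by
    refine ⟨sign_eq (S.sgn_eq 0).1 (S.sgn_eq 0).2 _ (Or.inr rfl) ?_,
      sign_eq (S.sgn_eq 1).1 (S.sgn_eq 1).2 _ (Or.inl rfl) ?_, ?_⟩
    iterate 2 · rw [hS]; decide
    have h := S.ε_eq
    rw [hS] at h
    rcases h.1 with e | e
    · exact e
    · rw [e] at h; norm_num at h
  set p := v (S.a 0) with hp
  set q := v (S.a 1) with hq
  set w := v (T.a 0) with hw
  set x := v (T.a 3) with hx
  have hθ : ∀ j, (S.θ j : G → ℂ) t = ((1 - p + q : ℤ) : ℂ) := fun j => by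
    have h := S.rel j t ht7
    rw [Fin.sum_univ_two, hsS.1, hsS.2.1, hsS.2.2, ← hv (S.a 0), ← hv (S.a 1)] at h
    push_cast at h ⊢
    linear_combination h
  have h45 : ∀ χ : IrrCharacter G, dg χ = 45 → (χ : G → ℂ) t = ((1 - p + q : ℤ) : ℂ) := by
    intro χ hd
    rcases S.known χ with h | ⟨i, h⟩ | ⟨j, h⟩ | ⟨h, -⟩
    · rw [h, dp] at hd; omega
    · fin_cases i <;> simp only [h, Fin.isValue, Fin.zero_eta, Fin.mk_one, e0, e1] at hd <;> omega
    · rw [h]; exact hθ j
    · rw [hd] at h; omega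
  have hk : (T.θ 0 : G → ℂ) t = ((1 - w + 2 * (1 - p + q) + x : ℤ) : ℂ) := by
    have h := T.rel 0 t ht11
    rw [Fin.sum_univ_four, hsT.1, hsT.2.1, hsT.2.2.1, hsT.2.2.2.1, hsT.2.2.2.2, h45 _ d1, h45 _ d2,
      ← hv (T.a 0), ← hv (T.a 3)] at h
    push_cast at h ⊢
    linear_combination h
  have q7 : 495 - 9 * (p * p) + 5 * (q * q) - 11 * ((1 - p + q) * (1 - p + q)) = 0 := by
    have h := quad_seven hG h11 h7 T S hTS htt ht1 ht7
    rw [Fin.sum_univ_two, hsS.1, hsS.2.1, hsS.2.2, ← hv (S.a 0), ← hv (S.a 1), hθ 0, hS] at h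
    simp only [Matrix.cons_val_zero, Matrix.cons_val_one, Matrix.cons_val_fin_one] at h
    push_cast at h
    refine Int.cast_injective (α := ℂ) ?_
    push_cast
    linear_combination 495 * h
  have q11 : 2520 - 120 * (w * w) + 112 * ((1 - p + q) * (1 - p + q)) + 12 * (x * x) -
      9 * ((1 - w + 2 * (1 - p + q) + x) * (1 - w + 2 * (1 - p + q) + x)) = 0 := by
    have h := quad T (by rw [hG]; norm_num)
      (fun x u hx hu hux => BlockTable.eq_one_of_inverts hG h11 hx hu hux) htt ht1 ht11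
    rw [Fin.sum_univ_four, hsT.1, hsT.2.1, hsT.2.2.1, hsT.2.2.2.1, hsT.2.2.2.2, hk, h45 _ d1,
      h45 _ d2, ← hv (T.a 0), ← hv (T.a 3), hT] at h
    simp only [Matrix.cons_val_zero, Matrix.cons_val_one, Matrix.cons_val, Matrix.cons_val_fin_one] at h
    push_cast at h
    refine Int.cast_injective (α := ℂ) ?_
    push_cast
    linear_combination 2520 * h
  have hf5 : (1 - p + q) % 5 = 0 := by
    refine Int.emod_eq_zero_of_dvd ?_
    have h := hv5 (S.θ 0) (by rw [et]; norm_num)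
    have e : v (S.θ 0) = 1 - p + q := by
      have h' : (v (S.θ 0) : ℂ) = ((1 - p + q : ℤ) : ℂ) := by rw [hv, hθ 0]
      exact_mod_cast h'
    rwa [e] at h
  have hk5 : (1 - w + 2 * (1 - p + q) + x) % 5 = 0 := by
    refine Int.emod_eq_zero_of_dvd ?_
    have h := hv5 (T.θ 0) (by rw [dt]; norm_num)
    have e : v (T.θ 0) = 1 - w + 2 * (1 - p + q) + x := by
      have h' : (v (T.θ 0) : ℂ) = ((1 - w + 2 * (1 - p + q) + x : ℤ) : ℂ) := by rw [hv, hk]
      exact_mod_cast h'
    rwa [e] at h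
  have hsq : x * x ≤ (Nat.card (cen t) : ℤ) := by
    have h := M12Order.sum_sq_le_card_cen (g := t) {T.a 3} v fun χ _ => hv χ
    rw [Finset.sum_singleton, ← hx, sq] at h
    exact h
  obtain ⟨p4, plo, phi⟩ := hb (S.a 0) (by rw [e0]; norm_num)
  obtain ⟨q4, qlo, qhi⟩ := hb (S.a 1) (by rw [e1]; norm_num)
  obtain ⟨w4, wlo, whi⟩ := hb (T.a 0) (by rw [d0]; norm_num)
  obtain ⟨x4, -, -⟩ := hb (T.a 3) (by rw [d3]; norm_num)
  have p5 := hv5 (S.a 0) (by rw [e0]; norm_num)
  have x5 := hv5 (T.a 3) (by rw [d3]; norm_num)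
  rw [e0] at p4 plo phi
  rw [e1] at q4 qlo qhi
  rw [d0] at w4 wlo whi
  rw [d3] at x4
  push_cast at p4 plo phi q4 qlo qhi w4 wlo whi x4
  exact first_false (mem_pVals p4 p5 plo phi) (mem_mVals q4 qlo qhi) (mem_uVals w4 wlo whi)
    (mem_xVals hC x4 x5 hsq) hC hf5 q7 (fun h9 => hv3 (T.a 0) (by rw [d0]; norm_num) h9) hsq hk5 q11

set_option maxHeartbeats 1000000 in
/-- No involution centralizes an element of order five in the other pairs. -/
theorem other_pairs (hS : S.list = (![55, 120], 66)) {w : G} {c : ℕ} (D : Sec w c) (F : Five D)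
    (hc : c ∈ ([6, 16, 36, 96] : List ℕ)) {t : G} (ht : orderOf t = 2) (htw : Commute t w) : False := by
  classical
  haveI := Fintype.ofFinite G
  haveI := irrFintype G
  letI : Fintype D.H := Fintype.ofFinite _
  have h5 : 5 ∣ Nat.card (cen t) :=
    D.order ▸ Subgroup.orderOf_dvd_natCard _ (Subgroup.mem_centralizer_singleton_iff.2 htw.symm.eq)
  obtain ⟨hC, htt, ht1, ht7, -, v, hv, hb, hv5, hv3⟩ := invol_facts hG h11 h7 T S hTS ht h5
  have dp := principal_dg (G := G) hG
  have e0 : dg (S.a 0) = 55 := by rw [dg, S.deg_a, hS]; rfl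
  have e1 : dg (S.a 1) = 120 := by rw [dg, S.deg_a, hS]; rfl
  have et : ∀ j, dg (S.θ j) = 66 := fun j => by rw [dg, S.deg_θ, hS]
  have hsS : S.sgn 0 = -1 ∧ S.sgn 1 = 1 ∧ S.ε = 1 := by
    refine ⟨sign_eq (S.sgn_eq 0).1 (S.sgn_eq 0).2 _ (Or.inr rfl) ?_,
      sign_eq (S.sgn_eq 1).1 (S.sgn_eq 1).2 _ (Or.inl rfl) ?_, ?_⟩
    iterate 2 · rw [hS]; decide
    have h := S.ε_eq
    rw [hS] at h
    rcases h.1 with e | e
    · exact e
    · rw [e] at h; norm_num at h
  set p := v (S.a 0) with hp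
  set q := v (S.a 1) with hq
  have hθ : ∀ j, (S.θ j : G → ℂ) t = ((1 - p + q : ℤ) : ℂ) := fun j => by
    have h := S.rel j t ht7
    rw [Fin.sum_univ_two, hsS.1, hsS.2.1, hsS.2.2, ← hv (S.a 0), ← hv (S.a 1)] at h
    push_cast at h ⊢
    linear_combination h
  have h66 : ∀ χ : IrrCharacter G, dg χ = 66 → v χ = 1 - p + q := by
    intro χ hd
    have h' : (v χ : ℂ) = ((1 - p + q : ℤ) : ℂ) := by
      rw [hv]
      rcases S.known χ with h | ⟨i, h⟩ | ⟨j, h⟩ | ⟨h, -⟩
      · rw [h, dp] at hd; omega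
      · fin_cases i <;> simp only [h, Fin.isValue, Fin.zero_eta, Fin.mk_one, e0, e1] at hd <;> omega
      · rw [h]; exact hθ j
      · rw [hd] at h; omega
    exact_mod_cast h'
  have q7 : 1320 - 24 * (p * p) + 11 * (q * q) - 20 * ((1 - p + q) * (1 - p + q)) = 0 := by
    have h := quad_seven hG h11 h7 T S hTS htt ht1 ht7
    rw [Fin.sum_univ_two, hsS.1, hsS.2.1, hsS.2.2, ← hv (S.a 0), ← hv (S.a 1), hθ 0, hS] at h
    simp only [Matrix.cons_val_zero, Matrix.cons_val_one, Matrix.cons_val_fin_one] at h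
    push_cast at h
    refine Int.cast_injective (α := ℂ) ?_
    push_cast
    linear_combination 1320 * h
  -- the block at five
  have hmem : ∀ i, dg (F.f i) ∈ cand ∧ F.s i * (dg (F.f i) : ℤ) = sv (dg (F.f i)) := fun i =>
    mem_cand ((degree_mem hG T S hTS (F.ne i)).2 hS) (F.sign i) (F.degree i)
  obtain ⟨i, j, k, l, hnd, di, dj, dk, dl⟩ := four_table _ (hmem 0).1 _ (hmem 1).1 _ (hmem 2).1 _
    (hmem 3).1 (by
      have h := F.rel 1 (by rw [orderOf_one]; norm_num)
      simp only [deg_eq, Fin.sum_univ_four] at h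
      rw [← (hmem 0).2, ← (hmem 1).2, ← (hmem 2).2, ← (hmem 3).2]
      exact_mod_cast h)
  have hfn : ![dg (F.f 0), dg (F.f 1), dg (F.f 2), dg (F.f 3)] = fun i => dg (F.f i) := by
    funext i; fin_cases i <;> rfl
  rw [hfn] at di dj dk dl
  simp only [] at di dj dk dl
  have hsi : F.s i = 1 := by
    have := F.degree i; rw [show (charDegree (F.f i : G → ℂ)) = 21 from di] at this
    rcases F.sign i with e | e <;> rw [e] at this ⊢ <;> norm_num at this
  have hsj : F.s j = 1 := by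
    have := F.degree j; rw [show (charDegree (F.f j : G → ℂ)) = 66 from dj] at this
    rcases F.sign j with e | e <;> rw [e] at this ⊢ <;> norm_num at this
  have hsk : F.s k = 1 := by
    have := F.degree k; rw [show (charDegree (F.f k : G → ℂ)) = 66 from dk] at this
    rcases F.sign k with e | e <;> rw [e] at this ⊢ <;> norm_num at this
  have hsl : F.s l = -1 := by
    have := F.degree l; rw [show (charDegree (F.f l : G → ℂ)) = 154 from dl] at this
    rcases F.sign l with e | e <;> rw [e] at this ⊢ <;> norm_num at this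
  obtain ⟨huniv, n1, n2, n3⟩ := univ_of_nodup i j k l hnd
  have hsum : ∀ g : Fin 4 → ℂ, ∑ m, g m = g i + (g j + (g k + g l)) := fun g => by
    rw [huniv, Finset.sum_insert n1, Finset.sum_insert n2, Finset.sum_pair n3]
  set u := v (F.f i) with hu
  set x := v (F.f l) with hx
  have hxval : x = 1 + u + 2 * (1 - p + q) := by
    have h := F.rel t (by rw [ht]; norm_num)
    rw [hsum, hsi, hsj, hsk, hsl, ← hv (F.f i), ← hv (F.f j), ← hv (F.f k), ← hv (F.f l),
      h66 _ dj, h66 _ dk, ← hu, ← hx] at h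
    refine Int.cast_injective (α := ℂ) ?_
    push_cast at h ⊢
    linear_combination -h
  have hle : 1 + (p * p + q * q + 2 * ((1 - p + q) * (1 - p + q)) + u * u +
      (1 + u + 2 * (1 - p + q)) * (1 + u + 2 * (1 - p + q))) ≤ (Nat.card (cen t) : ℤ) := by
    have h := M12Order.sum_sq_le_card_cen (g := t)
      {principal G, S.a 0, S.a 1, S.θ 0, S.θ 1, F.f i, F.f l} v fun χ _ => hv χ
    have hvp : v (principal G) = 1 := by
      have h' := hv (principal G)
      rw [principal_apply] at h'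
      exact_mod_cast h'
    have hne := S.θ_ne
    rw [Finset.sum_insert, Finset.sum_insert, Finset.sum_insert, Finset.sum_insert,
      Finset.sum_insert, Finset.sum_insert, Finset.sum_singleton] at h
    · rw [hvp, ← hp, ← hq, h66 _ (et 0), h66 _ (et 1), ← hu, ← hx, hxval] at h
      linarith
    all_goals
      simp only [Finset.mem_insert, Finset.mem_singleton, not_or]
      repeat' apply And.intro
    all_goals first
      | assumption
      | (intro h; have := congrArg dg h; simp only [dp, e0, e1, et, di, dl] at this; omega)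
  obtain ⟨r, hr⟩ := exists_square D (t := t) htt
  rw [F.weighted, principal_apply, principal_apply, hsum, hsi, hsj, hsk, hsl, deg_eq, deg_eq,
    deg_eq, deg_eq, show charDegree (F.f i : G → ℂ) = 21 from di,
    show charDegree (F.f j : G → ℂ) = 66 from dj, show charDegree (F.f k : G → ℂ) = 66 from dk,
    show charDegree (F.f l : G → ℂ) = 154 from dl, ← hv (F.f i), ← hv (F.f j), ← hv (F.f k),
    ← hv (F.f l), h66 _ dj, h66 _ dk, ← hu, ← hx, hxval, hG] at hr
  have hr' : (r : ℤ) ^ 2 = 4800 * (c : ℤ) * (462 + 22 * (u * u) + 14 * ((1 - p + q) * (1 - p + q)) -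
      3 * ((1 + u + 2 * (1 - p + q)) * (1 + u + 2 * (1 - p + q)))) := by
    refine Int.cast_injective (α := ℂ) ?_
    push_cast at hr ⊢
    linear_combination hr
  obtain ⟨p4, plo, phi⟩ := hb (S.a 0) (by rw [e0]; norm_num)
  obtain ⟨q4, qlo, qhi⟩ := hb (S.a 1) (by rw [e1]; norm_num)
  obtain ⟨u4, ulo, uhi⟩ := hb (F.f i) (by rw [di]; norm_num)
  have p5 := hv5 (S.a 0) (by rw [e0]; norm_num)
  have q5 := hv5 (S.a 1) (by rw [e1]; norm_num)
  rw [e0] at p4 plo phi
  rw [e1] at q4 qlo qhi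
  rw [di] at u4 ulo uhi
  push_cast at p4 plo phi q4 qlo qhi u4 ulo uhi
  exact square_false (mem_pVals p4 p5 plo phi) (mem_qVals q4 q5 qlo qhi) (mem_uVals u4 ulo uhi) hc hC
    (fun h9 => hv3 (F.f i) (by rw [di]; norm_num) h9) q7 hle hr'

/-- The local structure at five. -/
theorem local_five : LocalFive G := by
  haveI := Fact.mk (show Nat.Prime 5 by norm_num)
  haveI := Fact.mk (show Nat.Prime 7 by norm_num)
  haveI := Fact.mk (show Nat.Prime 11 by norm_num)
  have key : ∀ P : Sylow 5 G, Nat.card (Subgroup.centralizer ((P : Subgroup G) : Set G)) = 5 ∧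
      Nat.card (Subgroup.normalizer ((P : Subgroup G) : Set G)) = 20 := by
    intro P
    have hP : Nat.card (P : Subgroup G) = 5 := by
      simpa using card_sylow_eq (p := 5) 1 88704 (by rw [hG]; rfl) (by norm_num) P
    obtain ⟨⟨w, hwP⟩, hw⟩ := exists_prime_orderOf_dvd_card' (G := (P : Subgroup G)) 5 (by rw [hP])
    rw [Subgroup.orderOf_mk] at hw
    have hPw : (P : Subgroup G) = Subgroup.zpowers w :=
      (Subgroup.eq_of_le_of_card_ge (Subgroup.zpowers_le.2 hwP)
        (by rw [Nat.card_zpowers, hw, hP])).symm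
    have hCw : Subgroup.centralizer ((P : Subgroup G) : Set G) = cen w := by
      rw [hPw, M12Order.FiveEven.centralizer_zpowers]
    obtain ⟨e, he1, hed, hce⟩ := exists_normalizer_centralizer (nonabelian hG) P hP
    obtain ⟨c, hc⟩ := dvd_card_centralizer P hP
    have hmul := card_normalizer_mul P
    rw [← hce, hc, hG] at hmul
    have hnm : Nat.card (Sylow 5 G) % 5 = 1 := card_sylow_modEq_one 5 G
    generalize Nat.card (Sylow 5 G) = n at hmul hnm
    have hrel' : (Subgroup.centralizer ((P : Subgroup G) : Set G)).relIndex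
        (Subgroup.normalizer ((P : Subgroup G) : Set G)) = e := by
      have hle : Subgroup.centralizer ((P : Subgroup G) : Set G) ≤
          Subgroup.normalizer ((P : Subgroup G) : Set G) := Subgroup.centralizer_le_normalizer _
      have h := Subgroup.relIndex_mul_relIndex _ _ _ bot_le hle
      rw [Subgroup.relIndex_bot_left, Subgroup.relIndex_bot_left, ← hce] at h
      exact Nat.eq_of_mul_eq_mul_left Nat.card_pos h
    obtain rfl : e = 4 := by
      have h := Nat.le_of_dvd (by norm_num) hed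
      have h2 := index_ne_two hG T S hTS P hP
      rw [hrel'] at h2
      norm_num at hed h
      interval_cases e <;> omega
    have hnot : ∀ p m : ℕ, p.Prime → Local G p m → ¬ 5 ∣ p → ¬ p ∣ c := by
      intro p m hp hL hp5 hd
      haveI := Fact.mk hp
      obtain ⟨⟨x, hxC⟩, hxo⟩ := exists_prime_orderOf_dvd_card' (G := cen w) p
        (by rw [← hCw, hc]; exact hd.mul_left 5)
      rw [Subgroup.orderOf_mk] at hxo
      have h := Subgroup.orderOf_dvd_natCard (cen x)
        (Subgroup.mem_centralizer_singleton_iff.2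
          (Subgroup.mem_centralizer_singleton_iff.1 hxC).symm : w ∈ cen x)
      rw [hw, hL.cent x hxo] at h
      exact hp5 h
    have hc5 := five_orders hnm (hnot 7 21 (by norm_num) h7 (by norm_num))
      (hnot 11 55 (by norm_num) h11 (by norm_num))
      (show c * 4 * n = 88704 by linarith)
    obtain rfl : c = 1 := by
      by_contra hc1
      have hc' : c ∈ ([6, 16, 36, 96] : List ℕ) := by
        simp only [List.mem_cons, List.not_mem_nil, or_false] at hc5 ⊢
        omega
      have h2c : 2 ∣ c := by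
        simp only [List.mem_cons, List.not_mem_nil, or_false] at hc'
        omega
      haveI := Fact.mk Nat.prime_two
      obtain ⟨⟨t, htC⟩, hto⟩ := exists_prime_orderOf_dvd_card' (G := cen w) 2
        (by rw [← hCw, hc]; exact h2c.mul_left 5)
      rw [Subgroup.orderOf_mk] at hto
      have htw : Commute t w := Subgroup.mem_centralizer_singleton_iff.1 htC
      rcases pair_cases T S hTS with ⟨hT, hS⟩ | ⟨-, hS⟩
      · exact first_pair hG h11 h7 T S hTS hT hS hto
          (hw ▸ Subgroup.orderOf_dvd_natCard _ (Subgroup.mem_centralizer_singleton_iff.2 htw.symm.eq))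
      · have hN : Nat.card (Subgroup.normalizer ((Subgroup.zpowers w : Subgroup G) : Set G)) = 20 * c := by
          rw [← hPw, ← hce, hc]; ring
        have hcop : Nat.Coprime 5 c := by
          refine ((by norm_num : Nat.Prime 5).coprime_iff_not_dvd).2 ?_
          simp only [List.mem_cons, List.not_mem_nil, or_false] at hc'
          omega
        obtain ⟨D⟩ := exists_sec P hw hPw (by rw [← hCw, hc]) hcop hN
        obtain ⟨F⟩ := exists_five D P hPw hN
        exact other_pairs hG h11 h7 T S hTS hS D F hc' hto htw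
    exact ⟨hc, by rw [← hce, hc]⟩
  refine ⟨fun y hy => ?_, fun P => (key P).2⟩
  obtain ⟨P, hP, -⟩ := M12Order.FiveEven.exists_sylow_zpowers
    (show ¬ 5 ^ 2 ∣ Nat.card G by rw [hG]; norm_num) hy
  rw [← (key P).1, hP, M12Order.FiveEven.centralizer_zpowers]

theorem six_false (h5 : LocalFive G) (hS : S.list = (![55, 120], 66)) {x y z : IrrCharacter G}
    (hxy : x ≠ y) (hxz : x ≠ z) (hyz : y ≠ z)
    (hd : ∀ χ ∈ [x, y, z], ¬ 5 ∣ dg χ ∧ dg χ ≠ 1 ∧ dg χ ≠ 66) : False := by
  classical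
  obtain ⟨g, hg⟩ := exists_prime_orderOf_dvd_card' (G := G) 5 (hp := Fact.mk (by norm_num))
    (by rw [hG]; norm_num)
  obtain ⟨v, hv, hv5, hSS⟩ := exists_val hG h5 hg
  have dp := principal_dg (G := G) hG
  have et : ∀ j, dg (S.θ j) = 66 := fun j => by rw [dg, S.deg_θ, hS]
  obtain ⟨hx, hx1, hx6⟩ := hd x (by simp)
  obtain ⟨hy, hy1, hy6⟩ := hd y (by simp)
  obtain ⟨hz, hz1, hz6⟩ := hd z (by simp)
  have hone : ∀ χ : IrrCharacter G, ¬ 5 ∣ dg χ → 1 ≤ v χ ^ 2 := by
    intro χ hχ
    have h := hv5 χ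
    rcases eq_or_ne (v χ) 0 with e | e
    · rw [e] at h
      exfalso
      omega
    · nlinarith [mul_self_pos.2 e]
  have hne := S.θ_ne
  have h := hSS {principal G, S.θ 0, S.θ 1, x, y, z}
  rw [Finset.sum_insert, Finset.sum_insert, Finset.sum_insert, Finset.sum_insert, Finset.sum_insert,
    Finset.sum_singleton] at h
  · have h1 := hone (principal G) (by rw [dp]; norm_num)
    have h2 := hone (S.θ 0) (by rw [et]; norm_num)
    have h3 := hone (S.θ 1) (by rw [et]; norm_num)
    have h4 := hone x hx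
    have h5' := hone y hy
    have h6 := hone z hz
    linarith
  all_goals
    simp only [Finset.mem_insert, Finset.mem_singleton, not_or]
    repeat' apply And.intro
  all_goals first
    | assumption
    | (intro h'; have := congrArg dg h'; simp only [dp, et] at this; omega)

end CfsgLib.M22Order.FiveCase

namespace CfsgLib.M22Order

open FiveCase

universe u

/-- Piece D1. -/
theorem five : FiveStmt.{u} := by
  intro G _ _ hs hG h11 h7 T S hTS
  have h5 := local_five hG h11 h7 T S hTS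
  refine ⟨h5, ?_⟩
  rcases pair_cases T S hTS with ⟨hT, hS⟩ | ⟨hT, hS⟩
  · simp [pairsFive, hT, hS]
  rcases hT with hT | hT | hT | hT
  · simp [pairsFive, hT, hS]
  · exfalso
    have d0 : dg (T.a 0) = 21 := by rw [dg, T.deg_a, hT]; rfl
    have d1 : dg (T.a 1) = 21 := by rw [dg, T.deg_a, hT]; rfl
    have d2 : dg (T.a 2) = 56 := by rw [dg, T.deg_a, hT]; rfl
    exact six_false hG h11 h7 T S hTS h5 hS (T.a_ne (show (0 : Fin 4) ≠ 1 by decide))
      (T.a_ne (show (0 : Fin 4) ≠ 2 by decide)) (T.a_ne (show (1 : Fin 4) ≠ 2 by decide))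
      (by simp [d0, d1, d2])
  · exfalso
    have d0 : dg (T.a 0) = 21 := by rw [dg, T.deg_a, hT]; rfl
    have d1 : dg (T.a 1) = 56 := by rw [dg, T.deg_a, hT]; rfl
    have d2 : dg (T.θ 0) = 126 := by rw [dg, T.deg_θ, hT]
    exact six_false hG h11 h7 T S hTS h5 hS (T.a_ne (show (0 : Fin 4) ≠ 1 by decide))
      (T.a_ne_θ 0 0) (T.a_ne_θ 1 0) (by simp [d0, d1, d2])
  · exfalso
    have d0 : dg (T.a 0) = 21 := by rw [dg, T.deg_a, hT]; rfl
    have d1 : dg (T.a 1) = 56 := by rw [dg, T.deg_a, hT]; rfl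
    have d2 : dg (T.θ 0) = 336 := by rw [dg, T.deg_θ, hT]
    exact six_false hG h11 h7 T S hTS h5 hS (T.a_ne (show (0 : Fin 4) ≠ 1 by decide))
      (T.a_ne_θ 0 0) (T.a_ne_θ 1 0) (by simp [d0, d1, d2])

end CfsgLib.M22Order
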