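import Cfsg.Agent.Lib.M22Order.BlockArith

/-!
# Simple groups of order 443520: no values at an involution commuting with an element of order five

Seven degree lists at eleven allow no values at an involution whose centralizer has order divisible
by ten, when the characters of degree divisible by five take values divisible by five there.
-/

set_option autoImplicit false
set_option maxRecDepth 100000

namespace CfsgLib.M22Order.FiveFirstArith

open CfsgLib.M22Order.BlockArith

/-- The orders of the centralizers. -/
def cents : List ℕ :=
  [10, 20, 30, 40, 60, 70, 80, 90, 120, 140, 160, 180, 210, 240, 280, 320, 360, 420, 480, 560, 630,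
    640, 720, 840, 960, 1120, 1260, 1440, 1680, 1920, 2240, 2520, 2880, 3360, 4480, 5040, 5760,
    6720, 10080, 13440, 20160, 40320]

theorem cents_table : ∀ c < 4033, c ∣ 4032 → 10 * c ∈ cents := by
  decide +kernel

theorem mem_cents {C : ℕ} (hC : C ∣ 443520) (h10 : 10 ∣ C) (h11 : ¬ 11 ∣ C) : C ∈ cents := by
  obtain ⟨c, rfl⟩ := h10
  have h1 : 10 * c ∣ 40320 := (Nat.Coprime.dvd_of_dvd_mul_right
    ((Nat.Prime.coprime_iff_not_dvd (by norm_num)).2 h11).symm
    (by rwa [show 40320 * 11 = 443520 by norm_num]))
  have h2 : c ∣ 4032 := Nat.dvd_of_mul_dvd_mul_left (by norm_num : 0 < 10)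
    (by rwa [show 10 * 4032 = 40320 by norm_num])
  exact cents_table c (Nat.lt_succ_of_le (Nat.le_of_dvd (by norm_num) h2)) h2

/-- The possible values. -/
def fiveVals (d C : ℕ) : List ℤ :=
  (vals d C 200).filter fun v => !(d % 5 == 0) || decide ((5 : ℤ) ∣ v)

/-- Whether values are possible. -/
def fits (a b c d : ℕ) : Bool :=
  cents.any fun C => (fiveVals a C).any fun p => (fiveVals b C).any fun q =>
    decide (1 + (p * p + q * q) ≤ (C : ℤ)) && (fiveVals c C).any fun r =>
      decide (1 + (p * p + q * q + r * r) ≤ (C : ℤ)) && (fiveVals d C).any fun s =>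
        fitsValues a b c d C p q r s

theorem fits_12_21_32_45 : fits 12 21 32 45 = false := by decide +kernel

theorem fits_12_32_120_144 : fits 12 32 120 144 = false := by decide +kernel

theorem fits_12_56_56_120 : fits 12 56 56 120 = false := by decide +kernel

theorem fits_21_120_210_210 : fits 21 120 210 210 = false := by decide +kernel

theorem fits_45_56_120_210 : fits 45 56 120 210 = false := by decide +kernel

theorem fits_45_120_120_210 : fits 45 120 120 210 = false := by decide +kernel

theorem fits_45_120_144_210 : fits 45 120 144 210 = false := by decide +kernel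

end CfsgLib.M22Order.FiveFirstArith
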