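import Cfsg.Agent.Lib.M22Order.SevenDefs
import Cfsg.Agent.Lib.M22Order.BlockTable

/-!
# Simple groups of order 443520: the values of the block at eleven at an involution
-/

set_option autoImplicit false
set_option linter.style.haveILetI false
set_option linter.unusedSectionVars false

open Cfsg CfsgLib.Chars CfsgLib.CharApps CfsgLib.Blocks CfsgLib.Small

namespace CfsgLib.M22Order.InvValues

open CfsgLib.M22Order.BlockArith

universe u

variable {G : Type u} [Group G] [Finite G] [IsSimpleGroup G] (hG : Nat.card G = 443520)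

include hG

theorem sgn_eq_sgnDeg (T : TableEleven G) (i : Fin 4) : T.sgn i = sgnDeg (T.list.1 i) := by
  obtain ⟨hs, hm⟩ := T.sgn_eq i
  unfold sgnDeg
  rcases hs with h | h <;> rw [h] at hm ⊢ <;> split_ifs with h' <;> omega

/-- The sum of a function over the characters, if it vanishes outside the block. -/
theorem sum_block (T : TableEleven G) [Fintype (IrrCharacter G)] (F : IrrCharacter G → ℂ)
    (hF : ∀ χ : IrrCharacter G, (∀ x : G, orderOf x = 11 → (χ : G → ℂ) x = 0) → F χ = 0) :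
    ∑ χ, F χ = F (principal G) + ((∑ i, F (T.a i)) + (F (T.θ 0) + F (T.θ 1))) := by
  classical
  have hsub : ∑ χ ∈ insert (principal G) (Finset.univ.image (Fin.append T.a T.θ)), F χ =
      ∑ χ, F χ :=
    Finset.sum_subset (Finset.subset_univ _) fun χ _ hχ => by
      refine hF χ ?_
      rcases T.cover χ with h | ⟨i, h⟩ | h
      · exact absurd (Finset.mem_insert.2 (Or.inl h)) hχ
      · exact absurd (Finset.mem_insert_of_mem
          (Finset.mem_image.2 ⟨i, Finset.mem_univ _, h.symm⟩)) hχ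
      · exact h.2
  rw [← hsub, Finset.sum_insert (fun h => by
    obtain ⟨i, -, hi⟩ := Finset.mem_image.1 h
    exact T.ne_principal i hi), Finset.sum_image fun i _ j _ h => T.inj h, Fin.sum_univ_add]
  simp [Fin.sum_univ_two]

theorem exc_eq (T : TableEleven G) :
    excDeg (T.list.1 0) (T.list.1 1) (T.list.1 2) (T.list.1 3) = T.ε * (T.list.2 : ℤ) := by
  have h := T.rel 0 1 (by rw [orderOf_one]; norm_num)
  simp only [deg_eq, T.deg_θ, T.deg_a, Fin.sum_univ_four, sgn_eq_sgnDeg hG] at h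
  unfold excDeg
  have h2 : ((T.ε * (T.list.2 : ℤ) : ℤ) : ℂ) = ((1 + (sgnDeg (T.list.1 0) * (T.list.1 0 : ℤ) +
      sgnDeg (T.list.1 1) * (T.list.1 1 : ℤ) + sgnDeg (T.list.1 2) * (T.list.1 2 : ℤ) +
      sgnDeg (T.list.1 3) * (T.list.1 3 : ℤ)) : ℤ) : ℂ) := by
    push_cast
    linear_combination h
  exact (Int.cast_injective h2).symm

theorem exists_vals (L : LocalEleven G) (T : TableEleven G) {t : G} (hto : orderOf t = 2) :
    ∃ v w, InvVals T t v w := by
  classical
  haveI := Fintype.ofFinite G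
  haveI := irrFintype G
  haveI := Fact.mk (show Nat.Prime 11 by norm_num)
  have ht : t * t = 1 := by rw [← sq, ← hto, pow_orderOf_eq_one]
  have ht1 : t ≠ 1 := fun h => by rw [h, orderOf_one] at hto; omega
  have h11t : ¬ 11 ∣ orderOf t := by rw [hto]; norm_num
  have hk : 443520 / Nat.card (cen t) = (cen t).index := by
    rw [← BlockTable.index_mul_card_cen hG t, Nat.mul_div_cancel _ Nat.card_pos]
  have hvals : ∀ χ : IrrCharacter G, χ ≠ principal G → ∃ m : ℤ, (m : ℂ) = (χ : G → ℂ) t ∧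
      (4 : ℤ) ∣ (charDegree (χ : G → ℂ) : ℤ) - m ∧ m.natAbs < charDegree (χ : G → ℂ) ∧
      (charDegree (χ : G → ℂ) : ℤ) ∣ ((443520 / Nat.card (cen t) : ℕ) : ℤ) * m := by
    intro χ hne
    obtain ⟨m, hm, h4, hlo, hhi⟩ :=
      BlockTable.involution_value hG ht ht1 χ fun h => hne (BlockTable.eq_principal hG h)
    refine ⟨m, hm, h4, ?_, ?_⟩
    · have : m ≠ -(charDegree (χ : G → ℂ) : ℤ) := fun h =>
        BlockTable.apply_ne_neg_degree hG ht ht1 χ hne (by rw [← hm, h]; simp)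
      omega
    · rw [hk]
      exact M12Order.dvd_index_mul χ hm
  have hane : ∀ i, T.a i ≠ principal G := fun i => by
    simpa [Fin.append_left] using T.ne_principal (Fin.castAdd 2 i)
  have hθne : ∀ j, T.θ j ≠ principal G := fun j => by
    simpa [Fin.append_right] using T.ne_principal (Fin.natAdd 4 j)
  choose v hv hv4 hvlt hvdvd using fun i => hvals (T.a i) (hane i)
  obtain ⟨w, hw, hw4, hwlt, hwdvd⟩ := hvals (T.θ 0) (hθne 0)
  simp only [T.deg_a, T.deg_θ] at hv4 hvlt hvdvd hw4 hwlt hwdvd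
  have hε0 : (T.ε : ℂ) ≠ 0 := by rcases T.ε_eq.1 with h | h <;> rw [h] <;> norm_num
  have hθ : ∀ j, (w : ℂ) = (T.θ j : G → ℂ) t := fun j => by
    refine mul_left_cancel₀ hε0 ?_
    rw [hw, T.rel 0 t h11t, T.rel j t h11t]
  have hd2 : (excDeg (T.list.1 0) (T.list.1 1) (T.list.1 2) (T.list.1 3)).natAbs = T.list.2 := by
    rw [exc_eq hG T]; rcases T.ε_eq.1 with h | h <;> simp [h]
  have hde : 0 < T.list.2 := by omega
  have hsign : (excDeg (T.list.1 0) (T.list.1 1) (T.list.1 2) (T.list.1 3)).sign = T.ε := by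
    rw [exc_eq hG T, Int.sign_mul, Int.sign_eq_one_of_pos (by omega : (0 : ℤ) < (T.list.2 : ℤ)),
      mul_one]
    rcases T.ε_eq.1 with h | h <;> simp [h]
  have hwval : w = (excDeg (T.list.1 0) (T.list.1 1) (T.list.1 2) (T.list.1 3)).sign *
      (1 + (sgnDeg (T.list.1 0) * v 0 + sgnDeg (T.list.1 1) * v 1 + sgnDeg (T.list.1 2) * v 2 +
        sgnDeg (T.list.1 3) * v 3)) := by
    rw [hsign]
    have h := T.rel 0 t h11t
    simp only [Fin.sum_univ_four, ← hv, ← hw, sgn_eq_sgnDeg hG] at h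
    have hε2 : T.ε * T.ε = 1 := by rcases T.ε_eq.1 with h | h <;> rw [h] <;> norm_num
    have h2 : T.ε * w = 1 + (sgnDeg (T.list.1 0) * v 0 + sgnDeg (T.list.1 1) * v 1 +
        sgnDeg (T.list.1 2) * v 2 + sgnDeg (T.list.1 3) * v 3) := by exact_mod_cast h
    rw [← h2, ← mul_assoc, hε2, one_mul]
  have hsq : 1 + (∑ i, v i * v i) + 2 * (w * w) ≤ (Nat.card (cen t) : ℤ) := by
    let F : IrrCharacter G → ℤ := fun χ => (exists_int_apply_involution ht χ).choose
    have hF : ∀ χ, (F χ : ℂ) = (χ : G → ℂ) t := fun χ =>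
      (exists_int_apply_involution ht χ).choose_spec
    refine le_trans (le_of_eq ?_) (M12Order.sum_sq_le_card_cen
      (insert (principal G) (Finset.univ.image (Fin.append T.a T.θ))) F fun χ _ => hF χ)
    rw [Finset.sum_insert (fun h => by
      obtain ⟨i, -, hi⟩ := Finset.mem_image.1 h
      exact T.ne_principal i hi), Finset.sum_image fun i _ j _ h => T.inj h, Fin.sum_univ_add]
    have e1 : F (principal G) = 1 := by
      have h := hF (principal G)
      rw [principal_apply] at h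
      exact_mod_cast h
    have e2 : ∀ i, F (T.a i) = v i := fun i => by exact_mod_cast (hF (T.a i)).trans (hv i).symm
    have e3 : ∀ j, F (T.θ j) = w := fun j => by exact_mod_cast (hF (T.θ j)).trans (hθ j).symm
    simp only [Fin.append_left, Fin.append_right, e1, e2, e3, Fin.sum_univ_two, sq]
    ring
  obtain ⟨x, hx⟩ := exists_prime_orderOf_dvd_card' (G := G) 11 (by rw [hG]; norm_num)
  have hinv : (1 : ℂ) + (∑ i, (T.sgn i : ℂ) * (v i : ℂ) ^ 2 / (T.list.1 i : ℂ)) -
      (T.ε : ℂ) * (w : ℂ) ^ 2 / (T.list.2 : ℂ) = 0 := by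
    have hx' : orderOf x⁻¹ = 11 := by rw [orderOf_inv, hx]
    have h := card_conj_mul_conj t t x⁻¹
    rw [inv_inv] at h
    haveI : IsEmpty {ab : G × G // (ab.1 * t * ab.1⁻¹) * (ab.2 * t * ab.2⁻¹) = x⁻¹} := by
      refine ⟨fun ⟨⟨c, d⟩, hab⟩ => ?_⟩
      have h1 : (c * t * c⁻¹) * (c * t * c⁻¹) = 1 := by
        rw [← sq, conj_pow, sq, ht, mul_one, mul_inv_cancel]
      have h2 : (d * t * d⁻¹) * (d * t * d⁻¹) = 1 := by
        rw [← sq, conj_pow, sq, ht, mul_one, mul_inv_cancel]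
      have hu := BlockTable.eq_one_of_inverts hG L hx' h1 ?_
      · exact ht1 (conj_eq_one_iff.1 hu)
      · simp only at hab
        generalize c * t * c⁻¹ = u at hab h1 ⊢
        generalize d * t * d⁻¹ = r at hab h2
        rw [← hab, mul_inv_rev u r, inv_eq_of_mul_eq_one_left h2, inv_eq_of_mul_eq_one_left h1,
          ← mul_assoc, h1, one_mul]
    rw [Nat.card_of_isEmpty, Nat.cast_zero, eq_comm, mul_eq_zero] at h
    have h0 := h.resolve_left (Chars.card_ne_zero G)
    rw [sum_block hG T (fun χ => (χ : G → ℂ) t * (χ : G → ℂ) t * (χ : G → ℂ) x / (χ : G → ℂ) 1)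
      fun χ h => by simp [h x hx]] at h0
    simp only [principal_apply, deg_eq, T.deg_a, T.deg_θ, ← hv, ← hθ, T.at_p _ x hx] at h0
    have hz2 := T.at_p_θ x hx
    have hs : ∑ i, (v i : ℂ) * (v i : ℂ) * (T.sgn i : ℂ) / (T.list.1 i : ℂ) =
        ∑ i, (T.sgn i : ℂ) * (v i : ℂ) ^ 2 / (T.list.1 i : ℂ) :=
      Finset.sum_congr rfl fun i _ => by ring
    rw [hs] at h0
    linear_combination h0 - ((w : ℂ) ^ 2 / (T.list.2 : ℂ)) * hz2
  refine ⟨v, w, fun i => hv i, hθ, hv4, hvlt, hvdvd, hsq, ?_, hwval⟩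
  simp only [fitsValues, hd2, ← hwval, Bool.and_eq_true, decide_eq_true_eq]
  have hsq' := hsq
  rw [Fin.sum_univ_four] at hsq'
  refine ⟨⟨⟨⟨hwlt, hw4⟩, hsq'⟩, ?_⟩, hwdvd⟩
  have hdiv : ∀ χ : IrrCharacter G, (((443520 / charDegree (χ : G → ℂ) : ℕ) : ℤ) : ℂ) =
      443520 / (charDegree (χ : G → ℂ) : ℂ) := fun χ => by
    rw [Int.cast_natCast, Nat.cast_div (BlockTable.degree_facts hG χ).2.1
      (Nat.cast_ne_zero.2 (BlockTable.degree_facts hG χ).2.2.ne')]
    norm_num
  have hda : ∀ i, (((443520 / T.list.1 i : ℕ) : ℤ) : ℂ) = 443520 / (T.list.1 i : ℂ) := fun i => by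
    have := hdiv (T.a i)
    rwa [T.deg_a] at this
  have hdθ : (((443520 / T.list.2 : ℕ) : ℤ) : ℂ) = 443520 / (T.list.2 : ℂ) := by
    have := hdiv (T.θ 0)
    rwa [T.deg_θ] at this
  apply Int.cast_injective (α := ℂ)
  rw [hsign]
  rw [Fin.sum_univ_four] at hinv
  simp only [sgn_eq_sgnDeg hG] at hinv
  simp only [Int.cast_add, Int.cast_sub, Int.cast_mul, Int.cast_zero, Int.cast_ofNat, hda, hdθ]
  linear_combination (443520 : ℂ) * hinv

omit hG in
/-- Piece C0. -/
theorem invVals : InvValsStmt.{u} := fun _G _ _ hs hG L T _t ht => by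
  haveI := hs
  exact exists_vals hG L T ht

end CfsgLib.M22Order.InvValues
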