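import Cfsg.Agent.Lib.M22Order.SevenDefs
import Cfsg.Agent.Lib.M22Order.BlockTable
import Cfsg.Agent.Lib.M22Order.FiveFirstArith
import Cfsg.Agent.Lib.M12Order.FiveEvenTools
import Cfsg.Agent.Lib.Small.OrderTools
import Cfsg.Agent.Lib.M22Order.InvVals

/-!
# Simple groups of order 443520: five before seven (piece C2 of `tools/S1663_plan.md`)
-/

set_option autoImplicit false
set_option linter.style.haveILetI false
set_option linter.unusedSectionVars false
set_option maxRecDepth 4000

open Cfsg CfsgLib.Chars CfsgLib.CharApps CfsgLib.Small CfsgLib.M22Order.BlockTable CfsgLib.M22Order.BlockArith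

namespace CfsgLib.M22Order

universe u

variable {G : Type u} [Group G] [Finite G]

/-- A character of degree divisible by five has a value divisible by five at an involution
commuting with an element of order five. -/
theorem five_dvd_value (hG : Nat.card G = 443520) {y t : G} (hy : orderOf y = 5) (ht : orderOf t = 2)
    (hc : Commute t y) (χ : IrrCharacter G) (hd : 5 ∣ charDegree (χ : G → ℂ)) {m : ℤ}
    (hm : (m : ℂ) = (χ : G → ℂ) t) : (5 : ℤ) ∣ m := by
  haveI := Fact.mk (show Nat.Prime 5 by norm_num)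
  haveI := Fintype.ofFinite G
  have ho : orderOf (t * y) = 10 := by
    rw [hc.orderOf_mul_eq_mul_orderOf_of_coprime (by rw [hy, ht]; norm_num), hy, ht]
  have h0 : (χ : G → ℂ) (t * y) = 0 :=
    eq_zero_of_dvd_orderOf χ.2 (n := 1) (p := 5) (by norm_num) (deg_eq χ) (by rw [hG]; norm_num)
      (by rwa [pow_one]) (by rw [ho]; norm_num)
  have h5 : (t * y) ^ 5 = t := by
    rw [hc.mul_pow, show y ^ 5 = 1 by rw [← hy]; exact pow_orderOf_eq_one y, mul_one,
      show (5 : ℕ) = 2 + 2 + 1 by rfl, pow_succ, pow_add, ← ht, pow_orderOf_eq_one, one_mul, one_mul]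
  have := M12Order.FiveEven.int_congr_pow (p := 5) χ (x := t * y) (k := 5) (n := 1) (by norm_num)
    (orderOf_dvd_iff_pow_eq_one.1 (by rw [ho]; norm_num)) (m := 0) (m' := m)
    (by rw [h0, Int.cast_zero]) (by rw [h5]; exact hm)
  simpa using this

/-- For the lists in question no involution commutes with an element of order five. -/
theorem not_commute_five [IsSimpleGroup G] (hG : Nat.card G = 443520) (L : LocalEleven G)
    (hV : InvValsStmt.{u}) {T : TableEleven G} (hl : IsSevenList T.list) {y t : G} (hy : orderOf y = 5)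
    (ht : orderOf t = 2) (hc : Commute t y) : False := by
  obtain ⟨v, w, I⟩ := hV G inferInstance hG L T t ht
  have h5 : ∀ i, 5 ∣ T.list.1 i → (5 : ℤ) ∣ v i := fun i hi =>
    five_dvd_value hG hy ht hc (T.a i) (by rw [T.deg_a]; exact hi) (I.val i)
  rcases hl with ⟨i, hi⟩ | hl
  · have h1 := h5 i (by rw [hi]; norm_num)
    have h2 := I.four i
    have h3 := I.lt i
    rw [hi] at h2 h3
    omega
  set C := Nat.card (cen t) with hC
  have hC0 : C ∣ 443520 := hG ▸ Subgroup.card_subgroup_dvd_card _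
  have hC10 : 10 ∣ C := by
    have hm : t * y ∈ cen t := Subgroup.mem_centralizer_singleton_iff.2
      (show Commute (t * y) t from (Commute.refl t).mul_left hc.symm).eq
    have := Subgroup.orderOf_dvd_natCard _ hm
    rwa [hc.orderOf_mul_eq_mul_orderOf_of_coprime (by rw [hy, ht]; norm_num), hy, ht] at this
  have hCm : C ∈ FiveFirstArith.cents :=
    FiveFirstArith.mem_cents hC0 hC10 (not_dvd_cen_involution hG L ht)
  have hC40 : C ≤ 40320 := by
    have : ∀ x ∈ FiveFirstArith.cents, x ≤ 40320 := by decide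
    exact this C hCm
  have hsq : ∀ i, v i * v i ≤ (C : ℤ) ∧ (v i).natAbs ≤ 200 := by
    intro i
    have h1 : v i * v i ≤ ∑ j, v j * v j :=
      Finset.single_le_sum (f := fun j => v j * v j) (fun j _ => mul_self_nonneg _) (Finset.mem_univ i)
    have h2 := I.sq_le
    have h3 : v i * v i ≤ (C : ℤ) := by nlinarith [mul_self_nonneg w]
    refine ⟨h3, ?_⟩
    by_contra h
    have h4 : (201 : ℤ) * 201 ≤ ((v i).natAbs : ℤ) * ((v i).natAbs : ℤ) := by
      have : (201 : ℤ) ≤ ((v i).natAbs : ℤ) := by omega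
      nlinarith
    rw [Int.natAbs_mul_self'] at h4
    omega
  have hmem : ∀ i, v i ∈ FiveFirstArith.fiveVals (T.list.1 i) C := fun i => by
    refine List.mem_filter.2 ⟨mem_vals (hsq i).2 (I.lt i) (I.four i) (I.dvd i) (hsq i).1, ?_⟩
    by_cases h : 5 ∣ T.list.1 i
    · simp [h5 i h]
    · simp [Nat.dvd_iff_mod_eq_zero.not.1 h]
  have hsum := I.sq_le
  rw [Fin.sum_univ_four] at hsum
  have hfit : FiveFirstArith.fits (T.list.1 0) (T.list.1 1) (T.list.1 2) (T.list.1 3) = true := by
    refine List.any_eq_true.2 ⟨C, hCm, List.any_eq_true.2 ⟨v 0, hmem 0, List.any_eq_true.2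
      ⟨v 1, hmem 1, ?_⟩⟩⟩
    rw [Bool.and_eq_true, decide_eq_true_eq]
    refine ⟨by nlinarith [mul_self_nonneg w, mul_self_nonneg (v 2), mul_self_nonneg (v 3)],
      List.any_eq_true.2 ⟨v 2, hmem 2, ?_⟩⟩
    rw [Bool.and_eq_true, decide_eq_true_eq]
    exact ⟨by nlinarith [mul_self_nonneg w, mul_self_nonneg (v 3)],
      List.any_eq_true.2 ⟨v 3, hmem 3, I.fits⟩⟩
  simp only [sevenLists, List.mem_cons, List.not_mem_nil, or_false] at hl
  rcases hl with h | h | h | h | h | h | h <;> rw [h] at hfit <;>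
    simp [FiveFirstArith.fits_12_21_32_45, FiveFirstArith.fits_12_32_120_144,
      FiveFirstArith.fits_12_56_56_120, FiveFirstArith.fits_21_120_210_210,
      FiveFirstArith.fits_45_56_120_210, FiveFirstArith.fits_45_120_120_210,
      FiveFirstArith.fits_45_120_144_210] at hfit

/-- Piece C2. -/
theorem five_first (hV : InvValsStmt.{u}) : FiveFirstStmt.{u} := by
  intro G _ _ hs hG L h35 T hl
  haveI := hs
  haveI := Fact.mk (show Nat.Prime 5 by norm_num)
  obtain ⟨P, n, e, k, hP, hn, hmem, -, hC, hN, hnek⟩ :=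
    exists_prime_option (nonabelian hG) hG 5 88704 (by norm_num) (by norm_num) (by norm_num)
  simp only [primeOptions, List.mem_flatMap, List.mem_map, List.mem_filter, List.mem_range,
    Bool.and_eq_true, decide_eq_true_eq, beq_iff_eq, Prod.mk.injEq] at hmem
  obtain ⟨n', hn', e', ⟨he5, he⟩, hne, hee, -⟩ := hmem
  subst n' e'
  have hn5 : n % 5 = 1 := hn'.2.1.1.1
  have he4 : 1 < e ∧ e ∣ 4 := ⟨he.1.1.1.1.1, he.1.1.1.1.2⟩
  obtain ⟨y, hyo⟩ : ∃ y : (P : Subgroup G), orderOf y = 5 :=
    exists_prime_orderOf_dvd_card' 5 (by rw [hP])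
  have hy : orderOf (y : G) = 5 := by rw [Subgroup.orderOf_coe, hyo]
  -- the primes of `k`
  have hprime : ∀ q : ℕ, q.Prime → q ∣ k → q ≠ 2 ∧ q ≠ 7 ∧ q ≠ 11 := by
    intro q hq hqk
    haveI := Fact.mk hq
    obtain ⟨c, hc⟩ := exists_prime_orderOf_dvd_card' (G := Subgroup.centralizer ((P : Subgroup G) : Set G))
      q (by rw [hC]; exact hqk.mul_left 5)
    have hco : orderOf (c : G) = q := by rw [Subgroup.orderOf_coe, hc]
    have hcy : Commute (c : G) (y : G) := (Subgroup.mem_centralizer_iff.1 c.2 (y : G) y.2).symm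
    refine ⟨?_, ?_, ?_⟩
    · rintro rfl
      exact not_commute_five hG L hV hl hy hco hcy
    · rintro rfl
      exact h35 _ (by
        rw [hcy.orderOf_mul_eq_mul_orderOf_of_coprime (by rw [hco, hy]; norm_num), hco, hy] )
    · rintro rfl
      have hyc : (y : G) ∈ cen (c : G) := Subgroup.mem_centralizer_singleton_iff.2 hcy.symm.eq
      have := Subgroup.orderOf_dvd_natCard _ hyc
      rw [hy, L.cent _ hco] at this
      norm_num at this
  have hk : k ∣ 88704 := ⟨n * e, by rw [← hnek]; ring⟩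
  have hk9 : k ∣ 9 := by
    have h2 : Nat.Coprime k (2 ^ 7 * 7 * 11) := by
      refine Nat.Coprime.mul_right (Nat.Coprime.mul_right (Nat.Coprime.pow_right 7 ?_) ?_) ?_
      all_goals
        refine (Nat.Coprime.symm ((Nat.Prime.coprime_iff_not_dvd (by norm_num)).2 fun h => ?_))
        have := hprime _ (by norm_num) h
        omega
    exact Nat.Coprime.dvd_of_dvd_mul_right h2 (by norm_num; exact hk)
  have hk' : k = 1 ∨ k = 3 ∨ k = 9 := by
    have := Nat.le_of_dvd (by norm_num) hk9
    interval_cases k <;> omega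
  have he' : e = 2 ∨ e = 4 := by
    have := Nat.le_of_dvd (by norm_num) he4.2
    have := he4.1
    interval_cases e <;> omega
  obtain ⟨rfl, rfl⟩ : k = 1 ∧ e = 4 := by
    rcases hk' with rfl | rfl | rfl <;> rcases he' with rfl | rfl <;> omega
  have hN20 : ∀ Q : Sylow 5 G, Nat.card (Subgroup.normalizer ((Q : Subgroup G) : Set G)) = 20 := by
    intro Q
    have h := card_normalizer_mul Q
    rw [hn, hG] at h
    have : n = 22176 := by omega
    subst this
    omega
  refine ⟨fun x hx => ?_, hN20⟩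
  haveI : Fact (Nat.Prime 5) := ⟨by norm_num⟩
  obtain ⟨Q, hQ⟩ := (IsPGroup.of_card (G := Subgroup.zpowers x) (n := 1) (p := 5)
    (by rw [Nat.card_zpowers, hx, pow_one])).exists_le_sylow
  have hQ5 : Nat.card (Q : Subgroup G) = 5 := by
    simpa using card_sylow_eq (p := 5) 1 88704 (by rw [hG]; norm_num) (by norm_num) Q
  have hQe : Subgroup.zpowers x = (Q : Subgroup G) :=
    Subgroup.eq_of_le_of_card_ge hQ (by rw [hQ5, Nat.card_zpowers, hx])
  have hle : cen x ≤ Subgroup.normalizer ((Q : Subgroup G) : Set G) := by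
    rw [← hQe]
    intro g hg
    rw [Subgroup.mem_normalizer_iff_map_conj_eq, MonoidHom.map_zpowers]
    congr 1
    show g * x * g⁻¹ = x
    rw [Subgroup.mem_centralizer_singleton_iff.1 hg, mul_inv_cancel_right]
  have hd : Nat.card (cen x) ∣ 20 := hN20 Q ▸ Subgroup.card_dvd_of_le hle
  have h5 : 5 ∣ Nat.card (cen x) :=
    hx ▸ Subgroup.orderOf_dvd_natCard _ (Subgroup.mem_centralizer_singleton_iff.2 rfl)
  have h2 : ¬ 2 ∣ Nat.card (cen x) := fun h => by
    haveI := Fact.mk Nat.prime_two
    obtain ⟨c, hc⟩ := exists_prime_orderOf_dvd_card' (G := cen x) 2 h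
    exact not_commute_five hG L hV hl hx (by rw [Subgroup.orderOf_coe, hc])
      (Subgroup.mem_centralizer_singleton_iff.1 c.2)
  have := Nat.le_of_dvd (by norm_num) hd
  obtain ⟨q, hq⟩ := h5
  have : q ≤ 4 := by omega
  interval_cases q <;> simp [hq] at hd h2 ⊢

/-- Piece C2, unconditionally. -/
theorem fiveFirst : FiveFirstStmt.{u} := five_first InvValues.invVals

end CfsgLib.M22Order
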