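import Cfsg.Agent.Lib.M22Order.Interface
import Cfsg.Agent.Lib.M12Order.FiveEvenTools
import Cfsg.Agent.Lib.CharApps.Galois
import Cfsg.Agent.Lib.Small.Order7920

/-!
# Simple groups of order 443520: the section of an element of order five

For an element `w` of order five with `|C(w)| = 5c` and `|N(w)| = 20c`: the sums of the values of
a character over the coset `w H` of the complement `H` of `w` in `C(w)` are `c` times integers,
five of them are nonzero and give the principal block, and the square lemma for the number of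
pairs of conjugates of an involution with product in such a coset.
-/

set_option autoImplicit false
set_option linter.style.haveILetI false
set_option linter.unusedSectionVars false

open Cfsg CfsgLib.Chars CfsgLib.CharApps CfsgLib.Blocks CfsgLib.Small
open scoped ComplexConjugate

namespace CfsgLib.M22Order.FiveSection

universe u

variable {G : Type u} [Group G] [Finite G]

/-- The complement of `w` in its centralizer, with the automorphisms induced by the normalizer. -/
structure Sec (w : G) (c : ℕ) where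
  H : Subgroup G
  order : orderOf w = 5
  card : Nat.card H = c
  le : H ≤ cen w
  coprime : Nat.Coprime 5 c
  cenCard : Nat.card (cen w) = 5 * c
  mem_iff : ∀ g : G, g ∈ H ↔ g ∈ cen w ∧ g ^ c = 1
  pow_mem : ∀ g ∈ cen w, g ^ c ∈ Subgroup.zpowers w
  autom : ∀ k : ℕ, ¬ 5 ∣ k → ∃ n : G, n * w * n⁻¹ = w ^ k

/-- The powers of an element of order five reached by the normalizer. -/
theorem exists_conj {w : G} {c : ℕ} (hw : orderOf w = 5) (hC : Nat.card (cen w) = 5 * c)
    (hN : Nat.card (Subgroup.normalizer ((Subgroup.zpowers w : Subgroup G) : Set G)) = 20 * c)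
    (k : ℕ) (hk : ¬ 5 ∣ k) : ∃ n : G, n * w * n⁻¹ = w ^ k := by
  classical
  haveI := Fintype.ofFinite G
  set s := (Finset.univ : Finset G).filter
    (fun n => n ∈ Subgroup.normalizer ((Subgroup.zpowers w : Subgroup G) : Set G)) with hs
  have hsc : s.card = 20 * c := by
    rw [← hN, Nat.card_eq_fintype_card, Fintype.card_subtype]
  have him : s.image (fun n => n * w * n⁻¹) ⊆ ({1, 2, 3, 4} : Finset ℕ).image (w ^ ·) := by
    intro z hz
    obtain ⟨n, hn, rfl⟩ := Finset.mem_image.1 hz
    rw [hs, Finset.mem_filter] at hn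
    have hmem : n * w * n⁻¹ ∈ Subgroup.zpowers w :=
      (Subgroup.mem_normalizer_iff.1 hn.2 w).1 (Subgroup.mem_zpowers w)
    obtain ⟨k, hk, hk'⟩ := Finset.mem_image.1
      ((mem_zpowers_iff_mem_range_orderOf).1 hmem)
    rw [Finset.mem_range, hw] at hk
    refine Finset.mem_image.2 ⟨k, ?_, hk'⟩
    have hk0 : k ≠ 0 := by
      rintro rfl
      rw [pow_zero, eq_comm, conj_eq_one_iff] at hk'
      rw [hk', orderOf_one] at hw
      omega
    simp only [Finset.mem_insert, Finset.mem_singleton]
    omega
  have hfib : ∀ z ∈ s.image (fun n => n * w * n⁻¹),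
      (s.filter fun n => n * w * n⁻¹ = z).card ≤ 5 * c := by
    intro z hz
    obtain ⟨m, -, rfl⟩ := Finset.mem_image.1 hz
    rw [← hC, Nat.card_eq_fintype_card, Fintype.card_subtype]
    refine Finset.card_le_card_of_injOn (fun n => m⁻¹ * n) ?_ ?_
    · intro n hn
      rw [Finset.mem_coe, Finset.mem_filter] at hn
      simp only [Finset.coe_filter, Finset.mem_univ, true_and, Set.mem_setOf_eq]
      rw [Subgroup.mem_centralizer_singleton_iff]
      have h := hn.2
      calc m⁻¹ * n * w = m⁻¹ * (n * w * n⁻¹) * n := by group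
        _ = m⁻¹ * (m * w * m⁻¹) * n := by rw [h]
        _ = w * (m⁻¹ * n) := by group
    · exact fun a _ b _ h => mul_left_cancel h
  have h4 : 4 ≤ (s.image (fun n => n * w * n⁻¹)).card := by
    have h := Finset.card_le_mul_card_image s (5 * c) hfib
    rw [hsc] at h
    have hc : 0 < 5 * c := hC ▸ Nat.card_pos
    by_contra h'
    have := Nat.mul_le_mul_left (5 * c) (show (s.image (fun n => n * w * n⁻¹)).card ≤ 3 by omega)
    omega
  have heq := Finset.eq_of_subset_of_card_le him
    ((Finset.card_image_le).trans (le_trans (by decide) h4))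
  have hmem : w ^ (k % 5) ∈ s.image (fun n => n * w * n⁻¹) := by
    rw [heq]
    exact Finset.mem_image.2
      ⟨k % 5, by simp only [Finset.mem_insert, Finset.mem_singleton]; omega, rfl⟩
  obtain ⟨n, -, hn⟩ := Finset.mem_image.1 hmem
  exact ⟨n, by rw [hn, ← hw, pow_mod_orderOf]⟩

theorem commOf {g w : G} (h : g ∈ cen w) : Commute g w :=
  Subgroup.mem_centralizer_singleton_iff.1 h

/-- The section exists. -/
theorem exists_sec (P : Sylow 5 G) [Fact (Nat.Prime 5)] {w : G} (hw : orderOf w = 5)
    (hP : (P : Subgroup G) = Subgroup.zpowers w) {c : ℕ} (hC : Nat.card (cen w) = 5 * c)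
    (hc : Nat.Coprime 5 c)
    (hN : Nat.card (Subgroup.normalizer ((Subgroup.zpowers w : Subgroup G) : Set G)) = 20 * c) :
    Nonempty (Sec w c) := by
  set C := cen w with hCdef
  have hcent : ∀ x ∈ (P : Subgroup G), ∀ g ∈ C, x * g = g * x := by
    intro x hx g hg
    rw [hP, Subgroup.mem_zpowers_iff] at hx
    obtain ⟨i, rfl⟩ := hx
    have h : Commute g w := Subgroup.mem_centralizer_singleton_iff.1 hg
    exact (h.zpow_right i).symm.eq
  have hPC : (P : Subgroup G) ≤ C := by
    rw [hP, Subgroup.zpowers_le]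
    exact Subgroup.mem_centralizer_singleton_iff.2 rfl
  set S := P.subtype hPC
  have hS : Subgroup.normalizer ((S : Subgroup C) : Set C) ≤
      Subgroup.centralizer ((S : Subgroup C) : Set C) := fun g _ =>
    Subgroup.mem_centralizer_iff.2 fun s hs => Subtype.ext (hcent (s : G) hs g g.2)
  have hcompl := MonoidHom.ker_transferSylow_isComplement' S hS
  set K := (MonoidHom.transferSylow S hS).ker with hK
  have hScard : Nat.card (S : Subgroup C) = 5 := by
    rw [show Nat.card (S : Subgroup C) = Nat.card (P : Subgroup G) from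
      Nat.card_congr (Subgroup.subgroupOfEquivOfLe hPC).toEquiv, hP, Nat.card_zpowers, hw]
  have hKcard : Nat.card K = c := by
    have h := hcompl.card_mul
    rw [hScard, hC] at h
    omega
  have hidx : K.index = 5 := by rw [hcompl.symm.index_eq_card, hScard]
  have hpow5 : ∀ g : C, g ^ 5 ∈ K := fun g => hidx ▸ K.pow_index_mem g
  refine ⟨{ H := K.map C.subtype, order := hw, card := ?_, le := Subgroup.map_subtype_le K,
            coprime := hc, cenCard := hC, mem_iff := ?_, pow_mem := ?_,
            autom := exists_conj hw hC hN }⟩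
  · rw [← hKcard]
    exact (Nat.card_congr
      (K.equivMapOfInjective C.subtype C.subtype_injective).toEquiv).symm
  · intro g
    constructor
    · rintro ⟨k, hk, rfl⟩
      refine ⟨k.2, ?_⟩
      have h : (⟨k, hk⟩ : K) ^ c = 1 := by rw [← hKcard, pow_card_eq_one']
      exact congrArg (fun x : K => ((x : C) : G)) h
    · rintro ⟨hgC, hgc⟩
      refine ⟨⟨g, hgC⟩, ?_, rfl⟩
      have h1 := hpow5 ⟨g, hgC⟩
      have h2 : (⟨g, hgC⟩ : C) ^ c = 1 := Subtype.ext hgc
      have h3 : (⟨g, hgC⟩ : C) ^ c ∈ K := h2 ▸ K.one_mem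
      have hcop : Int.gcd (5 : ℕ) (c : ℕ) = 1 := hc
      have h4 := Int.gcd_eq_gcd_ab (5 : ℕ) (c : ℕ)
      rw [hcop] at h4
      have h5 : (⟨g, hgC⟩ : C) = ((⟨g, hgC⟩ : C) ^ (5 : ℕ)) ^ (Int.gcdA (5 : ℕ) (c : ℕ)) *
          ((⟨g, hgC⟩ : C) ^ c) ^ (Int.gcdB (5 : ℕ) (c : ℕ)) := by
        rw [← zpow_natCast, ← zpow_natCast, ← zpow_mul, ← zpow_mul, ← zpow_add, ← h4,
          Nat.cast_one, zpow_one]
      rw [h5]
      exact K.mul_mem (K.zpow_mem h1 _) (K.zpow_mem h3 _)
  · intro g hg
    have h5 : (g ^ c) ^ 5 = 1 := by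
      rw [← pow_mul, mul_comm, ← hC]
      exact congrArg Subtype.val (pow_card_eq_one' (x := (⟨g, hg⟩ : C)))
    have hcw : Commute (g ^ c) w := (commOf hg).pow_left c
    have hpg : IsPGroup 5 (Subgroup.zpowers (g ^ c)) := by
      obtain ⟨i, -, hi⟩ :=
        (Nat.dvd_prime_pow (show Nat.Prime 5 by norm_num)).1
          (show orderOf (g ^ c) ∣ 5 ^ 1 by rw [pow_one]; exact orderOf_dvd_of_pow_eq_one h5)
      exact IsPGroup.of_card (n := i) (by rw [Nat.card_zpowers, hi])
    have hnorm : Subgroup.zpowers (g ^ c) ≤ Subgroup.normalizer ((P : Subgroup G) : Set G) := by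
      refine le_trans ?_ (Subgroup.centralizer_le_normalizer _)
      rw [Subgroup.zpowers_le, hP]
      refine Subgroup.mem_centralizer_iff.2 fun x hx => ?_
      obtain ⟨i, rfl⟩ := Subgroup.mem_zpowers_iff.1 hx
      exact (hcw.zpow_right i).symm.eq
    have hsup := hpg.to_sup_of_normal_right' P.2 hnorm
    have h := P.3 hsup le_sup_right
    have hgc : g ^ c ∈ Subgroup.zpowers (g ^ c) ⊔ (P : Subgroup G) :=
      Subgroup.mem_sup_left (Subgroup.mem_zpowers _)
    rw [← hP]
    exact h ▸ hgc

variable {w : G} {c : ℕ} (D : Sec w c)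
include D

theorem pow_c (g : G) : g ∈ D.H → g ^ c = 1 := fun h => ((D.mem_iff g).1 h).2

theorem comm {h : G} (hh : h ∈ D.H) : Commute w h :=
  (Subgroup.mem_centralizer_singleton_iff.1 (D.le hh) : Commute h w).symm

theorem mul_pow_c {h : G} (hh : h ∈ D.H) : (w * h) ^ c = w ^ c := by
  rw [(comm D hh).mul_pow, pow_c D h hh, mul_one]

theorem mul_mem_cen {h : G} (hh : h ∈ D.H) : w * h ∈ cen w :=
  Subgroup.mul_mem _ (Subgroup.mem_centralizer_singleton_iff.2 rfl) (D.le hh)

theorem five_dvd_orderOf {h : G} (hh : h ∈ D.H) : 5 ∣ orderOf (w * h) := by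
  have h1 : orderOf ((w * h) ^ c) = 5 := by
    rw [mul_pow_c D hh, Nat.Coprime.orderOf_pow (by rw [D.order]; exact D.coprime)]
    exact D.order
  exact h1 ▸ orderOf_pow_dvd c

theorem cpos : 0 < c := D.card ▸ Nat.card_pos

/-- The sum of a character over the coset. -/
noncomputable def avg [Fintype D.H] (χ : IrrCharacter G) : ℂ := ∑ h : D.H, (χ : G → ℂ) (w * h)

/-- The sum is `c` times an integer. -/
theorem exists_mean [Fintype D.H] (χ : IrrCharacter G) : ∃ m : ℤ, avg D χ = (c : ℂ) * (m : ℂ) := by
  classical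
  haveI : NeZero (Nat.card G) := ⟨Nat.card_pos.ne'⟩
  obtain ⟨M, hM⟩ : ∃ M : ℤ, (M : ℂ) = avg D χ := by
    refine exists_int_of_rat ?_ (exists_rat_of_fixed (N := Nat.card G) ?_ fun k σ hk hσ => ?_)
    · exact IsIntegral.sum _ fun h _ => char_isIntegral (isCharacter_of_irr χ.2) _
    · exact sum_mem fun h _ => char_mem_cyclo (isCharacter_of_irr χ.2) _ pow_card_eq_one'
    have hk5 : ¬ 5 ∣ k := by
      intro h5
      have h5G : 5 ∣ Nat.card G := D.order ▸ orderOf_dvd_natCard w
      exact absurd (Nat.dvd_gcd h5 h5G) (by rw [hk]; norm_num)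
    obtain ⟨n, hn⟩ := D.autom k hk5
    have hkc : Nat.Coprime (Nat.card D.H) k :=
      (Nat.Coprime.coprime_dvd_right (Subgroup.card_subgroup_dvd_card D.H) hk).symm
    have hnH : ∀ h ∈ D.H, n⁻¹ * h * n ∈ D.H := by
      intro h hh
      rw [D.mem_iff]
      refine ⟨?_, ?_⟩
      · refine Subgroup.mem_centralizer_singleton_iff.2 ?_
        have hc : Commute h (n * w * n⁻¹) := by
          rw [hn]
          exact ((comm D hh).symm).pow_right k
        calc n⁻¹ * h * n * w = n⁻¹ * (h * (n * w * n⁻¹)) * n := by group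
          _ = n⁻¹ * ((n * w * n⁻¹) * h) * n := by rw [hc.eq]
          _ = w * (n⁻¹ * h * n) := by group
      · have h2 := conj_pow (a := n⁻¹) (b := h) (i := c)
        rw [inv_inv] at h2
        rw [h2, pow_c D h hh, mul_one, inv_mul_cancel]
    let f : D.H → D.H := fun h => ⟨n⁻¹ * (h : G) * n, hnH h h.2⟩
    have hf : Function.Bijective f := Finite.injective_iff_bijective.1 fun a b e => by
      have := congrArg Subtype.val e
      simp only [f, mul_left_inj, mul_right_inj] at this
      exact Subtype.ext this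
    show σ (∑ h : D.H, (χ : G → ℂ) (w * h)) = ∑ h : D.H, (χ : G → ℂ) (w * h)
    rw [map_sum]
    have h1 : ∀ h : D.H, σ ((χ : G → ℂ) (w * h)) =
        (χ : G → ℂ) (w * ((f (powCoprime hkc h) : D.H) : G)) := by
      intro h
      rw [galois_apply σ hσ (isCharacter_of_irr χ.2) _ pow_card_eq_one', (comm D h.2).mul_pow,
        ← hn]
      have e : w * ((f (powCoprime hkc h) : D.H) : G) = n⁻¹ * (n * w * n⁻¹ * (h : G) ^ k) * n := by
        simp only [f, powCoprime_apply, SubgroupClass.coe_pow]
        group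
      rw [e]
      haveI := Fintype.ofFinite G
      have h3 := isClassFunction_irr χ (n * w * n⁻¹ * (h : G) ^ k) n⁻¹
      rw [inv_inv] at h3
      exact h3.symm
    simp only [h1]
    exact Fintype.sum_bijective _ (hf.comp (powCoprime hkc).bijective) _ _ fun h => rfl
  obtain ⟨m, hm⟩ := CfsgLib.M12Order.FiveEven.card_dvd_sum χ D.H (y := w) (fun v hv => comm D hv)
    (m := M) hM
  refine ⟨m, ?_⟩
  rw [← hM, hm, D.card]
  push_cast
  ring

/-- The squares of the sums add up to `5c²`. -/
theorem sum_avg_sq [Fintype D.H] [Fintype (IrrCharacter G)] :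
    ∑ χ : IrrCharacter G, avg D χ * conj (avg D χ) = 5 * (c : ℂ) ^ 2 := by
  classical
  haveI := Fintype.ofFinite G
  haveI : Fintype (cen w) := Fintype.ofFinite _
  simp only [avg, map_sum, Finset.sum_mul, Finset.mul_sum]
  have key : ∀ h : D.H, ∑ χ : IrrCharacter G, ∑ h' : D.H,
      (χ : G → ℂ) (w * h) * conj ((χ : G → ℂ) (w * h')) = 5 * (c : ℂ) := by
    intro h
    rw [Finset.sum_comm]
    simp only [second_orthogonality]
    rw [← Finset.sum_filter, Finset.sum_const, nsmul_eq_mul]
    set S := (Finset.univ : Finset D.H).filter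
      fun h' : D.H => IsConj (w * (h' : G)) (w * (h : G)) with hS
    have hSc : S.card * Nat.card (cen (w * (h : G))) = 5 * c := by
      let g : cen w → G := fun a => (a : G) * (w * h) * (a : G)⁻¹
      have him : (Finset.univ : Finset (cen w)).image g = S.image fun h' : D.H => w * (h' : G) := by
        ext z
        simp only [Finset.mem_image, hS, Finset.mem_filter, Finset.mem_univ, true_and]
        constructor
        · rintro ⟨a, rfl⟩
          have hz : (a : G) * (w * h) * (a : G)⁻¹ ∈ cen w :=
            Subgroup.mul_mem _ (Subgroup.mul_mem _ a.2 (mul_mem_cen D h.2)) (Subgroup.inv_mem _ a.2)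
          have hzc : ((a : G) * (w * h) * (a : G)⁻¹) ^ c = w ^ c := by
            rw [conj_pow, mul_pow_c D h.2]
            exact mul_inv_eq_iff_eq_mul.2
              ((commOf a.2).pow_right c).eq
          have hh' : w⁻¹ * ((a : G) * (w * h) * (a : G)⁻¹) ∈ D.H := by
            rw [D.mem_iff]
            refine ⟨Subgroup.mul_mem _ (Subgroup.inv_mem _
              (Subgroup.mem_centralizer_singleton_iff.2 rfl)) hz, ?_⟩
            rw [Commute.mul_pow (commOf hz).symm.inv_left,
              hzc, inv_pow, inv_mul_cancel]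
          exact ⟨⟨_, hh'⟩, isConj_iff.2 ⟨(a : G)⁻¹, by simp [g]; group⟩, by simp [g]⟩
        · rintro ⟨h', hconj, rfl⟩
          obtain ⟨a, ha⟩ := isConj_iff.1 hconj.symm
          have haw : a * w ^ c * a⁻¹ = w ^ c := by
            have := congrArg (· ^ c) ha
            simp only [conj_pow, mul_pow_c D h.2, mul_pow_c D h'.2] at this
            exact this
          obtain ⟨i, hi⟩ := exists_pow_eq_self_of_coprime (x := w) (n := c)
            (by rw [D.order]; exact D.coprime.symm)
          have haC : a ∈ cen w := Subgroup.mem_centralizer_singleton_iff.2 (by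
            have h1 : Commute a (w ^ c) := mul_inv_eq_iff_eq_mul.1 haw
            exact (hi ▸ h1.pow_right i : Commute a w).eq)
          exact ⟨⟨a, haC⟩, ha⟩
      have hcard := Finset.card_eq_sum_card_image g (Finset.univ : Finset (cen w))
      have hfib : ∀ z ∈ (Finset.univ : Finset (cen w)).image g,
          ((Finset.univ : Finset (cen w)).filter fun a => g a = z).card =
            Nat.card (cen (w * (h : G))) := by
        intro z hz
        obtain ⟨b, -, rfl⟩ := Finset.mem_image.1 hz
        rw [Nat.card_eq_fintype_card, Fintype.card_subtype]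
        refine Finset.card_bij (fun a _ => ((b : G)⁻¹ * (a : G))) ?_ ?_ ?_
        · intro a ha
          simp only [Finset.mem_filter, Finset.mem_univ, true_and, g] at ha ⊢
          rw [Subgroup.mem_centralizer_singleton_iff]
          calc (b : G)⁻¹ * a * (w * h) = (b : G)⁻¹ * ((a : G) * (w * h) * (a : G)⁻¹) * a := by group
            _ = (b : G)⁻¹ * ((b : G) * (w * h) * (b : G)⁻¹) * a := by rw [ha]
            _ = w * h * ((b : G)⁻¹ * a) := by group
        · exact fun a₁ _ a₂ _ e => Subtype.ext (mul_left_cancel e)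
        · intro x hx
          simp only [Finset.mem_filter, Finset.mem_univ, true_and] at hx
          rw [Subgroup.mem_centralizer_singleton_iff] at hx
          have hxw : x ∈ cen w := by
            have h1 : Commute x (w ^ c) := mul_pow_c D h.2 ▸ (show Commute x (w * h) from hx).pow_right c
            obtain ⟨i, hi⟩ := exists_pow_eq_self_of_coprime (x := w) (n := c)
              (by rw [D.order]; exact D.coprime.symm)
            exact Subgroup.mem_centralizer_singleton_iff.2 (hi ▸ h1.pow_right i : Commute x w).eq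
          refine ⟨⟨(b : G) * x, Subgroup.mul_mem _ b.2 hxw⟩, ?_, by simp⟩
          simp only [Finset.mem_filter, Finset.mem_univ, true_and, g]
          calc (b : G) * x * (w * h) * ((b : G) * x)⁻¹ = (b : G) * (x * (w * h)) * x⁻¹ * (b : G)⁻¹ := by group
            _ = (b : G) * (w * h * x) * x⁻¹ * (b : G)⁻¹ := by rw [hx]
            _ = (b : G) * (w * h) * (b : G)⁻¹ := by group
      rw [Finset.sum_congr rfl hfib, Finset.sum_const, smul_eq_mul, him,
        Finset.card_image_of_injective S (fun x y e => Subtype.ext (mul_left_cancel e)),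
        Finset.card_univ, ← Nat.card_eq_fintype_card, D.cenCard] at hcard
      exact hcard.symm
    exact_mod_cast congrArg (Nat.cast (R := ℂ)) hSc
  trans ∑ h : D.H, ∑ χ : IrrCharacter G, ∑ h' : D.H,
      (χ : G → ℂ) (w * h) * conj ((χ : G → ℂ) (w * h'))
  swap
  · rw [Finset.sum_congr rfl fun h _ => key h, Finset.sum_const, Finset.card_univ,
      ← Nat.card_eq_fintype_card, D.card, nsmul_eq_mul]
    ring
  rw [Finset.sum_comm (γ := D.H)]
  refine (Finset.sum_congr rfl fun χ _ => ?_)
  exact Finset.sum_comm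

/-- The five characters with nonzero sums: the principal one and four signed ones. -/
structure Five where
  f : Fin 4 → IrrCharacter G
  s : Fin 4 → ℤ
  inj : Function.Injective f
  ne : ∀ i, f i ≠ principal G
  sign : ∀ i, s i = 1 ∨ s i = -1
  degree : ∀ i, s i * (charDegree (f i : G → ℂ) : ℤ) % 5 = 1
  rel : ∀ g : G, ¬ 5 ∣ orderOf g → 1 + ∑ i, (s i : ℂ) * (f i : G → ℂ) g = 0
  weighted : ∀ [Fintype D.H] [Fintype (IrrCharacter G)] (F : IrrCharacter G → ℂ),
    ∑ χ : IrrCharacter G, F χ * avg D χ = (c : ℂ) * (F (principal G) + ∑ i, (s i : ℂ) * F (f i))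

/-- The five characters. -/
theorem exists_five (P : Sylow 5 G) [Fact (Nat.Prime 5)] (hP : (P : Subgroup G) = Subgroup.zpowers w)
    (hN : Nat.card (Subgroup.normalizer ((Subgroup.zpowers w : Subgroup G) : Set G)) = 20 * c) :
    Nonempty (Five D) := by
  classical
  letI := Fintype.ofFinite G
  letI := irrFintype G
  letI : Fintype D.H := Fintype.ofFinite _
  have hw := D.order
  have hPcard : Nat.card (P : Subgroup G) = 5 := by rw [hP, Nat.card_zpowers, hw]
  have hCw : Subgroup.centralizer ((P : Subgroup G) : Set G) = cen w := by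
    rw [hP, CfsgLib.M12Order.FiveEven.centralizer_zpowers]
  have he : (Subgroup.centralizer ((P : Subgroup G) : Set G)).relIndex
      (Subgroup.normalizer ((P : Subgroup G) : Set G)) = 4 := by
    have hle : Subgroup.centralizer ((P : Subgroup G) : Set G) ≤
        Subgroup.normalizer ((P : Subgroup G) : Set G) := Subgroup.centralizer_le_normalizer _
    have h := Subgroup.relIndex_mul_relIndex _ _ _ bot_le hle
    rw [Subgroup.relIndex_bot_left, Subgroup.relIndex_bot_left, hCw, D.cenCard, hP, hN] at h
    rw [hCw, hP]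
    have := cpos D
    nlinarith
  obtain ⟨M, hM⟩ := CharApps.exists_pModular (p := 5)
  obtain ⟨X, Y, hB, hdisj, hX, hY, εX, ε, hXp, hε, hYd, hYeq, hrel⟩ :=
    Cfsg.Agent.S4441.result 5 M hM (by norm_num) P hPcard 4 he
  -- the sums on `X`
  choose m hm using exists_mean D
  have hc0 : (c : ℂ) ≠ 0 := Nat.cast_ne_zero.2 (cpos D).ne'
  have hreg : ∀ h : D.H, ¬ 5 ∣ orderOf (h : G) := by
    intro h h5
    have h5c : 5 ∣ c :=
      h5.trans (orderOf_dvd_of_pow_eq_one (pow_c D _ h.2))
    exact absurd (Nat.dvd_gcd (dvd_refl 5) h5c) (by rw [D.coprime]; norm_num)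
  have hmX : ∀ χ ∈ X, m χ = εX χ := by
    intro χ hχ
    have h : avg D χ = (c : ℂ) * (εX χ : ℂ) := by
      rw [avg, Finset.sum_congr rfl (g := fun _ => (εX χ : ℂ)) fun (h : D.H) _ =>
        (hXp χ hχ).2.2 w (hP ▸ Subgroup.mem_zpowers w)
          (fun e => by rw [e, orderOf_one] at hw; norm_num at hw) (h : G)
          (hCw ▸ D.le h.2) (hreg h), Finset.sum_const, Finset.card_univ, ← Nat.card_eq_fintype_card,
        D.card, nsmul_eq_mul]
    rw [hm] at h
    exact_mod_cast mul_left_cancel₀ hc0 h
  -- the squares of the means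
  have hsq : ∑ χ : IrrCharacter G, m χ ^ 2 = 5 := by
    have h := sum_avg_sq D
    simp only [hm, map_mul, map_intCast, map_natCast] at h
    have h2 : (c : ℂ) ^ 2 * ∑ χ : IrrCharacter G, (m χ : ℂ) ^ 2 = (c : ℂ) ^ 2 * 5 := by
      rw [Finset.mul_sum, mul_comm _ (5 : ℂ), ← h]
      exact Finset.sum_congr rfl fun χ _ => by ring
    exact_mod_cast mul_left_cancel₀ (pow_ne_zero 2 hc0) h2
  set X' := (Set.toFinite X).toFinset with hX'
  have hX'c : X'.card = 4 := by rw [hX', ← Nat.card_eq_card_finite_toFinset, hX]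
  have hXsq : ∑ χ ∈ X', m χ ^ 2 = 4 := by
    rw [Finset.sum_congr rfl (g := fun _ => (1 : ℤ)) fun χ hχ => by
      rw [hmX χ ((Set.toFinite X).mem_toFinset.1 hχ)]
      rcases (hXp χ ((Set.toFinite X).mem_toFinset.1 hχ)).1 with e | e <;> rw [e] <;> norm_num,
      Finset.sum_const, hX'c]
    norm_num
  have hout : ∑ χ ∈ X'ᶜ, m χ ^ 2 = 1 := by
    have := Finset.sum_add_sum_compl X' fun χ => m χ ^ 2
    omega
  obtain ⟨χ₁, hχ₁, hone⟩ : ∃ χ₁ ∈ X'ᶜ, m χ₁ ≠ 0 := by
    by_contra h
    push Not at h
    rw [Finset.sum_eq_zero (fun χ hχ => by rw [h χ hχ]; norm_num)] at hout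
    norm_num at hout
  have hzero : ∀ χ, χ ∉ insert χ₁ X' → m χ = 0 := by
    intro χ hχ
    rw [Finset.mem_insert, not_or] at hχ
    by_contra h0
    have h := Finset.sum_le_sum_of_subset_of_nonneg (s := {χ, χ₁}) (t := X'ᶜ)
      (f := fun χ => m χ ^ 2) (by
        intro x hx
        rcases Finset.mem_insert.1 hx with rfl | hx
        · exact Finset.mem_compl.2 hχ.2
        · rwa [Finset.mem_singleton.1 hx])
      (fun x _ _ => sq_nonneg _)
    rw [Finset.sum_pair hχ.1, hout] at h
    have h1 : 0 < m χ ^ 2 := by positivity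
    have h2 : 0 < m χ₁ ^ 2 := by positivity
    omega
  have hm1 : m χ₁ = 1 ∨ m χ₁ = -1 := by
    have h := Finset.single_le_sum (f := fun χ => m χ ^ 2) (fun x _ => sq_nonneg _) hχ₁
    rw [hout] at h
    have h1 : -1 ≤ m χ₁ ∧ m χ₁ ≤ 1 := ⟨by nlinarith, by nlinarith⟩
    omega
  -- the principal character
  have hmp : m (principal G) = 1 := by
    have h : avg D (principal G) = (c : ℂ) := by
      simp [avg, principal_apply, ← Nat.card_eq_fintype_card, D.card]
    rw [hm] at h
    have h2 : (c : ℂ) * (m (principal G) : ℂ) = (c : ℂ) * 1 := by rw [h, mul_one]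
    exact_mod_cast mul_left_cancel₀ hc0 h2
  set T := (insert χ₁ X').erase (principal G) with hT
  have hp : principal G ∈ insert χ₁ X' := by
    by_contra h
    rw [hzero _ h] at hmp
    norm_num at hmp
  have hTc : T.card = 4 := by
    rw [hT, Finset.card_erase_of_mem hp, Finset.card_insert_of_notMem (Finset.mem_compl.1 hχ₁), hX'c]
  let e : Fin 4 ≃ T := (T.equivFinOfCardEq hTc).symm
  have hweight : ∀ F : IrrCharacter G → ℂ,
      ∑ χ : IrrCharacter G, F χ * avg D χ =
        (c : ℂ) * (F (principal G) + ∑ i, (m (e i) : ℂ) * F (e i)) := by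
    intro F
    rw [← Finset.sum_subset (Finset.subset_univ (insert χ₁ X')) fun χ _ hχ => by
      rw [hm, hzero χ hχ]; simp, ← Finset.add_sum_erase _ _ hp, ← hT,
      ← Finset.sum_coe_sort T, ← Equiv.sum_comp e, hm, hmp, mul_add, Finset.mul_sum]
    push_cast
    congr 1
    · ring
    · exact Finset.sum_congr rfl fun i _ => by rw [hm]; ring
  have hmT : ∀ i, m (e i) = 1 ∨ m (e i) = -1 := by
    intro i
    rcases Finset.mem_insert.1 (Finset.mem_of_mem_erase (e i).2) with h | h
    · rw [h]; exact hm1
    · rw [hmX _ ((Set.toFinite X).mem_toFinset.1 h)]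
      exact (hXp _ ((Set.toFinite X).mem_toFinset.1 h)).1
  have hrelT : ∀ g : G, ¬ 5 ∣ orderOf g → 1 + ∑ i, (m (e i) : ℂ) * (e i : IrrCharacter G).1 g = 0 := by
    intro g hg
    have h0 : ∑ χ : IrrCharacter G, conj ((χ : G → ℂ) g) * avg D χ = 0 := by
      simp only [avg, Finset.mul_sum]
      rw [Finset.sum_comm]
      refine Finset.sum_eq_zero fun h _ => ?_
      have h2 := second_orthogonality (G := G) (w * (h : G)) g
      rw [if_neg fun hh => by
        obtain ⟨a, ha⟩ := isConj_iff.1 hh
        have : orderOf g = orderOf (w * (h : G)) := by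
          rw [← ha, ← MulAut.conj_apply, MulEquiv.orderOf_eq]
        exact hg (this ▸ five_dvd_orderOf D h.2)] at h2
      rw [← h2]
      exact Finset.sum_congr rfl fun χ _ => mul_comm _ _
    rw [hweight, mul_eq_zero] at h0
    have h1 := congrArg conj (h0.resolve_left hc0)
    simp only [map_add, map_sum, map_mul, map_intCast, Complex.conj_conj, map_zero,
      principal_apply] at h1
    exact h1
  refine ⟨{ f := fun i => (e i : IrrCharacter G), s := fun i => m (e i),
            inj := fun i j h => e.injective (Subtype.ext h),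
            ne := fun i => Finset.ne_of_mem_erase (e i).2,
            sign := hmT, degree := ?_, rel := hrelT, weighted := ?_ }⟩
  · -- the congruence: clear on `X`, and for the last one from the relation at the identity
    have hX1 : ∀ i, ((e i : IrrCharacter G)) ≠ χ₁ →
        m (e i) * (charDegree ((e i : IrrCharacter G) : G → ℂ) : ℤ) % 5 = 1 := by
      intro i hi
      have hX : (e i : IrrCharacter G) ∈ X :=
        (Set.toFinite X).mem_toFinset.1
          ((Finset.mem_insert.1 (Finset.mem_of_mem_erase (e i).2)).resolve_left hi)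
      have h := (hXp _ hX).2.1.mul_left (εX (e i))
      rw [hmX _ hX]
      rcases (hXp _ hX).1 with e' | e' <;> rw [e'] at h ⊢ <;> simpa [Int.ModEq] using h
    intro i
    by_cases hi : (e i : IrrCharacter G) = χ₁
    · have h := hrelT 1 (by rw [orderOf_one]; norm_num)
      simp only [deg_eq] at h
      have h' : (1 + ∑ j, m (e j) * (charDegree ((e j : IrrCharacter G) : G → ℂ) : ℤ)) = 0 := by
        exact_mod_cast h
      have hrest : ∀ j ∈ (Finset.univ : Finset (Fin 4)).erase i,
          m (e j) * (charDegree ((e j : IrrCharacter G) : G → ℂ) : ℤ) % 5 = 1 := fun j hj =>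
        hX1 j fun e' => (Finset.mem_erase.1 hj).1 (e.injective (Subtype.ext (e'.trans hi.symm)))
      rw [← Finset.add_sum_erase _ _ (Finset.mem_univ i)] at h'
      have h3 : (∑ j ∈ (Finset.univ : Finset (Fin 4)).erase i,
          m (e j) * (charDegree ((e j : IrrCharacter G) : G → ℂ) : ℤ)) % 5 = 3 := by
        rw [Finset.sum_int_mod, Finset.sum_congr rfl hrest, Finset.sum_const,
          Finset.card_erase_of_mem (Finset.mem_univ i), Finset.card_univ, Fintype.card_fin]
        norm_num
      omega
    · exact hX1 i hi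
  · intro hf hf' F
    have : (@Finset.univ _ hf') = (Finset.univ : Finset (IrrCharacter G)) := by
      ext; simp
    convert hweight F using 3 <;> simp [avg] <;> congr!

/-- The square lemma. -/
theorem exists_square [Fintype D.H] [Fintype (IrrCharacter G)] {t : G} (ht : t * t = 1) :
    ∃ r : ℕ, (r : ℂ) ^ 2 = 5 * (Nat.card G : ℂ) *
      ∑ χ : IrrCharacter G, (χ : G → ℂ) t ^ 2 / (χ : G → ℂ) 1 * avg D χ := by
  classical
  haveI := Fintype.ofFinite G
  set z := w⁻¹ with hz
  set conjt : G → G := fun a => a * t * a⁻¹ with hconjt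
  have hinv : ∀ a, conjt a * conjt a = 1 := fun a => by
    simp only [hconjt]
    rw [show a * t * a⁻¹ * (a * t * a⁻¹) = a * (t * t) * a⁻¹ by group, ht]
    group
  have hinvi : ∀ a, (conjt a)⁻¹ = conjt a := fun a => inv_eq_of_mul_eq_one_left (hinv a)
  set R := (Finset.univ : Finset G).filter
    (fun a => conjt a * w * (conjt a)⁻¹ = w⁻¹) with hR
  set U := (Finset.univ : Finset (G × G)).filter
    (fun ab => conjt ab.1 * conjt ab.2 ∈ cen w ∧ (conjt ab.1 * conjt ab.2) ^ c = z ^ c) with hU
  refine ⟨R.card, ?_⟩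
  -- the pairs over the coset
  have hUsum : (U.card : ℂ) = (Nat.card G : ℂ) *
      ∑ χ : IrrCharacter G, (χ : G → ℂ) t ^ 2 / (χ : G → ℂ) 1 * avg D χ := by
    have h1 : U.card = ∑ h : D.H,
        Nat.card {ab : G × G // (ab.1 * t * ab.1⁻¹) * (ab.2 * t * ab.2⁻¹) = (w * (h : G))⁻¹} := by
      simp only [Nat.card_eq_fintype_card, Fintype.card_subtype]
      rw [← Finset.card_sigma]
      refine (Finset.card_bij (fun p _ => p.2) ?_ ?_ ?_).symm
      · rintro ⟨h, ab⟩ hp
        simp only [Finset.mem_sigma, Finset.mem_univ, Finset.mem_filter, true_and] at hp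
        simp only [hU, Finset.mem_filter, Finset.mem_univ, true_and, hconjt, hp]
        exact ⟨Subgroup.inv_mem _ (mul_mem_cen D h.2),
          by rw [inv_pow, mul_pow_c D h.2, hz, inv_pow]⟩
      · rintro ⟨h, ab⟩ hp ⟨h', ab'⟩ hp' e
        simp only [Finset.mem_sigma, Finset.mem_univ, Finset.mem_filter, true_and] at hp hp' e
        subst e
        rw [hp] at hp'
        rw [Subtype.ext (mul_left_cancel (inv_injective hp'))]
      · intro ab hab
        simp only [hU, Finset.mem_filter, Finset.mem_univ, true_and] at hab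
        have hh : w⁻¹ * (conjt ab.1 * conjt ab.2)⁻¹ ∈ D.H := by
          have hg : (conjt ab.1 * conjt ab.2)⁻¹ ∈ cen w := Subgroup.inv_mem _ hab.1
          rw [D.mem_iff]
          refine ⟨Subgroup.mul_mem _ (Subgroup.inv_mem _
            (Subgroup.mem_centralizer_singleton_iff.2 rfl)) hg, ?_⟩
          rw [Commute.mul_pow (commOf hg).symm.inv_left,
            inv_pow (conjt ab.1 * conjt ab.2), hab.2, hz, inv_pow, inv_inv, inv_mul_cancel]
        refine ⟨⟨⟨_, hh⟩, ab⟩, ?_, rfl⟩
        simp only [Finset.mem_sigma, Finset.mem_univ, Finset.mem_filter, true_and, hconjt]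
        group
    rw [h1, Nat.cast_sum]
    simp only [card_conj_mul_conj, inv_inv, avg, Finset.mul_sum]
    rw [Finset.sum_comm]
    refine Finset.sum_congr rfl fun χ _ => Finset.sum_congr rfl fun h _ => ?_
    ring
  -- the translations by the powers of `w`
  have hcmod : ∀ a b : ℕ, a < 5 → b < 5 → w ^ (2 * a * c) = w ^ (2 * b * c) → a = b := by
    intro a b ha hb h
    rw [pow_eq_pow_iff_modEq, D.order] at h
    have h2 : Nat.Coprime 5 (2 * c) := Nat.Coprime.mul_right (by norm_num) D.coprime
    have h3 : a ≡ b [MOD 5] := Nat.ModEq.cancel_right_of_coprime (c := 2 * c) h2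
      (by rw [show a * (2 * c) = 2 * a * c by ring, show b * (2 * c) = 2 * b * c by ring]; exact h)
    exact Nat.ModEq.eq_of_lt_of_lt h3 ha hb
  have hpowinv : ∀ (i : G), i * w * i⁻¹ = w⁻¹ → ∀ k : ℕ, i * w ^ k * i⁻¹ = (w ^ k)⁻¹ := by
    intro i hi k
    rw [← conj_pow, hi, inv_pow]
  have hshift : ∀ (a : G) (k : ℕ), conjt a * w * (conjt a)⁻¹ = w⁻¹ →
      conjt (w ^ k * a) = w ^ (2 * k) * conjt a := by
    intro a k ha
    have h1 := hpowinv _ ha k
    calc conjt (w ^ k * a) = w ^ k * conjt a * (w ^ k)⁻¹ := by simp only [hconjt]; group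
      _ = w ^ k * (w ^ k * conjt a) := by
          rw [mul_assoc, ← h1]
          congr 1
          rw [← mul_assoc, ← mul_assoc, hinvi]
          rw [show conjt a * conjt a * w ^ k * conjt a = w ^ k * conjt a by rw [hinv, one_mul]]
      _ = w ^ (2 * k) * conjt a := by rw [← mul_assoc, ← pow_add, two_mul]
  have hUR : U.card * 5 = R.card * R.card := by
    rw [← Finset.card_product R R]
    have : U.card * 5 = (U ×ˢ Finset.range 5).card := by rw [Finset.card_product, Finset.card_range]
    rw [this]
    obtain ⟨j, hj⟩ := exists_pow_eq_self_of_coprime (x := w) (n := c)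
      (by rw [D.order]; exact D.coprime.symm)
    -- both members invert `w`
    have hmem : ∀ ab ∈ U, conjt ab.1 * w * (conjt ab.1)⁻¹ = w⁻¹ ∧
        conjt ab.2 * w * (conjt ab.2)⁻¹ = w⁻¹ := by
      intro ab hab
      simp only [hU, Finset.mem_filter, Finset.mem_univ, true_and] at hab
      have hflip : ∀ u v : G, u * u = 1 → v * v = 1 →
          u * (u * v) * u⁻¹ = (u * v)⁻¹ ∧ v * (u * v) * v⁻¹ = (u * v)⁻¹ := by
        intro u v hu hv
        have e1 : u⁻¹ = u := inv_eq_of_mul_eq_one_left hu
        have e2 : v⁻¹ = v := inv_eq_of_mul_eq_one_left hv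
        refine ⟨?_, ?_⟩
        · rw [mul_inv_rev, e1, e2, ← mul_assoc, hu, one_mul]
        · rw [mul_inv_rev, e1, e2, mul_assoc, mul_assoc, hv, mul_one]
      obtain ⟨f1, f2⟩ := hflip _ _ (hinv ab.1) (hinv ab.2)
      have key : ∀ i : G, i * (conjt ab.1 * conjt ab.2) * i⁻¹ = (conjt ab.1 * conjt ab.2)⁻¹ →
          i * w * i⁻¹ = w⁻¹ := by
        intro i hi
        have h := congrArg (· ^ c) hi
        simp only [conj_pow, inv_pow, hab.2, hz] at h
        rw [inv_inv, ← inv_inj] at h
        have h' : i * w ^ c * i⁻¹ = (w ^ c)⁻¹ := by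
          rw [← h]
          group
        have h2 := congrArg (· ^ j) h'
        simp only [conj_pow, inv_pow, hj] at h2
        exact h2
      exact ⟨key _ f1, key _ f2⟩
    refine Finset.card_bij (fun p _ => (w ^ p.2 * p.1.1, p.1.2)) ?_ ?_ ?_
    · rintro ⟨⟨a, b⟩, k⟩ hp
      rw [Finset.mem_product] at hp
      obtain ⟨ha, hb⟩ := hmem _ hp.1
      simp only [Finset.mem_product, hR, Finset.mem_filter, Finset.mem_univ, true_and]
      refine ⟨?_, hb⟩
      rw [hshift a k ha, mul_inv_rev]
      calc w ^ (2 * k) * conjt a * w * ((conjt a)⁻¹ * (w ^ (2 * k))⁻¹)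
          = w ^ (2 * k) * (conjt a * w * (conjt a)⁻¹) * (w ^ (2 * k))⁻¹ := by group
        _ = w⁻¹ := by
          rw [ha]
          exact mul_inv_eq_iff_eq_mul.2 ((Commute.refl w).pow_left _).inv_right.eq
    · rintro ⟨⟨a, b⟩, k⟩ hp ⟨⟨a', b'⟩, k'⟩ hp' e
      simp only [Prod.mk.injEq] at e
      obtain ⟨e1, rfl⟩ := e
      rw [Finset.mem_product, Finset.mem_range] at hp hp'
      obtain ⟨ha, -⟩ := hmem _ hp.1
      obtain ⟨ha', -⟩ := hmem _ hp'.1
      have h1 := congrArg conjt e1
      rw [hshift a k ha, hshift a' k' ha'] at h1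
      have hu := hp.1
      have hu' := hp'.1
      simp only [hU, Finset.mem_filter, Finset.mem_univ, true_and] at hu hu'
      have h2 := congrArg (fun x => (x * conjt b) ^ c) h1
      simp only [mul_assoc] at h2
      rw [Commute.mul_pow ((commOf hu.1).symm.pow_left _),
        Commute.mul_pow ((commOf hu'.1).symm.pow_left _),
        hu.2, hu'.2, ← pow_mul, ← pow_mul, mul_left_inj] at h2
      obtain rfl := hcmod k k' hp.2 hp'.2 h2
      rw [mul_right_inj] at e1
      simp [e1]
    · rintro ⟨a, b⟩ hab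
      simp only [Finset.mem_product, hR, Finset.mem_filter, Finset.mem_univ, true_and] at hab
      obtain ⟨ha, hb⟩ := hab
      set g := conjt a * conjt b with hg
      have hgC : g ∈ cen w := by
        refine Subgroup.mem_centralizer_singleton_iff.2 ?_
        have hb2 : conjt b * w = w⁻¹ * conjt b := mul_inv_eq_iff_eq_mul.1 hb
        have ha2 : conjt a * w⁻¹ = w * conjt a := by
          have := hpowinv _ ha 1
          rw [pow_one] at this
          have e : conjt a * w⁻¹ * (conjt a)⁻¹ = w := by
            rw [← inv_inj]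
            calc (conjt a * w⁻¹ * (conjt a)⁻¹)⁻¹ = conjt a * w * (conjt a)⁻¹ := by group
              _ = w⁻¹ := ha
          exact mul_inv_eq_iff_eq_mul.1 e
        calc g * w = conjt a * (conjt b * w) := mul_assoc _ _ _
          _ = conjt a * w⁻¹ * conjt b := by rw [hb2, ← mul_assoc]
          _ = w * g := by rw [ha2, mul_assoc]
      obtain ⟨k, hk5, hk⟩ : ∃ k < 5, w ^ (2 * k * c) * g ^ c = z ^ c := by
        have hmemz : z ^ c * (g ^ c)⁻¹ ∈ Subgroup.zpowers w :=
          Subgroup.mul_mem _ (Subgroup.pow_mem _ (Subgroup.inv_mem _ (Subgroup.mem_zpowers w)) c)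
            (Subgroup.inv_mem _ (D.pow_mem g hgC))
        have himg : (Finset.range 5).image (fun k => w ^ (2 * k * c)) =
            (Finset.range 5).image (fun k => w ^ k) := by
          refine Finset.eq_of_subset_of_card_le ?_ ?_
          · intro x hx
            obtain ⟨k, -, rfl⟩ := Finset.mem_image.1 hx
            exact Finset.mem_image.2 ⟨2 * k * c % 5, Finset.mem_range.2 (Nat.mod_lt _ (by norm_num)),
              by rw [← D.order, pow_mod_orderOf]⟩
          · rw [Finset.card_image_of_injOn (fun x hx y hy e => hcmod x y (Finset.mem_range.1 hx)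
              (Finset.mem_range.1 hy) e), Finset.card_range]
            exact Finset.card_image_le.trans (Finset.card_range 5).le
        have h2 := mem_zpowers_iff_mem_range_orderOf.1 hmemz
        rw [D.order, ← himg] at h2
        obtain ⟨k, hk, hk'⟩ := Finset.mem_image.1 h2
        exact ⟨k, Finset.mem_range.1 hk, by rw [hk', inv_mul_cancel_right]⟩
      -- the preimage
      have hsh := hshift a k ha
      have hk' : w ^ ((5 - k) % 5) * w ^ k = 1 := by
        rw [← pow_add, ← pow_mod_orderOf, D.order, show ((5 - k) % 5 + k) % 5 = 0 by omega, pow_zero]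
      refine ⟨⟨⟨w ^ k * a, b⟩, (5 - k) % 5⟩, ?_, ?_⟩
      · simp only [Finset.mem_product, Finset.mem_range, hU, Finset.mem_filter, Finset.mem_univ,
          true_and]
        refine ⟨⟨?_, ?_⟩, Nat.mod_lt _ (by norm_num)⟩
        · rw [hsh, mul_assoc]
          exact Subgroup.mul_mem _ (Subgroup.pow_mem _
            (Subgroup.mem_centralizer_singleton_iff.2 rfl) _) hgC
        · rw [hsh, mul_assoc, ← hg, ((commOf hgC).symm.pow_left _).mul_pow, ← pow_mul]
          exact hk
      · simp only [← mul_assoc, hk', one_mul]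
  calc ((R.card : ℕ) : ℂ) ^ 2 = ((U.card * 5 : ℕ) : ℂ) := by rw [hUR]; push_cast; ring
    _ = _ := by push_cast; rw [hUsum]; ring

end CfsgLib.M22Order.FiveSection
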