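import Cfsg.Agent.Lib.M22Order.Defs
import Cfsg.Agent.Lib.Small.Order7920Tools
import Cfsg.Agent.Lib.M22Nse.Defs

/-!
# Simple groups of order 443520: the pieces

One statement per step of `tools/S1663_plan.md`: the Sylow subgroups of order eleven, the block
table at eleven, seven, five, the degrees, the involutions, the elements of order three and the
element orders; together they give the local facts used in `Lib/M22Nse`.
-/

set_option autoImplicit false

namespace CfsgLib.M22Order

open Cfsg CfsgLib.Chars CfsgLib.CharApps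

universe u

variable (G : Type u) [Group G]

/-- The centralizer of an element. -/
abbrev cen {G : Type u} [Group G] (g : G) : Subgroup G := Subgroup.centralizer ({g} : Set G)

/-- A self-centralizing Sylow subgroup of order `p` with normalizer of order `n`. -/
structure Local (p n : ℕ) : Prop where
  cent : ∀ x : G, orderOf x = p → Nat.card (cen x) = p
  norm : ∀ P : Sylow p G, Nat.card (Subgroup.normalizer ((P : Subgroup G) : Set G)) = n

/-- The local structure at eleven. -/
abbrev LocalEleven : Prop := Local G 11 55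

/-- The local structure at seven. -/
abbrev LocalSeven : Prop := Local G 7 21

/-- The local structure at five. -/
abbrev LocalFive : Prop := Local G 5 20

/-- The involutions. -/
structure LocalTwo : Prop where
  cent : ∀ t : G, orderOf t = 2 → Nat.card (cen t) = 384
  conj : ∀ t s : G, orderOf t = 2 → orderOf s = 2 → IsConj t s

/-- The elements of order three. -/
structure LocalThree : Prop where
  cent : ∀ z : G, orderOf z = 3 → Nat.card (cen z) = 36
  conj : ∀ z z' : G, orderOf z = 3 → orderOf z' = 3 → IsConj z z'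
  invol : ∀ z : G, orderOf z = 3 → Nat.card {v : G // Commute z v ∧ orderOf v = 2} = 3
  cent_syl : ∀ P : Sylow 3 G, Subgroup.centralizer ((P : Subgroup G) : Set G) = (P : Subgroup G)
  norm : ∀ P : Sylow 3 G, Nat.card (Subgroup.normalizer ((P : Subgroup G) : Set G)) = 72

variable [Finite G]

/-- A principal block with cyclic defect group of prime order `p`: `e - 1` non-principal
non-exceptional degrees (`n = e - 1`), two exceptional characters. -/
structure Table (p n : ℕ) (lists : List ((Fin n → ℕ) × ℕ)) where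
  a : Fin n → IrrCharacter G
  θ : Fin 2 → IrrCharacter G
  sgn : Fin n → ℤ
  ε : ℤ
  list : (Fin n → ℕ) × ℕ
  mem : list ∈ lists
  deg_a : ∀ i, charDegree (a i : G → ℂ) = list.1 i
  deg_θ : ∀ j, charDegree (θ j : G → ℂ) = list.2
  inj : Function.Injective (Fin.append a θ)
  ne_principal : ∀ i, Fin.append a θ i ≠ principal G
  sgn_eq : ∀ i, (sgn i = 1 ∨ sgn i = -1) ∧ sgn i * (list.1 i : ℤ) % (p : ℤ) = 1
  ε_eq : (ε = 1 ∨ ε = -1) ∧ ε * (list.2 : ℤ) % (p : ℤ) = ((n + 1 : ℕ) : ℤ)
  at_p : ∀ i, ∀ x : G, orderOf x = p → (a i : G → ℂ) x = (sgn i : ℂ)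
  at_p_θ : ∀ x : G, orderOf x = p → (θ 0 : G → ℂ) x + (θ 1 : G → ℂ) x = -(ε : ℂ)
  rel : ∀ j, ∀ g : G, ¬ p ∣ orderOf g →
    (ε : ℂ) * (θ j : G → ℂ) g = 1 + ∑ i, (sgn i : ℂ) * (a i : G → ℂ) g
  cover : ∀ χ : IrrCharacter G, χ = principal G ∨ (∃ i, χ = Fin.append a θ i) ∨
    (p ∣ charDegree (χ : G → ℂ) ∧ ∀ x : G, orderOf x = p → (χ : G → ℂ) x = 0)

/-- The degree lists at eleven that allow a central involution of a Sylow subgroup. -/
def tables : List ((Fin 4 → ℕ) × ℕ) :=
  [(![10, 10, 10, 45], 16),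
    (![10, 10, 12, 12], 5),
    (![10, 10, 32, 56], 5),
    (![10, 10, 120, 144], 5),
    (![10, 12, 12, 21], 6),
    (![10, 12, 12, 45], 60),
    (![10, 12, 12, 120], 105),
    (![10, 12, 45, 120], 72),
    (![10, 21, 45, 45], 60),
    (![10, 21, 45, 120], 105),
    (![10, 32, 45, 56], 60),
    (![10, 32, 56, 120], 105),
    (![10, 45, 45, 45], 126),
    (![10, 45, 56, 252], 160),
    (![10, 45, 120, 144], 60),
    (![10, 45, 120, 210], 126),
    (![10, 45, 144, 252], 72),
    (![10, 120, 120, 144], 105),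
    (![12, 21, 32, 45], 5),
    (![12, 32, 120, 144], 5),
    (![12, 56, 56, 120], 5),
    (![21, 21, 21, 56], 6),
    (![21, 21, 32, 32], 105),
    (![21, 21, 45, 56], 60),
    (![21, 21, 56, 120], 105),
    (![21, 21, 320, 384], 105),
    (![21, 32, 32, 210], 126),
    (![21, 32, 32, 252], 336),
    (![21, 32, 56, 56], 60),
    (![21, 45, 45, 56], 126),
    (![21, 45, 45, 210], 280),
    (![21, 56, 120, 210], 126),
    (![21, 56, 120, 252], 336),
    (![21, 120, 210, 210], 280),
    (![21, 210, 210, 384], 16),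
    (![21, 210, 320, 384], 126),
    (![45, 56, 120, 144], 126),
    (![45, 56, 120, 210], 192),
    (![45, 120, 120, 210], 16),
    (![45, 120, 120, 320], 126),
    (![45, 120, 144, 210], 280),
    (![56, 120, 210, 252], 105)]

/-- The possible lists at seven. -/
def tablesSeven : List ((Fin 2 → ℕ) × ℕ) := [(![55, 99], 45), (![55, 120], 66)]

/-- The block at eleven. -/
abbrev TableEleven := Table G 11 4 tables

/-- The block at seven. -/
abbrev TableSeven := Table G 7 2 tablesSeven

/-- The pairs of lists at eleven and seven that remain. -/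
def pairs : List (((Fin 4 → ℕ) × ℕ) × ((Fin 2 → ℕ) × ℕ)) :=
  [((![21, 45, 45, 210], 280), (![55, 99], 45)), ((![21, 120, 210, 210], 280), (![55, 120], 66)),
    ((![21, 21, 56, 120], 105), (![55, 120], 66)), ((![21, 56, 120, 210], 126), (![55, 120], 66)),
    ((![21, 56, 120, 252], 336), (![55, 120], 66))]

/-- The pairs that remain after the five-local analysis. -/
def pairsFive : List (((Fin 4 → ℕ) × ℕ) × ((Fin 2 → ℕ) × ℕ)) :=
  [((![21, 45, 45, 210], 280), (![55, 99], 45)), ((![21, 120, 210, 210], 280), (![55, 120], 66))]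

/-- A candidate for the full list of characters: the degrees, and the signs in the principal
blocks at eleven, seven and five, the exceptional pairs counted once in the relations. -/
structure Spec where
  deg : Fin 12 → ℕ
  r11 : Fin 12 → ℤ
  pair11 : Fin 12 × Fin 12
  r7 : Fin 12 → ℤ
  pair7 : Fin 12 × Fin 12
  r5 : Fin 12 → ℤ

/-- The degrees of the Mathieu group. -/
def specMain : Spec where
  deg := ![1, 21, 45, 45, 55, 99, 154, 210, 231, 280, 280, 385]
  r11 := ![1, -1, 1, 1, 0, 0, 0, 1, 0, -1, 0, 0]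
  pair11 := (9, 10)
  r7 := ![1, 0, -1, 0, -1, 1, 0, 0, 0, 0, 0, 0]
  pair7 := (2, 3)
  r5 := ![1, 1, 0, 0, 0, -1, -1, 0, 1, 0, 0, 0]

/-- The other candidate. -/
def specAlt : Spec where
  deg := ![1, 21, 55, 66, 66, 120, 154, 210, 210, 280, 280, 385]
  r11 := ![1, -1, 0, 0, 0, -1, 0, 1, 1, -1, 0, 0]
  pair11 := (9, 10)
  r7 := ![1, 0, -1, -1, 0, 1, 0, 0, 0, 0, 0, 0]
  pair7 := (3, 4)
  r5 := ![1, 1, 0, 1, 1, 0, -1, 0, 0, 0, 0, 0]

/-- The characters of the group follow a candidate. -/
structure Chars (S : Spec) where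
  c : Fin 12 ≃ IrrCharacter G
  deg : ∀ i, charDegree (c i : G → ℂ) = S.deg i
  principal : c 0 = CfsgLib.Chars.principal G
  rel_eleven : ∀ g : G, ¬ 11 ∣ orderOf g →
    (c S.pair11.1 : G → ℂ) g = (c S.pair11.2 : G → ℂ) g ∧
      ∑ i, (S.r11 i : ℂ) * (c i : G → ℂ) g = 0
  rel_seven : ∀ g : G, ¬ 7 ∣ orderOf g →
    (c S.pair7.1 : G → ℂ) g = (c S.pair7.2 : G → ℂ) g ∧
      ∑ i, (S.r7 i : ℂ) * (c i : G → ℂ) g = 0
  rel_five : ∀ g : G, ¬ 5 ∣ orderOf g → ∑ i, (S.r5 i : ℂ) * (c i : G → ℂ) g = 0
  at_eleven : ∀ x : G, orderOf x = 11 →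
    (∀ i, i ≠ S.pair11.1 → i ≠ S.pair11.2 → (c i : G → ℂ) x = (S.r11 i : ℂ)) ∧
      (c S.pair11.1 : G → ℂ) x + (c S.pair11.2 : G → ℂ) x = -1
  at_seven : ∀ x : G, orderOf x = 7 →
    (∀ i, i ≠ S.pair7.1 → i ≠ S.pair7.2 → (c i : G → ℂ) x = (S.r7 i : ℂ)) ∧
      (c S.pair7.1 : G → ℂ) x + (c S.pair7.2 : G → ℂ) x = -1
  at_five : ∀ x : G, orderOf x = 5 → ∀ i, (c i : G → ℂ) x = (S.r5 i : ℂ)

/-- Piece A. -/
def ElevenStmt : Prop :=
  ∀ (G : Type u) [Group G] [Finite G], IsSimpleGroup G → Nat.card G = 443520 → LocalEleven G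

/-- Piece B. -/
def TableStmt : Prop :=
  ∀ (G : Type u) [Group G] [Finite G], IsSimpleGroup G → Nat.card G = 443520 → LocalEleven G →
    Nonempty (TableEleven G)

/-- Piece C. -/
def SevenStmt : Prop :=
  ∀ (G : Type u) [Group G] [Finite G], IsSimpleGroup G → Nat.card G = 443520 → LocalEleven G →
    ∀ T : TableEleven G, LocalSeven G ∧ ∃ S : TableSeven G, (T.list, S.list) ∈ pairs

/-- Piece D1: the structure at five. -/
def FiveStmt : Prop :=
  ∀ (G : Type u) [Group G] [Finite G], IsSimpleGroup G → Nat.card G = 443520 → LocalEleven G →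
    LocalSeven G → ∀ (T : TableEleven G) (S : TableSeven G), (T.list, S.list) ∈ pairs →
      LocalFive G ∧ (T.list, S.list) ∈ pairsFive

/-- Piece D2: the degrees. -/
def DegreesStmt : Prop :=
  ∀ (G : Type u) [Group G] [Finite G], IsSimpleGroup G → Nat.card G = 443520 → LocalEleven G →
    LocalSeven G → LocalFive G → ∀ (T : TableEleven G) (S : TableSeven G),
      (T.list, S.list) ∈ pairsFive → Nonempty (Chars G specMain) ∨ Nonempty (Chars G specAlt)

/-- Piece D3: the other candidate does not occur. -/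
def AltStmt : Prop :=
  ∀ (G : Type u) [Group G] [Finite G], IsSimpleGroup G → Nat.card G = 443520 → LocalEleven G →
    LocalSeven G → LocalFive G → Chars G specAlt → False

/-- Piece E: the involutions. -/
def InvolStmt : Prop :=
  ∀ (G : Type u) [Group G] [Finite G], IsSimpleGroup G → Nat.card G = 443520 → LocalEleven G →
    LocalSeven G → LocalFive G → Chars G specMain → LocalTwo G

/-- Piece F: the elements of order three. -/
def ThreeStmt : Prop :=
  ∀ (G : Type u) [Group G] [Finite G], IsSimpleGroup G → Nat.card G = 443520 → LocalEleven G →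
    LocalSeven G → LocalFive G → LocalTwo G → Chars G specMain → LocalThree G

/-- Piece G: the element orders. -/
def OrdersStmt : Prop :=
  ∀ (G : Type u) [Group G] [Finite G], IsSimpleGroup G → Nat.card G = 443520 → LocalEleven G →
    LocalSeven G → LocalFive G → LocalTwo G → LocalThree G → Chars G specMain →
      (∀ g : G, orderOf g ∈ [1, 2, 3, 4, 5, 6, 7, 8, 11]) ∧ ∃ g : G, orderOf g = 8

end CfsgLib.M22Order
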