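import Cfsg.Agent.Lib.M22Order.InvolColumn

/-!
# Simple groups of order 443520: the involutions

For the degrees of the Mathieu group one column is possible, so the involutions are conjugate
with centralizers of order 384.
-/

set_option autoImplicit false
set_option linter.style.haveILetI false
set_option linter.unusedSectionVars false

namespace CfsgLib.M22Order

open Cfsg CfsgLib.Chars CfsgLib.CharApps InvolArith

universe u

variable {G : Type u} [Group G] [Finite G]

theorem InvolFacts.mem {S : Spec} {Ch : Chars G S} {t : G} {v : Fin 12 → ℤ}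
    (h : InvolFacts S Ch t v) (i : Fin 12) : v i ∈ cand (S.deg i) := by
  refine mem_cand (h.four i) ?_
  have h1 : v i * v i ≤ (Nat.card (cen t) : ℤ) := h.norm ▸
    Finset.single_le_sum (f := fun j => v j * v j) (fun j _ => mul_self_nonneg _) (Finset.mem_univ i)
  have h2 : Nat.card (cen t) ≤ 1152 := Nat.le_of_dvd (by norm_num) h.card
  have : (Nat.card (cen t) : ℤ) ≤ 1152 := by exact_mod_cast h2
  omega

theorem InvolFacts.main {Ch : Chars G specMain} {t : G} {v : Fin 12 → ℤ}
    (h : InvolFacts specMain Ch t v) : v = ![1, 5, -3, -3, 7, 3, 10, 2, 7, -8, -8, 1] := by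
  obtain ⟨a1, a2⟩ := h.eleven
  obtain ⟨b1, b2⟩ := h.seven
  have c2 := h.five
  have d := h.degree
  have q11 := h.quad_eleven
  have q7 := h.quad_seven
  have hn := h.norm
  have h0 := h.zero
  simp [Fin.sum_univ_succ, specMain] at a1 a2 b1 b2 c2 d q11 q7 hn
  rw [← b1] at a2 d q11 hn
  rw [← a1] at d hn
  rw [h0] at a2 b2 c2 d q11 q7 hn
  have hcard : (1152 : ℤ) % (Nat.card (cen t) : ℤ) = 0 :=
    Int.emod_eq_zero_of_dvd (by exact_mod_cast h.card)
  rw [← hn] at hcard
  have key := main_column (v1 := v 1) (v2 := v 2) (v4 := v 4) (v5 := v 5) (v6 := v 6) (v7 := v 7)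
    (v8 := v 8) (v9 := v 9) (v11 := v 11) (h.mem 1) (h.mem 2) (h.mem 4) (h.mem 6) (h.mem 7)
    (by linarith) (by linarith) (by linarith) (by linarith) (by linarith) (by linarith)
    (by convert hcard using 2; ring)
  simp only [List.cons.injEq, and_true] at key
  obtain ⟨k1, k2, k4, k5, k6, k7, k8, k9, k11⟩ := key
  funext i
  fin_cases i <;> simp [h0, k1, k2, k4, k5, k6, k7, k8, k9, k11, ← b1, ← a1]

/-- Piece E. -/
theorem invol : InvolStmt.{u} := by
  intro G _ _ hs hG h11 h7 h5 Ch
  classical
  haveI := hs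
  haveI := Fintype.ofFinite G
  haveI := irrFintype G
  have col : ∀ t : G, orderOf t = 2 →
      ∃ v, InvolFacts specMain Ch t v ∧ v = ![1, 5, -3, -3, 7, 3, 10, 2, 7, -8, -8, 1] := by
    intro t ht
    obtain ⟨v, hv⟩ := exists_involFacts (by decide) hG h11 h7 h5 Ch ht
    exact ⟨v, hv, hv.main⟩
  constructor
  · intro t ht
    obtain ⟨v, hv, rfl⟩ := col t ht
    have h := hv.norm
    simp [Fin.sum_univ_succ] at h
    rw [Fintype.card_eq_nat_card] at h
    omega
  · intro t s ht hs'
    obtain ⟨v, hv, rfl⟩ := col t ht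
    obtain ⟨w, hw, rfl⟩ := col s hs'
    by_contra hne
    have h := second_orthogonality (G := G) t s
    rw [if_neg (fun hc => hne hc.symm), ← Equiv.sum_comp Ch.c] at h
    simp only [← hv.val, ← hw.val, map_intCast] at h
    simp [Fin.sum_univ_succ] at h
    norm_num at h

end CfsgLib.M22Order
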