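import Mathlib

/-!
# Simple groups of order 443520: the searches for the column at an involution

For the degrees of the Mathieu group the values at the block pair are enumerated first, as the relation
saying that no involution inverts an element of order seven involves only these.
-/

set_option autoImplicit false

namespace CfsgLib.M22Order.InvolArith

/-- The small values congruent to `d` modulo four. -/
def cand (d : ℕ) : List ℤ := (List.range 19).map fun k : ℕ => ((d % 4 : ℕ) : ℤ) + 4 * (k : ℤ) - 36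

theorem mem_cand {d : ℕ} {v : ℤ} (h4 : (4 : ℤ) ∣ (d : ℤ) - v) (hv : v * v ≤ 1152) :
    v ∈ cand d := by
  have h1 : -33 ≤ v ∧ v ≤ 33 := by constructor <;> nlinarith
  obtain ⟨q, hq⟩ := h4
  refine List.mem_map.2 ⟨((v + 36 - ((d % 4 : ℕ) : ℤ)) / 4).toNat, List.mem_range.2 ?_, ?_⟩
  · omega
  · omega

/-- The search for the degrees of the Mathieu group. -/
def checkMain : Bool :=
  (cand 45).all fun v2 => (cand 55).all fun v4 =>
    let v5 := v2 + v4 - 1
    !decide (27720 - 616 * (v2 * v2) - 504 * (v4 * v4) + 280 * (v5 * v5) = 0) ||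
      (cand 21).all fun v1 => (cand 210).all fun v7 =>
        let v9 := 1 - v1 + 2 * v2 + v7
        !decide (27720 - 1320 * (v1 * v1) + 1232 * (v2 * v2) + 132 * (v7 * v7) - 99 * (v9 * v9) = 0)
          || (cand 154).all fun v6 =>
            let v8 := v5 + v6 - 1 - v1
            let r := 1 + 21 * v1 + 90 * v2 + 55 * v4 + 99 * v5 + 154 * v6 + 210 * v7 + 231 * v8 +
              560 * v9
            !decide (r % 385 = 0) ||
              let v11 := -r / 385
              !decide (1152 % (1 + v1 * v1 + 2 * (v2 * v2) + v4 * v4 + v5 * v5 + v6 * v6 + v7 * v7 +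
                  v8 * v8 + 2 * (v9 * v9) + v11 * v11) = 0) ||
                decide ([v1, v2, v4, v5, v6, v7, v8, v9, v11] = [5, -3, 7, 3, 10, 2, 7, -8, 1])

set_option maxRecDepth 100000 in
theorem checkMain_ok : checkMain = true := by decide +kernel

theorem main_column {v1 v2 v4 v5 v6 v7 v8 v9 v11 : ℤ} (m1 : v1 ∈ cand 21) (m2 : v2 ∈ cand 45)
    (m4 : v4 ∈ cand 55) (m6 : v6 ∈ cand 154) (m7 : v7 ∈ cand 210)
    (e5 : v5 = v2 + v4 - 1) (e9 : v9 = 1 - v1 + 2 * v2 + v7) (e8 : v8 = v5 + v6 - 1 - v1)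
    (a7 : 27720 - 616 * (v2 * v2) - 504 * (v4 * v4) + 280 * (v5 * v5) = 0)
    (a11 : 27720 - 1320 * (v1 * v1) + 1232 * (v2 * v2) + 132 * (v7 * v7) - 99 * (v9 * v9) = 0)
    (hdeg : 1 + 21 * v1 + 90 * v2 + 55 * v4 + 99 * v5 + 154 * v6 + 210 * v7 + 231 * v8 +
      560 * v9 + 385 * v11 = 0)
    (hC : (1152 : ℤ) % (1 + v1 * v1 + 2 * (v2 * v2) + v4 * v4 + v5 * v5 + v6 * v6 + v7 * v7 +
      v8 * v8 + 2 * (v9 * v9) + v11 * v11) = 0) :
    [v1, v2, v4, v5, v6, v7, v8, v9, v11] = [5, -3, 7, 3, 10, 2, 7, -8, 1] := by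
  subst e5 e9 e8
  have h := checkMain_ok
  simp only [checkMain, List.all_eq_true] at h
  have h := h _ m2 _ m4
  simp only [a7, decide_true, Bool.not_true, Bool.false_or, List.all_eq_true] at h
  have h := h _ m1 _ m7
  simp only [a11, decide_true, Bool.not_true, Bool.false_or, List.all_eq_true] at h
  have h := h _ m6
  have hr : (1 + 21 * v1 + 90 * v2 + 55 * v4 + 99 * (v2 + v4 - 1) + 154 * v6 + 210 * v7 +
      231 * (v2 + v4 - 1 + v6 - 1 - v1) + 560 * (1 - v1 + 2 * v2 + v7)) % 385 = 0 := by omega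
  have hv : -(1 + 21 * v1 + 90 * v2 + 55 * v4 + 99 * (v2 + v4 - 1) + 154 * v6 + 210 * v7 +
      231 * (v2 + v4 - 1 + v6 - 1 - v1) + 560 * (1 - v1 + 2 * v2 + v7)) / 385 = v11 := by omega
  simp only [hr, hv, hC, decide_true, Bool.not_true, Bool.false_or, decide_eq_true_eq] at h
  exact h

end CfsgLib.M22Order.InvolArith
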