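import Cfsg.Agent.Lib.M22Order.Interface
import Cfsg.Agent.Lib.M22Order.InvolArith
import Cfsg.Agent.Lib.CharApps.PrimeClassBound

/-!
# Simple groups of order 443520: the facts about a column at an involution

The values follow the block relations, the sums of orthogonality, the congruence modulo four and
the relations saying that no involution inverts an element of order eleven or seven.
-/

set_option autoImplicit false
set_option linter.style.haveILetI false
set_option linter.unusedSectionVars false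

namespace CfsgLib.M22Order

open Cfsg CfsgLib.Chars CfsgLib.CharApps CfsgLib.Small

universe u

variable {G : Type u} [Group G] [Finite G]

namespace InvolCol

/-- An element of odd order `p` with normalizer of odd order is inverted by no involution. -/
theorem not_inverted {p n : ℕ} [Fact p.Prime] (hG : (Nat.card G).factorization p = 1)
    (hn : Odd n) (h : Local G p n) {x u : G} (hx : orderOf x = p) (hu : u * u = 1)
    (hux : u * x * u⁻¹ = x⁻¹) : u = 1 := by
  let P : Sylow p G := Sylow.ofCard (Subgroup.zpowers x) (by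
    rw [Nat.card_zpowers, hx, hG, pow_one])
  have hN := h.norm P
  have hPz : (P : Subgroup G) = Subgroup.zpowers x := Sylow.coe_ofCard _ _
  rw [hPz] at hN
  have hmap : ∀ y ∈ Subgroup.zpowers x, u * y * u⁻¹ ∈ Subgroup.zpowers x := fun y hy => by
    obtain ⟨k, rfl⟩ := Subgroup.mem_zpowers_iff.1 hy
    rw [← conj_zpow, hux]
    exact Subgroup.zpow_mem _ (Subgroup.inv_mem _ (Subgroup.mem_zpowers x)) k
  have hmem : u ∈ Subgroup.normalizer ((Subgroup.zpowers x : Subgroup G) : Set G) := by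
    rw [Subgroup.mem_normalizer_iff]
    refine fun y => ⟨hmap y, fun hy => ?_⟩
    have h := hmap _ hy
    rw [inv_eq_of_mul_eq_one_left hu] at h
    simpa [mul_assoc, hu, ← mul_assoc u u] using h
  have h1 := Subgroup.orderOf_dvd_natCard _ hmem
  rw [hN] at h1
  have h2 : orderOf u ∣ 2 := orderOf_dvd_of_pow_eq_one (by rw [sq, hu])
  exact orderOf_eq_one_iff.1
    (Nat.eq_one_of_dvd_coprimes (Nat.coprime_two_right.2 hn) h1 h2)

/-- The number of pairs with a given product of conjugates is divisible by the square of the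
order of the centralizer. -/
theorem sq_card_cen_dvd (t w : G) :
    Nat.card (cen t) * Nat.card (cen t) ∣
      Nat.card {ab : G × G // (ab.1 * t * ab.1⁻¹) * (ab.2 * t * ab.2⁻¹) = w} := by
  classical
  set H : Subgroup (G × G) := (cen t).prod (cen t) with hH
  set X : Set (G × G) := {ab | (ab.1 * t * ab.1⁻¹) * (ab.2 * t * ab.2⁻¹) = w} with hX
  have hfix : ∀ k : G, k ∈ cen t → k * t * k⁻¹ = t := fun k hk => by
    rw [Subgroup.mem_centralizer_singleton_iff.1 hk, mul_inv_cancel_right]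
  have hinv : (QuotientGroup.mk : G × G → (G × G) ⧸ H) ⁻¹' (QuotientGroup.mk '' X) = X := by
    refine Set.Subset.antisymm ?_ (Set.subset_preimage_image _ _)
    rintro ⟨a, b⟩ ⟨⟨a', b'⟩, hab', he⟩
    rw [QuotientGroup.eq, hH, Subgroup.mem_prod] at he
    simp only [Prod.fst_mul, Prod.fst_inv, Prod.snd_mul, Prod.snd_inv] at he
    have key : ∀ c c' : G, c'⁻¹ * c ∈ cen t → c * t * c⁻¹ = c' * t * c'⁻¹ := fun c c' hc => by
      have := hfix _ hc
      calc c * t * c⁻¹ = c' * (c'⁻¹ * c * t * (c'⁻¹ * c)⁻¹) * c'⁻¹ := by group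
        _ = c' * t * c'⁻¹ := by rw [this]
    show (a * t * a⁻¹) * (b * t * b⁻¹) = w
    rw [key a a' he.1, key b b' he.2]
    exact hab'
  have h := Nat.card_congr (QuotientGroup.preimageMkEquivSubgroupProdSet H (QuotientGroup.mk '' X))
  rw [hinv, Nat.card_prod, hH, Nat.card_congr (Subgroup.prodEquiv _ _).toEquiv, Nat.card_prod] at h
  exact Dvd.intro _ h.symm

end InvolCol

open InvolCol

/-- The simple facts about the specifications used below. -/
def Spec.Fine (S : Spec) : Prop :=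
  (∀ i, S.deg i ∣ 27720) ∧
    (S.pair11.1 ≠ S.pair11.2 ∧ S.deg S.pair11.1 = S.deg S.pair11.2 ∧ S.r11 S.pair11.1 = -1 ∧
      S.r11 S.pair11.2 = 0) ∧
    (S.pair7.1 ≠ S.pair7.2 ∧ S.deg S.pair7.1 = S.deg S.pair7.2 ∧ S.r7 S.pair7.1 = -1 ∧
      S.r7 S.pair7.2 = 0)

instance (S : Spec) : Decidable S.Fine := by unfold Spec.Fine; infer_instance

/-- What is known about the values at an involution `t`. -/
structure InvolFacts (S : Spec) (Ch : Chars G S) (t : G) (v : Fin 12 → ℤ) : Prop where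
  val : ∀ i, (v i : ℂ) = (Ch.c i : G → ℂ) t
  zero : v 0 = 1
  four : ∀ i, (4 : ℤ) ∣ (S.deg i : ℤ) - v i
  norm : ∑ i, v i * v i = (Nat.card (cen t) : ℤ)
  card : Nat.card (cen t) ∣ 1152
  degree : ∑ i, (S.deg i : ℤ) * v i = 0
  eleven : v S.pair11.1 = v S.pair11.2 ∧ ∑ i, S.r11 i * v i = 0
  seven : v S.pair7.1 = v S.pair7.2 ∧ ∑ i, S.r7 i * v i = 0
  five : ∑ i, S.r5 i * v i = 0
  quad_eleven : ∑ i, S.r11 i * (v i * v i) * ((27720 / S.deg i : ℕ) : ℤ) = 0
  quad_seven : ∑ i, S.r7 i * (v i * v i) * ((27720 / S.deg i : ℕ) : ℤ) = 0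
  quad_five : ((Nat.card (cen t) : ℤ) * (Nat.card (cen t) : ℤ)) ∣
    16 * ∑ i, S.r5 i * (v i * v i) * ((27720 / S.deg i : ℕ) : ℤ)

namespace InvolCol

variable {S : Spec} (Ch : Chars G S) (hS : S.Fine) (hG : Nat.card G = 443520)

include hS hG

/-- The number of pairs of conjugates of `t` with product `x⁻¹`, in terms of the column. -/
theorem count_eq {t x : G} (v : Fin 12 → ℤ) (hv : ∀ i, (v i : ℂ) = (Ch.c i : G → ℂ) t)
    (p : Fin 12 × Fin 12) (r : Fin 12 → ℤ)
    (hp : p.1 = p.2 ∧ (∀ i, (Ch.c i : G → ℂ) x = (r i : ℂ)) ∨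
      (p.1 ≠ p.2 ∧ S.deg p.1 = S.deg p.2 ∧ r p.1 = -1 ∧ r p.2 = 0 ∧ v p.1 = v p.2 ∧
        (∀ i, i ≠ p.1 → i ≠ p.2 → (Ch.c i : G → ℂ) x = (r i : ℂ)) ∧
        (Ch.c p.1 : G → ℂ) x + (Ch.c p.2 : G → ℂ) x = -1)) :
    ((Nat.card {ab : G × G // (ab.1 * t * ab.1⁻¹) * (ab.2 * t * ab.2⁻¹) = x⁻¹} : ℕ) : ℤ) =
      16 * ∑ i, r i * (v i * v i) * ((27720 / S.deg i : ℕ) : ℤ) := by
  classical
  haveI := Fintype.ofFinite G
  haveI := irrFintype G
  have h := card_conj_mul_conj t t x⁻¹
  rw [inv_inv, hG, ← Equiv.sum_comp Ch.c] at h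
  have hterm : ∀ i, (443520 : ℕ) * ((Ch.c i : G → ℂ) t * (Ch.c i : G → ℂ) t *
      (Ch.c i : G → ℂ) x / (Ch.c i : G → ℂ) 1) =
      16 * ((v i : ℂ) * (v i : ℂ) * ((27720 / S.deg i : ℕ) : ℂ)) * (Ch.c i : G → ℂ) x := fun i => by
    have h0 : (S.deg i : ℂ) ≠ 0 :=
      Nat.cast_ne_zero.2 (Ch.deg i ▸ (CfsgLib.Blocks.charDegree_pos (Ch.c i)).ne')
    rw [← hv i, deg_eq, Ch.deg, Nat.cast_div (hS.1 i) h0]
    push_cast
    field_simp
    ring
  rw [Finset.mul_sum, Finset.sum_congr rfl fun i _ => hterm i] at h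
  have hsum : ∑ i, 16 * ((v i : ℂ) * (v i : ℂ) * ((27720 / S.deg i : ℕ) : ℂ)) *
      (Ch.c i : G → ℂ) x =
      ((16 * ∑ i, r i * (v i * v i) * ((27720 / S.deg i : ℕ) : ℤ) : ℤ) : ℂ) := by
    rw [Finset.mul_sum, Int.cast_sum, ← sub_eq_zero, ← Finset.sum_sub_distrib]
    rcases hp with ⟨-, hall⟩ | ⟨hne, hd, h1, h2, hvv, hout, hpair⟩
    · refine Finset.sum_eq_zero fun i _ => ?_
      rw [hall i]; simp only [Int.cast_mul, Int.cast_ofNat, Int.cast_natCast]; ring
    · rw [← Finset.sum_subset (s₁ := {p.1, p.2}) (Finset.subset_univ _) fun i _ hi => by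
        simp only [Finset.mem_insert, Finset.mem_singleton, not_or] at hi
        rw [hout i hi.1 hi.2]; simp only [Int.cast_mul, Int.cast_ofNat, Int.cast_natCast]; ring,
        Finset.sum_pair hne, h1, h2, hvv, hd]
      simp only [Int.cast_mul, Int.cast_ofNat, Int.cast_natCast, Int.cast_neg, Int.cast_one,
        Int.cast_zero]
      linear_combination
        (16 * ((v p.2 : ℂ) * (v p.2 : ℂ) * ((27720 / S.deg p.2 : ℕ) : ℂ))) * hpair
  rw [hsum] at h
  exact_mod_cast h

end InvolCol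

/-- The facts at an involution. -/
theorem exists_involFacts {S : Spec} (hS : S.Fine) [IsSimpleGroup G]
    (hG : Nat.card G = 443520) (h11 : LocalEleven G) (h7 : LocalSeven G) (h5 : LocalFive G)
    (Ch : Chars G S) {t : G} (ht : orderOf t = 2) : ∃ v, InvolFacts S Ch t v := by
  classical
  haveI := Fintype.ofFinite G
  haveI := irrFintype G
  have htt : t * t = 1 := by rw [← sq, ← ht, pow_orderOf_eq_one]
  have ht1 : t ≠ 1 := fun h => by rw [h, orderOf_one] at ht; omega
  choose v hv using fun i => exists_int_apply_involution htt (Ch.c i)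
  have hnab : ¬ IsMulCommutative G := not_isMulCommutative_of_card (by rw [hG]; norm_num)
  have hfac : ∀ p, p = 11 ∨ p = 7 ∨ p = 5 → (Nat.card G).factorization p = 1 := fun p hp => by
    rw [hG]
    have h2 : ∀ q, q.Prime → q ∣ 443520 → ¬ q ^ 2 ∣ 443520 →
        (443520 : ℕ).factorization q = 1 := fun q hq hd hsq => by
      have h1 := (hq.dvd_iff_one_le_factorization (by norm_num)).1 hd
      have h3 : ¬ 2 ≤ (443520 : ℕ).factorization q := fun h =>
        hsq ((hq.pow_dvd_iff_le_factorization (by norm_num)).2 h)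
      omega
    rcases hp with rfl | rfl | rfl <;> exact h2 _ (by norm_num) (by norm_num) (by norm_num)
  have hex : ∀ p, p = 11 ∨ p = 7 ∨ p = 5 → p.Prime ∧ ∃ x : G, orderOf x = p := fun p hp => by
    have hpp : p.Prime := by rcases hp with rfl | rfl | rfl <;> norm_num
    haveI := Fact.mk hpp
    exact ⟨hpp, exists_prime_orderOf_dvd_card' (G := G) p
      (by rw [hG]; rcases hp with rfl | rfl | rfl <;> norm_num)⟩
  have hnd : ∀ p, p = 11 ∨ p = 7 ∨ p = 5 → ¬ p ∣ orderOf t := fun p hp => by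
    rw [ht]; rcases hp with rfl | rfl | rfl <;> norm_num
  obtain ⟨h11e, h11r⟩ := Ch.rel_eleven t (hnd 11 (Or.inl rfl))
  obtain ⟨h7e, h7r⟩ := Ch.rel_seven t (hnd 7 (Or.inr (Or.inl rfl)))
  have h5r := Ch.rel_five t (hnd 5 (Or.inr (Or.inr rfl)))
  simp only [← hv] at h11e h11r h7e h7r h5r
  have e11 : v S.pair11.1 = v S.pair11.2 := by exact_mod_cast h11e
  have e7 : v S.pair7.1 = v S.pair7.2 := by exact_mod_cast h7e
  -- the order of the centralizer
  have hcard : Nat.card (cen t) ∣ 1152 := by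
    have hdvd := hG ▸ Subgroup.card_subgroup_dvd_card (cen t)
    have hco : ∀ p, p = 11 ∨ p = 7 ∨ p = 5 → (Nat.card (cen t)).Coprime p := fun p hp => by
      obtain ⟨hpp, -⟩ := hex p hp
      haveI := Fact.mk hpp
      refine ((hpp.coprime_iff_not_dvd).2 fun h => ?_).symm
      obtain ⟨⟨x, hxC⟩, hxo⟩ := exists_prime_orderOf_dvd_card' (G := cen t) p h
      rw [Subgroup.orderOf_mk] at hxo
      have htC : t ∈ cen x :=
        Subgroup.mem_centralizer_singleton_iff.2 (Subgroup.mem_centralizer_singleton_iff.1 hxC).symm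
      have h1 := Subgroup.orderOf_dvd_natCard _ htC
      rw [ht] at h1
      rcases hp with rfl | rfl | rfl
      · rw [h11.cent x hxo] at h1; norm_num at h1
      · rw [h7.cent x hxo] at h1; norm_num at h1
      · rw [h5.cent x hxo] at h1; norm_num at h1
    have h385 : (Nat.card (cen t)).Coprime 385 := by
      rw [show (385 : ℕ) = 5 * 7 * 11 by norm_num]
      exact ((hco 5 (Or.inr (Or.inr rfl))).mul_right (hco 7 (Or.inr (Or.inl rfl)))).mul_right
        (hco 11 (Or.inl rfl))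
    exact h385.dvd_of_dvd_mul_left (show _ ∣ 385 * 1152 from hdvd)
  -- no involution inverts an element of order eleven or seven
  have hzero : ∀ p n, p = 11 ∨ p = 7 → Odd n → Local G p n → ∀ x : G, orderOf x = p →
      Nat.card {ab : G × G // (ab.1 * t * ab.1⁻¹) * (ab.2 * t * ab.2⁻¹) = x⁻¹} = 0 := by
    intro p n hp hn hloc x hx
    have hp' : p = 11 ∨ p = 7 ∨ p = 5 := hp.imp id Or.inl
    haveI := Fact.mk (hex p hp').1
    refine @Nat.card_of_isEmpty _ ⟨fun ⟨⟨a, b⟩, hab⟩ => ?_⟩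
    have h1 : (a * t * a⁻¹) * (a * t * a⁻¹) = 1 := by
      rw [← sq, conj_pow, sq, htt, mul_one, mul_inv_cancel]
    have h2 : (b * t * b⁻¹) * (b * t * b⁻¹) = 1 := by
      rw [← sq, conj_pow, sq, htt, mul_one, mul_inv_cancel]
    have hu := not_inverted (hfac p hp') hn hloc (x := x⁻¹) (u := a * t * a⁻¹)
      (by rw [orderOf_inv, hx]) h1 ?_
    · exact ht1 (conj_eq_one_iff.1 hu)
    · simp only at hab
      generalize a * t * a⁻¹ = u at hab h1 ⊢
      generalize b * t * b⁻¹ = u' at hab h2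
      rw [← hab, mul_inv_rev u u', inv_eq_of_mul_eq_one_left h2, inv_eq_of_mul_eq_one_left h1,
        ← mul_assoc, h1, one_mul]
  refine ⟨v, hv, ?_, fun i => ?_, ?_, hcard, ?_, ⟨e11, by exact_mod_cast h11r⟩,
    ⟨e7, by exact_mod_cast h7r⟩, by exact_mod_cast h5r, ?_, ?_, ?_⟩
  · have h := hv 0
    rw [Ch.principal, principal_apply] at h
    exact_mod_cast h
  · have := four_dvd_degree_sub (commutator_eq_top hnab) (Ch.c i) htt (hv i)
    rwa [Ch.deg] at this
  · have h := second_orthogonality (G := G) t t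
    rw [if_pos (IsConj.refl t), ← Equiv.sum_comp Ch.c] at h
    simp only [← hv, map_intCast] at h
    exact_mod_cast h
  · have h := sum_degree_mul (G := G) t
    rw [if_neg ht1, ← Equiv.sum_comp Ch.c] at h
    simp only [deg_eq, Ch.deg, ← hv] at h
    exact_mod_cast h
  · obtain ⟨x, hx⟩ := (hex 11 (Or.inl rfl)).2
    obtain ⟨ha, hb⟩ := Ch.at_eleven x hx
    obtain ⟨n1, n2, n3, n4⟩ := hS.2.1
    have h := count_eq Ch hS hG v hv S.pair11 S.r11 (x := x)
      (Or.inr ⟨n1, n2, n3, n4, e11, ha, hb⟩)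
    rw [hzero 11 55 (Or.inl rfl) (by decide) h11 x hx] at h
    rw [Nat.cast_zero] at h
    omega
  · obtain ⟨x, hx⟩ := (hex 7 (Or.inr (Or.inl rfl))).2
    obtain ⟨ha, hb⟩ := Ch.at_seven x hx
    obtain ⟨n1, n2, n3, n4⟩ := hS.2.2
    have h := count_eq Ch hS hG v hv S.pair7 S.r7 (x := x)
      (Or.inr ⟨n1, n2, n3, n4, e7, ha, hb⟩)
    rw [hzero 7 21 (Or.inr rfl) (by decide) h7 x hx] at h
    rw [Nat.cast_zero] at h
    omega
  · obtain ⟨x, hx⟩ := (hex 5 (Or.inr (Or.inr rfl))).2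
    have h := count_eq Ch hS hG v hv (0, 0) S.r5 (x := x) (Or.inl ⟨rfl, Ch.at_five x hx⟩)
    rw [← h]
    exact_mod_cast sq_card_cen_dvd t x⁻¹

end CfsgLib.M22Order
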