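import Cfsg.Agent.Lib.M22Order.Interface

/-!
# Simple groups of order 443520: principal blocks at five and seven prime to both

The degrees available to a principal block at seven prime to five are the multiples of eleven and
those of the block at eleven.  Without a six only one shape is left, with two characters of degree
thirty-two; then the block at five has no shape at all.
-/

set_option autoImplicit false

namespace CfsgLib.M22Order.NoThirtyFive

/-- The degrees in the tables at eleven. -/
def tableDegs : List ℕ :=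
  [5, 6, 10, 12, 16, 21, 32, 45, 56, 60, 72, 105, 120, 126, 144, 160, 192, 210, 252, 280, 320, 336,
    384]

/-- The degrees available at seven. -/
def pool7 : List ℕ :=
  [6, 11, 12, 16, 22, 32, 33, 44, 66, 72, 88, 99, 132, 144, 176, 192, 198, 264, 352, 384, 396, 528]

/-- The signed ones at seven, without six. -/
def signed7 : List ℕ := [22, 99, 132, 176, 384]

/-- The degrees available at five. -/
def pool5 : List ℕ := [11, 22, 32, 33, 44, 66, 88, 99, 132, 176, 198, 264, 352, 396, 528]

/-- The signed ones at five. -/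
def signed5 : List ℕ := [11, 44, 66, 99, 176, 264, 396]

/-- The signed sum of the principal character and a list of degrees. -/
def total (p : ℕ) (l : List ℕ) : ℤ :=
  1 + (l.map fun d : ℕ => if d % p = 1 then (d : ℤ) else -(d : ℤ)).sum

/-- All lists of a given length. -/
def tuples (X : List ℕ) : ℕ → List (List ℕ)
  | 0 => [[]]
  | n + 1 => X.flatMap fun d => (tuples X n).map fun l => d :: l

theorem mem_tuples {X : List ℕ} : ∀ (l : List ℕ), (∀ d ∈ l, d ∈ X) → l ∈ tuples X l.length
  | [], _ => List.mem_singleton.2 rfl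
  | d :: l, h => List.mem_flatMap.2 ⟨d, h d List.mem_cons_self,
      List.mem_map.2 ⟨l, mem_tuples l fun x hx => h x (List.mem_cons_of_mem _ hx), rfl⟩⟩

set_option maxRecDepth 100000 in
set_option synthInstance.maxSize 4096 in
theorem mem_pool7 : ∀ d < (666 : ℕ), d ∣ 443520 → ¬ 5 ∣ d → ¬ 7 ∣ d → (11 ∣ d ∨ d ∈ tableDegs) →
    d ∈ pool7 := by
  decide +kernel

set_option maxRecDepth 100000 in
theorem mem_signed7 : ∀ d ∈ pool7, (d % 7 = 1 ∨ d % 7 = 6) → d ≠ 6 → d ∈ signed7 := by
  decide +kernel

set_option maxRecDepth 100000 in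
set_option synthInstance.maxSize 4096 in
theorem mem_pool5 : ∀ d < (666 : ℕ), d ∣ 443520 → ¬ 7 ∣ d → ¬ 5 ∣ d → (11 ∣ d ∨ d = 32) →
    d ∈ pool5 := by
  decide +kernel

set_option maxRecDepth 100000 in
theorem mem_signed5 : ∀ d ∈ pool5, (d % 5 = 1 ∨ d % 5 = 4) → d ∈ signed5 := by
  decide +kernel

theorem mem_tableDegs : ∀ l ∈ tables, l.2 ∈ tableDegs ∧ ∀ i, l.1 i ∈ tableDegs := by
  decide +kernel

/-- A table with two entries equal to thirty-two. -/
theorem table_thirtytwo : ∀ l ∈ tables, l.2 ≠ 32 ∧ ∀ i j, i ≠ j → l.1 i = 32 → l.1 j = 32 →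
    (5 ∣ l.2 ∨ 7 ∣ l.2) ∧ ∀ k, 5 ∣ l.1 k ∨ 7 ∣ l.1 k ∨ l.1 k = 32 := by
  decide +kernel

set_option maxRecDepth 100000 in
theorem seven_shapes :
    (∀ l ∈ tuples signed7 1, (total 7 l).natAbs ∉ pool7) ∧
    (∀ l ∈ tuples signed7 2, (total 7 l).natAbs ∈ pool7 → (total 7 l).natAbs = 32) ∧
    (∀ l ∈ tuples signed7 5, (total 7 l).natAbs ∉ pool7) := by
  decide +kernel

set_option maxRecDepth 100000 in
theorem five_shapes :
    (∀ l ∈ tuples signed5 1, (total 5 l).natAbs ∉ pool5) ∧
    (∀ l ∈ tuples signed5 3, (total 5 l).natAbs ∉ pool5) := by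
  decide +kernel

end CfsgLib.M22Order.NoThirtyFive
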