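import Cfsg.Agent.Lib.M22Order.SevenDefs
import Cfsg.Agent.Lib.M22Order.NoThirtyFiveArith
import Cfsg.Agent.Lib.M22Order.BlockTable

/-!
# Simple groups of order 443520: no element of order thirty-five

At such an element no character of the principal block at seven or at five vanishes, so the degrees
of each block are prime to both.  A character of degree six in the block at seven would have the
element of order five in its kernel.
-/

set_option autoImplicit false
set_option linter.style.haveILetI false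
set_option linter.unusedSectionVars false

open Cfsg CfsgLib.Chars CfsgLib.CharApps CfsgLib.Blocks CfsgLib.Small

namespace CfsgLib.M22Order.NoThirtyFive

universe u

variable {G : Type u} [Group G] [Finite G]

/-- An element acts trivially when it commutes with a group of order `p` having value `-1` away from
one in a character of degree `p - 1`. -/
theorem apply_eq_degree {p : ℕ} (hp : 1 < p) (P : Subgroup G) (hP : Nat.card P = p)
    (χ : IrrCharacter G) (hd : charDegree (χ : G → ℂ) + 1 = p) {y : G}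
    (hv1 : ∀ h ∈ P, h ≠ 1 → (χ : G → ℂ) h = -1)
    (hvy : ∀ h ∈ P, h ≠ 1 → (χ : G → ℂ) (h * y) = -1) :
    (χ : G → ℂ) y = (charDegree (χ : G → ℂ) : ℂ) := by
  classical
  haveI := Fintype.ofFinite P
  obtain ⟨n, ρ, -, hρχ⟩ := χ.2
  have hsum : ∀ F : P → ℂ, (∀ h : P, h ≠ 1 → F h = -1) →
      ∑ h, F h = F 1 - (charDegree (χ : G → ℂ) : ℂ) := fun F hF => by
    rw [← Finset.add_sum_erase _ _ (Finset.mem_univ (1 : P)),
      Finset.sum_congr rfl (fun h hh => hF h (Finset.ne_of_mem_erase hh)), Finset.sum_const,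
      Finset.card_erase_of_mem (Finset.mem_univ _), Finset.card_univ, ← Nat.card_eq_fintype_card,
      hP, ← hd]
    simp
    ring
  let σ : Representation ℂ P (Fin n → ℂ) := ρ.comp P.subtype
  haveI : Invertible (Nat.card P : ℂ) :=
    invertibleOfNonzero (Nat.cast_ne_zero.2 (by rw [hP]; omega))
  have hzero : ∑ h : P, (χ : G → ℂ) h = 0 := by
    rw [hsum (fun h => (χ : G → ℂ) h) fun h hh => hv1 h h.2 fun e => hh (Subtype.ext e),
      OneMemClass.coe_one, deg_eq, sub_self]
  have hfin := Representation.card_inv_mul_sum_char_eq_finrank (ρ := σ)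
  have hchar : ∀ h : P, σ.character h = (χ : G → ℂ) h := fun h => by rw [← hρχ]; rfl
  simp only [hchar, hzero, mul_zero] at hfin
  have hbot : Representation.invariants σ = ⊥ :=
    Submodule.finrank_eq_zero.1 (by exact_mod_cast hfin.symm)
  have hS : ∑ h : P, σ h = 0 := by
    refine LinearMap.ext fun v => ?_
    have hmem : (∑ h : P, σ h) v ∈ Representation.invariants σ := fun g => by
      rw [LinearMap.sum_apply, map_sum]
      refine Fintype.sum_equiv (Equiv.mulLeft g) _ _ fun h => ?_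
      rw [Equiv.coe_mulLeft, map_mul, Module.End.mul_apply]
    rw [hbot, Submodule.mem_bot] at hmem
    rw [hmem, LinearMap.zero_apply]
  have htr : ∑ h : P, (χ : G → ℂ) ((h : G) * y) = 0 := by
    have h0 := congrArg (fun f => LinearMap.trace ℂ (Fin n → ℂ) (f * ρ y)) hS
    simp only [zero_mul, map_zero, Finset.sum_mul, map_sum] at h0
    refine Eq.trans (Finset.sum_congr rfl fun h _ => ?_) h0
    rw [← hρχ]
    show LinearMap.trace ℂ (Fin n → ℂ) (ρ ((h : G) * y)) = _
    rw [map_mul]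
    rfl
  rw [hsum (fun h => (χ : G → ℂ) ((h : G) * y)) fun h hh =>
    hvy h h.2 fun e => hh (Subtype.ext e), OneMemClass.coe_one, one_mul, sub_eq_zero] at htr
  exact htr

/-- A Sylow subgroup generated by an element of prime order. -/
theorem exists_sylow_zpowers (hG : Nat.card G = 443520) {p m : ℕ} [Fact p.Prime]
    (hm : 443520 = p * m) (hpm : ¬ p ∣ m) {x : G} (hx : orderOf x = p) :
    ∃ P : Sylow p G, Nat.card (P : Subgroup G) = p ∧ (P : Subgroup G) = Subgroup.zpowers x := by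
  obtain ⟨P, hP⟩ := (IsPGroup.of_card (p := p) (n := 1)
    (show Nat.card (Subgroup.zpowers x) = p ^ 1 by
      rw [Nat.card_zpowers, hx, pow_one])).exists_le_sylow
  have hPc : Nat.card (P : Subgroup G) = p := by
    simpa using card_sylow_eq (p := p) 1 m (by rw [hG, pow_one, hm]) hpm P
  exact ⟨P, hPc, (Subgroup.eq_of_le_of_card_ge hP (by rw [hPc, Nat.card_zpowers, hx])).symm⟩

/-- What is known of a character in the principal block at `p`, with an element of order `35`. -/
structure InBlock (p q : ℕ) (χ : IrrCharacter G) : Prop where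
  ne_principal : χ ≠ principal G
  not_dvd : ¬ p ∣ charDegree (χ : G → ℂ)
  not_dvd' : ¬ q ∣ charDegree (χ : G → ℂ)

/-- What is known of a non-exceptional one. -/
structure Signed (p q : ℕ) (g : G) (χ : IrrCharacter G) : Prop extends InBlock p q χ where
  mod : charDegree (χ : G → ℂ) % p = 1 ∨ charDegree (χ : G → ℂ) % p = p - 1
  six : charDegree (χ : G → ℂ) + 1 ≠ p

/-- The shape of a principal block. -/
theorem block_shape [IsSimpleGroup G] (hG : Nat.card G = 443520) {p q m m' : ℕ} [Fact p.Prime]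
    [Fact q.Prime] (hp5 : 5 ≤ p) (hm : 443520 = p * m) (hpm : ¬ p ∣ m) (hm' : 443520 = q * m')
    (hqm : ¬ q ∣ m') (hpq : p ≠ q) {g : G} (hg : orderOf g = p * q) :
    ∃ (e : ℕ) (l : List ℕ) (θs : Finset (IrrCharacter G)), 1 < e ∧ e ∣ p - 1 ∧
      l.length = e - 1 ∧ θs.card = (p - 1) / e ∧
      (∀ d ∈ l, ∃ χ, Signed p q g χ ∧ charDegree (χ : G → ℂ) = d) ∧
      ∀ θ ∈ θs, InBlock p q θ ∧ charDegree (θ : G → ℂ) = (total p l).natAbs := by
  classical
  haveI := Fintype.ofFinite G
  have hq0 : q ≠ 0 := (Fact.out : q.Prime).ne_zero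
  have hxo : orderOf (g ^ q) = p := by
    rw [orderOf_pow' g hq0, hg, Nat.gcd_eq_right (dvd_mul_left q p),
      Nat.mul_div_cancel _ (Nat.pos_of_ne_zero hq0)]
  have hyo : orderOf (g ^ p) = q := by
    have hp0 : p ≠ 0 := by omega
    rw [orderOf_pow' g hp0, hg, Nat.gcd_eq_right (dvd_mul_right p q),
      Nat.mul_div_cancel_left _ (Nat.pos_of_ne_zero hp0)]
  obtain ⟨P, hP, hPz⟩ := exists_sylow_zpowers hG hm hpm hxo
  have hnab := BlockTable.nonabelian hG
  obtain ⟨e, he1, hed, hce⟩ := exists_normalizer_centralizer hnab P hP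
  set C := Subgroup.centralizer ((P : Subgroup G) : Set G) with hC
  set N := Subgroup.normalizer ((P : Subgroup G) : Set G) with hN
  have hrel : C.relIndex N = e := by
    have h := Subgroup.relIndex_mul_relIndex ⊥ C N bot_le (Subgroup.centralizer_le_normalizer _)
    rw [Subgroup.relIndex_bot_left, Subgroup.relIndex_bot_left] at h
    exact Nat.eq_of_mul_eq_mul_left Nat.card_pos (h.trans hce.symm)
  have hep : e < p := lt_of_le_of_lt (Nat.le_of_dvd (by omega) hed) (by omega)
  obtain ⟨M, hM⟩ := CharApps.exists_pModular (p := p)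
  haveI := hM.2.1.isPrime
  obtain ⟨X, Y, hB, hdisj, hX, hY, σ, ε, hXp, hε, hYd, hYeq, hrelY⟩ :=
    Cfsg.Agent.S4441.result p M hM (by omega) P hP e hrel
  have hsq : ¬ p ^ 2 ∣ Nat.card G := by
    rw [hG, hm, pow_two]
    exact fun h => hpm (Nat.dvd_of_mul_dvd_mul_left (by omega) h)
  have hsq' : ¬ q ^ 2 ∣ Nat.card G := by
    rw [hG, hm', pow_two]
    exact fun h => hqm (Nat.dvd_of_mul_dvd_mul_left (Nat.pos_of_ne_zero hq0) h)
  have hgC : p ∣ Nat.card (Subgroup.centralizer ({g} : Set G)) := by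
    refine dvd_trans (hg ▸ dvd_mul_right p q) ?_
    exact Subgroup.orderOf_dvd_natCard _ (Subgroup.mem_centralizer_singleton_iff.2 rfl)
  -- degrees in the block are prime to both
  have hne0 : ∀ χ ∈ principalBlock M G, ¬ p ∣ charDegree (χ : G → ℂ) := by
    intro χ hχ hdvd
    have hd : ((charDegree (χ : G → ℂ) : ℕ) : ℤ) ≡ 0 [ZMOD p] :=
      Int.modEq_zero_iff_dvd.2 (by exact_mod_cast hdvd)
    rw [hB] at hχ
    rcases hχ with hχ | hχ
    · have h := (hXp χ hχ).2.1.symm.trans hd
      rw [Int.modEq_zero_iff_dvd] at h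
      rcases (hXp χ hχ).1 with h1 | h1 <;> rw [h1] at h <;>
        have := Int.le_of_dvd (by norm_num) (by simpa using h : (p : ℤ) ∣ 1) <;> omega
    · have h := (hYd χ hχ).symm.trans hd
      rw [Int.modEq_zero_iff_dvd] at h
      have h2 : (p : ℤ) ∣ (e : ℤ) := by
        rcases hε with h1 | h1 <;> rw [h1] at h <;> simpa using h
      have := Int.le_of_dvd (by exact_mod_cast (show 0 < e by omega)) h2
      omega
  have hne0' : ∀ χ ∈ principalBlock M G, ¬ q ∣ charDegree (χ : G → ℂ) := by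
    intro χ hχ hdvd
    have hz : (χ : G → ℂ) g = 0 := eq_zero_of_dvd_orderOf χ.2 (p := q) (n := 1) Fact.out
      (deg_eq χ) (by rw [show 1 + 1 = 2 from rfl]; exact hsq') (by rw [pow_one]; exact hdvd)
      (by rw [hg]; exact dvd_mul_left q p)
    have h := int_congr_of_principalBlock hM hsq hχ hgC (m := 0) (by rw [hz]; norm_num)
    rw [zero_sub, Int.dvd_neg] at h
    exact hne0 χ hχ (by exact_mod_cast h)
  have hpB : principal G ∈ X ∪ Y := hB ▸ CfsgLib.Blocks.principal_mem_principalBlock M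
  set Xf := (Set.toFinite X).toFinset with hXf
  set Yf := (Set.toFinite Y).toFinset with hYf
  have hXc : Xf.card = e := by rw [hXf, ← Nat.card_eq_card_finite_toFinset, hX]
  have hYc : Yf.card = (p - 1) / e := by rw [hYf, ← Nat.card_eq_card_finite_toFinset, hY]
  have hmemX : ∀ χ, χ ∈ Xf ↔ χ ∈ X := fun χ => Set.Finite.mem_toFinset _
  have hmemY : ∀ χ, χ ∈ Yf ↔ χ ∈ Y := fun χ => Set.Finite.mem_toFinset _
  have hp1 : charDegree (principal G : G → ℂ) = 1 := BlockTable.principal_degree hG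
  have hsgn : ∀ χ ∈ X, (σ χ : ℤ) * (charDegree (χ : G → ℂ) : ℤ) =
      (if charDegree (χ : G → ℂ) % p = 1 then (charDegree (χ : G → ℂ) : ℤ)
        else -(charDegree (χ : G → ℂ) : ℤ)) ∧
      (charDegree (χ : G → ℂ) % p = 1 ∨ charDegree (χ : G → ℂ) % p = p - 1) := by
    intro χ hχ
    obtain ⟨hs, hd, -⟩ := hXp χ hχ
    unfold Int.ModEq at hd
    rcases hs with h1 | h1 <;> rw [h1] at hd ⊢
    · rw [Int.emod_eq_of_lt (a := (1 : ℤ)) (by norm_num) (by omega)] at hd
      have : charDegree (χ : G → ℂ) % p = 1 := by exact_mod_cast hd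
      simp [this]
    · have h2 : (-1 : ℤ) % (p : ℤ) = ((p - 1 : ℕ) : ℤ) := by
        rw [show (-1 : ℤ) = ((p - 1 : ℕ) : ℤ) + (p : ℤ) * (-1) by omega, Int.add_mul_emod_self_left,
          Int.emod_eq_of_lt (by omega) (by omega)]
      rw [h2] at hd
      have : charDegree (χ : G → ℂ) % p = p - 1 := by exact_mod_cast hd
      rw [this, if_neg (by omega)]
      exact ⟨by ring, Or.inr rfl⟩
  have hsix : ∀ χ ∈ X, χ ≠ principal G → charDegree (χ : G → ℂ) + 1 ≠ p := by
    intro χ hχ hne hd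
    obtain ⟨hs, hd', hv⟩ := hXp χ hχ
    have hσ : σ χ = -1 := by
      refine hs.resolve_left fun h1 => ?_
      rw [h1, Int.modEq_iff_dvd] at hd'
      have h3 : (p : ℤ) ∣ 2 := by
        have := dvd_add hd' (dvd_refl (p : ℤ))
        rw [← hd] at this ⊢
        push_cast at this ⊢
        simpa [sub_add_add_cancel, show (1 : ℤ) - (charDegree (χ : G → ℂ) : ℤ) +
          ((charDegree (χ : G → ℂ) : ℤ) + 1) = 2 by ring] using this
      have := Int.le_of_dvd (by norm_num) h3
      omega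
    have hyC : g ^ p ∈ C := by
      rw [hC, hPz]
      refine Subgroup.mem_centralizer_iff.2 fun a ha => ?_
      obtain ⟨k, rfl⟩ := Subgroup.mem_zpowers_iff.1 ha
      exact (((Commute.refl g).pow_pow q p).zpow_left k).eq
    have hyp : ¬ p ∣ orderOf (g ^ p) := by
      rw [hyo]
      exact fun h => hpq ((Nat.prime_dvd_prime_iff_eq Fact.out Fact.out).1 h)
    have hval := apply_eq_degree (y := g ^ p) (by omega) (P : Subgroup G) hP χ hd
      (fun h hh h1 => by
        have := hv h hh h1 1 (Subgroup.one_mem _)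
          (by rw [orderOf_one]; exact (Fact.out : p.Prime).not_dvd_one)
        rw [mul_one] at this
        rw [this, hσ]; norm_num)
      (fun h hh h1 => by rw [hv h hh h1 _ hyC hyp, hσ]; norm_num)
    refine apply_ne_degree (t := g ^ p) (fun K hK hK' => hK.eq_bot_or_eq_top.resolve_left fun h => ?_)
      χ hne (by rw [hval, deg_eq])
    rw [h, Subgroup.mem_bot] at hK'
    rw [hK', orderOf_one] at hyo
    exact (Fact.out : q.Prime).ne_one hyo.symm
  have hcast : ∀ θ ∈ Y, (ε : ℤ) * (charDegree (θ : G → ℂ) : ℤ) =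
      ∑ χ ∈ Xf, σ χ * (charDegree (χ : G → ℂ) : ℤ) := by
    intro θ hθ
    have h := hrelY θ hθ 1 (by rw [orderOf_one]; exact (Fact.out : p.Prime).not_dvd_one)
    rw [finsum_mem_eq_finite_toFinset_sum _ (Set.toFinite X), deg_eq] at h
    simp only [deg_eq] at h
    exact_mod_cast h
  -- the list attached to a set of `e - 1` non-principal non-exceptional characters
  have hlist : ∀ S : Finset (IrrCharacter G), S ⊆ Xf → (∀ χ ∈ S, χ ≠ principal G) →
      total p (S.toList.map fun χ : IrrCharacter G => charDegree (χ : G → ℂ)) =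
          1 + ∑ χ ∈ S, σ χ * (charDegree (χ : G → ℂ) : ℤ) ∧
      (S.toList.map fun χ : IrrCharacter G => charDegree (χ : G → ℂ)).length = S.card ∧
      ∀ d ∈ S.toList.map fun χ : IrrCharacter G => charDegree (χ : G → ℂ),
        ∃ χ, Signed p q g χ ∧ charDegree (χ : G → ℂ) = d := by
    intro S hS hne
    refine ⟨?_, by rw [List.length_map, Finset.length_toList], fun d hd => ?_⟩
    · rw [total, List.map_map, ← Finset.sum_map_toList]
      congr 1
      refine congrArg List.sum (List.map_congr_left fun χ hχ => ?_)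
      exact ((hsgn χ ((hmemX χ).1 (hS (Finset.mem_toList.1 hχ)))).1).symm
    · obtain ⟨χ, hχ, rfl⟩ := List.mem_map.1 hd
      have hS' := Finset.mem_toList.1 hχ
      have hχX := (hmemX χ).1 (hS hS')
      have hχB : χ ∈ principalBlock M G := hB ▸ Or.inl hχX
      exact ⟨χ, ⟨⟨hne χ hS', hne0 χ hχB, hne0' χ hχB⟩, (hsgn χ hχX).2, hsix χ hχX (hne χ hS')⟩, rfl⟩
  rcases hpB with hpX | hpY
  · obtain ⟨h1, h2, h3⟩ := hlist (Xf.erase (principal G)) (Finset.erase_subset _ _)
      fun χ hχ => Finset.ne_of_mem_erase hχ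
    refine ⟨e, _, Yf, he1, hed, h2.trans ?_, hYc, h3, fun θ hθ => ?_⟩
    · rw [Finset.card_erase_of_mem ((hmemX _).2 hpX), hXc]
    have hθY := (hmemY θ).1 hθ
    have hθB : θ ∈ principalBlock M G := hB ▸ Or.inr hθY
    refine ⟨⟨fun h => hdisj.ne_of_mem hpX (h ▸ hθY) rfl, hne0 θ hθB, hne0' θ hθB⟩, ?_⟩
    have hσp : σ (principal G) = 1 := by
      rcases (hXp _ hpX).1 with h | h
      · exact h
      have := (hXp _ hpX).2.1
      rw [h, hp1, Int.modEq_iff_dvd] at this
      have := Int.le_of_dvd (by norm_num) (by simpa using this : (p : ℤ) ∣ 2)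
      omega
    rw [h1, ← hσp]
    have h := hcast θ hθY
    rw [← Finset.add_sum_erase _ _ ((hmemX _).2 hpX), hp1, Nat.cast_one, mul_one] at h
    rw [← h]
    rcases hε with h | h <;> simp [h]
  · -- the principal character is exceptional: the block is the principal one and `p - 1` others
    have hd := hYd _ hpY
    rw [hp1, Nat.cast_one, Int.modEq_iff_dvd] at hd
    have hεe : ε = -1 ∧ e = p - 1 := by
      rcases hε with h | h <;> rw [h] at hd
      · have h2 := Int.le_of_dvd (by omega) hd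
        omega
      · rw [← dvd_neg, neg_sub, show (1 : ℤ) - -1 * (e : ℤ) = (1 : ℤ) + e by ring] at hd
        have h2 := Int.le_of_dvd (by positivity) hd
        exact ⟨h, by omega⟩
    obtain ⟨χ₀, hχ₀⟩ := Finset.card_pos.1 (show 0 < Xf.card by omega)
    have hne : ∀ χ ∈ Xf, χ ≠ principal G := fun χ hχ h =>
      hdisj.ne_of_mem ((hmemX χ).1 hχ) (h ▸ hpY) rfl
    obtain ⟨h1, h2, h3⟩ := hlist (Xf.erase χ₀) (Finset.erase_subset _ _)
      fun χ hχ => hne χ (Finset.mem_of_mem_erase hχ)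
    refine ⟨e, _, {χ₀}, he1, hed, h2.trans ?_, ?_, h3, fun θ hθ => ?_⟩
    · rw [Finset.card_erase_of_mem hχ₀, hXc]
    · rw [Finset.card_singleton, hεe.2, Nat.div_self (by omega)]
    rw [Finset.mem_singleton.1 hθ]
    have hχX := (hmemX χ₀).1 hχ₀
    have hχB : χ₀ ∈ principalBlock M G := hB ▸ Or.inl hχX
    refine ⟨⟨hne χ₀ hχ₀, hne0 χ₀ hχB, hne0' χ₀ hχB⟩, ?_⟩
    have h := hcast _ hpY
    rw [hεe.1, hp1, Nat.cast_one, mul_one, ← Finset.add_sum_erase _ _ hχ₀] at h
    rw [h1]
    rcases (hXp _ hχX).1 with h' | h' <;> rw [h'] at h <;> omega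

variable [IsSimpleGroup G] (hG : Nat.card G = 443520) (T : TableEleven G)

include hG in
/-- The degree of a non-principal character. -/
theorem degree_cases {χ : IrrCharacter G} (h : χ ≠ principal G) :
    11 ∣ charDegree (χ : G → ℂ) ∨ (∃ i, χ = T.a i ∧ charDegree (χ : G → ℂ) = T.list.1 i) ∨
      charDegree (χ : G → ℂ) = T.list.2 := by
  rcases T.cover χ with h1 | ⟨i, h1⟩ | h1
  · exact absurd h1 h
  · induction i using Fin.addCases with
    | left i =>
      rw [Fin.append_left] at h1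
      exact Or.inr (Or.inl ⟨i, h1, h1 ▸ T.deg_a i⟩)
    | right j =>
      rw [Fin.append_right] at h1
      exact Or.inr (Or.inr (h1 ▸ T.deg_θ j))
  · exact Or.inl h1.1

end CfsgLib.M22Order.NoThirtyFive

namespace CfsgLib.M22Order

universe u

open NoThirtyFive in
/-- Piece C1. -/
theorem noThirtyFive : NoThirtyFiveStmt.{u} := by
  intro G _ _ hs hG _ T g hg
  haveI := hs
  haveI := Fact.mk (show Nat.Prime 5 by norm_num)
  haveI := Fact.mk (show Nat.Prime 7 by norm_num)
  obtain ⟨hmemθ, hmemA⟩ := mem_tableDegs _ T.mem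
  obtain ⟨hθ32, h32⟩ := table_thirtytwo _ T.mem
  have hfacts := fun χ : IrrCharacter G => BlockTable.degree_facts hG χ
  -- the block at seven
  have pool : ∀ χ : IrrCharacter G, InBlock 7 5 χ → charDegree (χ : G → ℂ) ∈ pool7 := by
    intro χ hχ
    refine mem_pool7 _ (hfacts χ).1 (hfacts χ).2.1 hχ.not_dvd' hχ.not_dvd ?_
    rcases degree_cases hG T hχ.ne_principal with h | ⟨i, -, h⟩ | h
    exacts [Or.inl h, Or.inr (h ▸ hmemA i), Or.inr (h ▸ hmemθ)]
  obtain ⟨e, l, θs, he1, hed, hlen, hθc, hl, hθ⟩ := block_shape hG (p := 7) (q := 5) (m := 63360)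
    (m' := 88704) (by norm_num) (by norm_num) (by norm_num) (by norm_num) (by norm_num)
    (by norm_num) (g := g) (by rw [hg])
  have hlmem : l ∈ tuples signed7 l.length := mem_tuples l fun d hd => by
    obtain ⟨χ, hχ, rfl⟩ := hl d hd
    exact mem_signed7 _ (pool χ hχ.toInBlock) hχ.mod fun h => hχ.six (by rw [h])
  have he : e = 2 ∨ e = 3 ∨ e = 6 := by
    have key : ∀ k ≤ 6, k ∣ 7 - 1 → 1 < k → k = 2 ∨ k = 3 ∨ k = 6 := by decide
    exact key e (Nat.le_of_dvd (by norm_num) hed) hed he1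
  obtain ⟨θ₀, hθ₀⟩ := Finset.card_pos.1 (show 0 < θs.card by
    rcases he with rfl | rfl | rfl <;> norm_num [hθc])
  have hT : (total 7 l).natAbs ∈ pool7 := (hθ θ₀ hθ₀).2 ▸ pool θ₀ (hθ θ₀ hθ₀).1
  obtain ⟨s2, s3, s6⟩ := seven_shapes
  rw [hlen] at hlmem
  rcases he with rfl | rfl | rfl
  · exact s2 l hlmem hT
  swap
  · exact s6 l hlmem hT
  have h32' := s3 l hlmem hT
  obtain ⟨θ₁, hθ₁, θ₂, hθ₂, hne⟩ := Finset.one_lt_card.1 (show 1 < θs.card by norm_num [hθc])
  have hidx : ∀ θ ∈ θs, ∃ i, θ = T.a i ∧ T.list.1 i = 32 := by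
    intro θ hmem
    obtain ⟨hB, hd⟩ := hθ θ hmem
    rw [h32'] at hd
    rcases degree_cases hG T hB.ne_principal with h | ⟨i, h1, h2⟩ | h
    · rw [hd] at h; norm_num at h
    · exact ⟨i, h1, h2.symm.trans hd⟩
    · exact absurd (h.symm.trans hd) hθ32
  obtain ⟨i, rfl, hi⟩ := hidx θ₁ hθ₁
  obtain ⟨j, rfl, hj⟩ := hidx θ₂ hθ₂
  obtain ⟨h2θ, h2a⟩ := h32 i j (fun h => hne (by rw [h])) hi hj
  -- the block at five
  have pool' : ∀ χ : IrrCharacter G, InBlock 5 7 χ → charDegree (χ : G → ℂ) ∈ pool5 := by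
    intro χ hχ
    refine mem_pool5 _ (hfacts χ).1 (hfacts χ).2.1 hχ.not_dvd' hχ.not_dvd ?_
    rcases degree_cases hG T hχ.ne_principal with h | ⟨k, -, h⟩ | h
    · exact Or.inl h
    · rcases h2a k with h5 | h7 | h3
      exacts [absurd (h ▸ h5) hχ.not_dvd, absurd (h ▸ h7) hχ.not_dvd', Or.inr (h.trans h3)]
    · rcases h2θ with h5 | h7
      exacts [absurd (h ▸ h5) hχ.not_dvd, absurd (h ▸ h7) hχ.not_dvd']
  obtain ⟨e, l, θs, he1, hed, hlen, hθc, hl, hθ⟩ := block_shape hG (p := 5) (q := 7) (m := 88704)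
    (m' := 63360) (by norm_num) (by norm_num) (by norm_num) (by norm_num) (by norm_num)
    (by norm_num) (g := g) (by rw [hg])
  have hlmem : l ∈ tuples signed5 l.length := mem_tuples l fun d hd => by
    obtain ⟨χ, hχ, rfl⟩ := hl d hd
    exact mem_signed5 _ (pool' χ hχ.toInBlock) hχ.mod
  have he : e = 2 ∨ e = 4 := by
    have key : ∀ k ≤ 4, k ∣ 5 - 1 → 1 < k → k = 2 ∨ k = 4 := by decide
    exact key e (Nat.le_of_dvd (by norm_num) hed) hed he1
  obtain ⟨θ₀, hθ₀⟩ := Finset.card_pos.1 (show 0 < θs.card by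
    rcases he with rfl | rfl <;> norm_num [hθc])
  have hT' : (total 5 l).natAbs ∈ pool5 := (hθ θ₀ hθ₀).2 ▸ pool' θ₀ (hθ θ₀ hθ₀).1
  rw [hlen] at hlmem
  obtain ⟨f2, f4⟩ := five_shapes
  rcases he with rfl | rfl
  exacts [f2 l hlmem hT', f4 l hlmem hT']

end CfsgLib.M22Order
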