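import Cfsg.Agent.Lib.M22Order.Interface
import Cfsg.Agent.Lib.M22Nse.CountsTools
import Cfsg.Agent.Lib.CharApps.FrobeniusSchur
import Cfsg.Agent.Lib.Chars.TwoConjugates
import Cfsg.Agent.Lib.StrongTwoClasses.Tools

/-!
# Piece G of S1663: the element orders

Counting elements by order leaves `97020` elements of two-power order at least four in at most
three classes: none has order sixteen.  If all had order four, an involution would have 84 square
roots, more than the twelve characters allow.
-/

set_option autoImplicit false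
set_option linter.style.haveILetI false
set_option linter.unusedSectionVars false

open Cfsg CfsgLib.Chars CfsgLib.CharApps
open scoped Classical

namespace CfsgLib.M22Order

namespace OrdG

universe u

variable {G : Type u} [Group G] [Finite G]

theorem conj_orderOf {g h : G} (e : IsConj g h) : orderOf g = orderOf h := by
  obtain ⟨c, rfl⟩ := isConj_iff.1 e
  exact (M22Nse.CountsP1.conj_order c g).symm

/-- The order of the elements of a class. -/
noncomputable def cord (K : ConjClasses G) : ℕ :=
  Quotient.lift (orderOf : G → ℕ) (fun _ _ e => conj_orderOf e) K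

theorem cord_mk (g : G) : cord (ConjClasses.mk g) = orderOf g := rfl

theorem mem_cen {g x : G} (h : Commute g x) : g ∈ cen x :=
  Subgroup.mem_centralizer_singleton_iff.2 h.eq

theorem exists_pow_orderOf {g : G} {d : ℕ} (hd : d ∣ orderOf g) :
    orderOf (g ^ (orderOf g / d)) = d := by
  rcases Nat.eq_zero_or_pos d with rfl | hd0
  · exact absurd (zero_dvd_iff.1 hd) (orderOf_pos g).ne'
  obtain ⟨k, hk⟩ := hd
  have hk0 : k ≠ 0 := fun e => (orderOf_pos g).ne' (by rw [hk, e, mul_zero])
  rw [hk, Nat.mul_div_cancel_left _ hd0, orderOf_pow' _ hk0, hk, Nat.gcd_mul_left_left,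
    Nat.mul_div_cancel _ (Nat.pos_of_ne_zero hk0)]

theorem eq_prime {p n : ℕ} [hp : Fact p.Prime] (L : Local G p n) {g : G} (hd : p ∣ orderOf g) :
    orderOf g = p := by
  have hx := exists_pow_orderOf hd
  have h1 := Subgroup.orderOf_dvd_natCard (cen (g ^ (orderOf g / p)))
    (mem_cen (Commute.self_pow g _))
  rw [L.cent _ hx] at h1
  exact Nat.dvd_antisymm h1 hd

theorem cnt_local {p n m : ℕ} [hp : Fact p.Prime] (L : Local G p n) (hG : Nat.card G = 443520)
    (hm : 443520 = p * m) (hpm : ¬ p ∣ m) :
    M22Nse.cnt G p * n = 443520 * (p - 1) := by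
  have hP : ∀ P : Sylow p G, Nat.card (P : Subgroup G) = p := fun P => by
    simpa using M22Nse.CountsP1.card_sylow_eq' p m (by rw [hG, hm]) hpm P
  obtain ⟨P⟩ := (inferInstance : Nonempty (Sylow p G))
  have h1 : Nat.card (Sylow p G) * n = 443520 := by
    have := Subgroup.index_mul_card (Subgroup.normalizer ((P : Subgroup G) : Set G))
    rw [L.norm P, hG] at this
    rw [Sylow.card_eq_index_normalizer P]
    exact this
  rw [M22Nse.cnt, CfsgLib.Small.card_orderOf_eq_prime hP, mul_right_comm, h1]

theorem cnt_class {p : ℕ} {c : ℕ} (hG : Nat.card G = 443520)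
    (hc : ∀ x : G, orderOf x = p → Nat.card (cen x) = c)
    (hconj : ∀ x y : G, orderOf x = p → orderOf y = p → IsConj x y) {x : G} (hx : orderOf x = p) :
    M22Nse.cnt G p * c = 443520 := by
  have h1 := card_isConj_mul_card_centralizer x
  rw [hG] at h1
  rw [← h1, ← hc x hx, M22Nse.cnt]
  congr 1
  exact Nat.card_congr (Equiv.subtypeEquivRight fun y =>
    ⟨fun hy => hconj x y hx hy, fun hy => (conj_orderOf hy).symm.trans hx⟩)

theorem class_size {x : G} {c : ℕ} (hG : Nat.card G = 443520) (hc : c ≤ Nat.card (cen x)) :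
    Nat.card {h : G // IsConj x h} * c ≤ 443520 := by
  have h1 := card_isConj_mul_card_centralizer x
  rw [hG] at h1
  exact (Nat.mul_le_mul_left _ hc).trans h1.le

theorem no_nine (hG : Nat.card G = 443520) (h3 : LocalThree G) (z : G) : orderOf z ≠ 9 := by
  intro hz
  haveI : Fact (Nat.Prime 3) := ⟨Nat.prime_three⟩
  have hfac : (Nat.card G).factorization 3 = 2 := by
    rw [hG, show 443520 = 3 ^ 2 * 49280 from rfl, Nat.factorization_mul (by norm_num) (by norm_num),
      Nat.prime_three.factorization_pow, Finsupp.add_apply, Finsupp.single_eq_same,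
      Nat.factorization_eq_zero_of_not_dvd (by norm_num)]
  let P : Sylow 3 G := Sylow.ofCard (Subgroup.zpowers z) (by rw [Nat.card_zpowers, hz, hfac]; norm_num)
  have hP9 : Nat.card (P : Subgroup G) = 9 := by
    show Nat.card ↥(Subgroup.zpowers z) = 9
    rw [Nat.card_zpowers, hz]
  haveI : IsCyclic (P : Subgroup G) := by
    show IsCyclic ↥(Subgroup.zpowers z)
    infer_instance
  set N := Subgroup.normalizer ((P : Subgroup G) : Set G) with hN
  set f := (P : Subgroup G).normalizerMonoidHom with hf
  have hker : f.ker = ((P : Subgroup G) : Subgroup G).subgroupOf N := by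
    rw [hf, Subgroup.normalizerMonoidHom_ker, h3.cent_syl P]
  have hkcard : Nat.card f.ker = 9 := by
    rw [hker, Nat.card_congr (Subgroup.subgroupOfEquivOfLe Subgroup.le_normalizer).toEquiv, hP9]
  have h72 : Nat.card N = 72 := h3.norm P
  have hmul : Nat.card f.range * Nat.card f.ker = 72 := by
    rw [← h72, ← Subgroup.index_ker, mul_comm, Subgroup.card_mul_index]
  have haut : Nat.card (MulAut (P : Subgroup G)) = 6 := by
    rw [IsCyclic.card_mulAut, hP9]
    rfl
  have h8 : Nat.card f.range = 8 := by rw [hkcard] at hmul; omega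
  have hd := Subgroup.card_subgroup_dvd_card f.range
  rw [haut, h8] at hd
  omega

theorem no_twelve (h3 : LocalThree G) (w : G) : orderOf w ≠ 12 := by
  intro hw
  have hz : orderOf (w ^ 4) = 3 := by
    rw [orderOf_pow' _ (by norm_num), hw]; rfl
  have hv : orderOf (w ^ 6) = 2 := by
    rw [orderOf_pow' _ (by norm_num), hw]; rfl
  have hy : orderOf (w ^ 3) = 4 := by
    rw [orderOf_pow' _ (by norm_num), hw]; rfl
  set z := w ^ 4
  set v := w ^ 6
  set y := w ^ 3
  have hzy : Commute z y := Commute.pow_pow_self w 4 3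
  have hzv : Commute z v := Commute.pow_pow_self w 4 6
  have hyv : Commute y v := Commute.pow_pow_self w 3 6
  haveI := Fintype.ofFinite G
  set T : Finset G := Finset.univ.filter fun a => Commute z a ∧ orderOf a = 2 with hT
  have hcard : T.card = 3 := by
    rw [hT, ← Fintype.card_subtype, ← Nat.card_eq_fintype_card]
    exact h3.invol z hz
  have hTmem : ∀ a, a ∈ T ↔ Commute z a ∧ orderOf a = 2 := fun a => by
    rw [hT, Finset.mem_filter]; exact and_iff_right (Finset.mem_univ a)
  obtain ⟨a, haT, hav⟩ : ∃ a ∈ T, a ≠ v := Finset.exists_mem_ne (by omega) v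
  have hconjT : ∀ b ∈ T, y * b * y⁻¹ ∈ T := fun b hb => by
    obtain ⟨h1, h2⟩ := (hTmem b).1 hb
    exact (hTmem _).2 ⟨(hzy.mul_right h1).mul_right hzy.inv_right,
      by rw [M22Nse.CountsP1.conj_order, h2]⟩
  have hvT : v ∈ T := (hTmem v).2 ⟨hzv, hv⟩
  have hinj : ∀ b c : G, y * b * y⁻¹ = y * c * y⁻¹ → b = c := fun b c e =>
    mul_left_cancel (mul_right_cancel e)
  have hyfix : y * v * y⁻¹ = v := mul_inv_eq_iff_eq_mul.2 hyv.eq
  -- the square of `y` fixes `a`, so `a` and `v` commute
  have hav' : Commute v a := by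
    have hyy : y * y = v := (pow_add w 3 3).symm
    set b := y * a * y⁻¹ with hb
    have hbv : b ≠ v := fun e => hav (hinj _ _ (e.trans hyfix.symm))
    have key : y * b * y⁻¹ = a := by
      by_cases hba : b = a
      · conv_lhs => rw [hba]
        rw [← hb, hba]
      have h4 : ({v, a, b} : Finset G) = T := by
        refine Finset.eq_of_subset_of_card_le ?_ ?_
        · intro x hx
          simp only [Finset.mem_insert, Finset.mem_singleton] at hx
          rcases hx with rfl | rfl | rfl
          exacts [hvT, haT, hconjT a haT]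
        · rw [hcard, Finset.card_insert_of_notMem (by simp [Ne.symm hav, Ne.symm hbv]),
            Finset.card_pair (Ne.symm hba)]
      have h5 := h4.symm ▸ hconjT b (hconjT a haT)
      simp only [Finset.mem_insert, Finset.mem_singleton] at h5
      rcases h5 with e | e | e
      · exact absurd (hinj _ _ (e.trans hyfix.symm)) hbv
      · exact e
      · exact absurd (hinj _ _ (e.trans hb)) hba
    have h6 : v * a * v⁻¹ = a := by
      rw [← hyy]
      calc y * y * a * (y * y)⁻¹ = y * (y * a * y⁻¹) * y⁻¹ := by group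
        _ = a := key
    exact mul_inv_eq_iff_eq_mul.1 h6
  have ha2 : a * a = 1 := by rw [← sq, ← ((hTmem a).1 haT).2, pow_orderOf_eq_one]
  have hv2 : v * v = 1 := by rw [← sq, ← hv, pow_orderOf_eq_one]
  haveI : Fact (Nat.Prime 2) := ⟨Nat.prime_two⟩
  have hpz : ∀ x : G, x * x = 1 → IsPGroup 2 (Subgroup.zpowers x) := fun x hx =>
    StrongTwoClasses.isPGroup_zpowers_two (n := 1) (by rw [pow_one, sq, hx])
  have haN : Subgroup.zpowers v ≤ Subgroup.normalizer (Subgroup.zpowers a : Set G) := by
    rw [Subgroup.zpowers_le]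
    refine StrongTwoClasses.mem_normalizer_of_forall fun x hx => ?_
    obtain ⟨k, rfl⟩ := Subgroup.mem_zpowers_iff.1 hx
    rw [mul_inv_eq_iff_eq_mul.2 (hav'.zpow_right k).eq]
    exact ⟨k, rfl⟩
  set W := Subgroup.zpowers v ⊔ Subgroup.zpowers a with hWdef
  have hW : IsPGroup 2 W :=
    (hpz v hv2).to_sup_of_normal_right' (hpz a ha2) haN
  have hyW : y ∈ Subgroup.normalizer (W : Set G) := by
    refine StrongTwoClasses.mem_normalizer_of_forall fun x hx => ?_
    have hb : y * a * y⁻¹ ∈ W := by
      have hva : v * a ∈ T := by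
        refine (hTmem _).2 ⟨hzv.mul_right ((hTmem a).1 haT).1, orderOf_eq_prime ?_ ?_⟩
        · rw [sq, hav'.symm.mul_mul_mul_comm, hv2, ha2, one_mul]
        · intro e
          exact hav ((inv_eq_of_mul_eq_one_right e).symm.trans (inv_eq_of_mul_eq_one_right hv2))
      have h4 : ({v, a, v * a} : Finset G) = T := by
        refine Finset.eq_of_subset_of_card_le ?_ ?_
        · intro x hx
          simp only [Finset.mem_insert, Finset.mem_singleton] at hx
          rcases hx with rfl | rfl | rfl
          exacts [hvT, haT, hva]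
        · rw [hcard, Finset.card_insert_of_notMem, Finset.card_pair]
          · intro e
            exact (orderOf_eq_prime_iff.1 hv).2 (mul_eq_right.1 e.symm)
          · simp only [Finset.mem_insert, Finset.mem_singleton]
            rintro (e | e)
            · exact hav e.symm
            · exact (orderOf_eq_prime_iff.1 ((hTmem a).1 haT).2).2 (mul_eq_left.1 e.symm)
      have h5 := h4.symm ▸ hconjT a haT
      simp only [Finset.mem_insert, Finset.mem_singleton] at h5
      rcases h5 with e | e | e <;> rw [e]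
      · exact Subgroup.mem_sup_left (Subgroup.mem_zpowers v)
      · exact Subgroup.mem_sup_right (Subgroup.mem_zpowers a)
      · exact mul_mem (Subgroup.mem_sup_left (Subgroup.mem_zpowers v))
          (Subgroup.mem_sup_right (Subgroup.mem_zpowers a))
    have hle : W.map (MulAut.conj y).toMonoidHom ≤ W := by
      rw [hWdef, Subgroup.map_sup, MonoidHom.map_zpowers, MonoidHom.map_zpowers, sup_le_iff,
        Subgroup.zpowers_le, Subgroup.zpowers_le]
      exact ⟨by
        show y * v * y⁻¹ ∈ _
        rw [hyfix]; exact Subgroup.mem_sup_left (Subgroup.mem_zpowers v), hb⟩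
    exact hle ⟨x, hx, rfl⟩
  have hpy : IsPGroup 2 (Subgroup.zpowers y) :=
    StrongTwoClasses.isPGroup_zpowers_two (n := 2) (by
      rw [show (2 : ℕ) ^ 2 = orderOf y by rw [hy]; rfl, pow_orderOf_eq_one])
  set V := Subgroup.zpowers y ⊔ W
  have hV : IsPGroup 2 V := hpy.to_sup_of_normal_right' hW (Subgroup.zpowers_le.2 hyW)
  have hVle : V ≤ cen z := by
    refine sup_le ?_ (sup_le ?_ ?_) <;> rw [Subgroup.zpowers_le]
    exacts [mem_cen hzy.symm, mem_cen hzv.symm, mem_cen ((hTmem a).1 haT).1.symm]
  have hd : Nat.card V ∣ 36 := (Subgroup.card_dvd_of_le hVle).trans (dvd_of_eq (h3.cent z hz))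
  obtain ⟨k, hk⟩ := hV.exists_card_eq
  have hk4 : Nat.card V ≤ 4 := by
    rw [hk] at hd ⊢
    have : k ≤ 2 := by
      by_contra hlt
      have h8 := (pow_dvd_pow 2 (show 3 ≤ k by omega)).trans hd
      norm_num at h8
    exact (Nat.pow_le_pow_right (by norm_num) this).trans (le_of_eq (by norm_num))
  have hVy : V = Subgroup.zpowers y := by
    refine (Subgroup.eq_of_le_of_card_ge le_sup_left ?_).symm
    rw [Nat.card_zpowers, hy]
    exact hk4
  have hay : a ∈ Subgroup.zpowers y :=
    hVy.le (Subgroup.mem_sup_right (Subgroup.mem_sup_right (Subgroup.mem_zpowers a)))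
  obtain ⟨i, hi, rfl⟩ := Finset.mem_image.1 (mem_zpowers_iff_mem_range_orderOf.1 hay)
  rw [Finset.mem_range, hy] at hi
  have h2 := ((hTmem _).1 haT).2
  interval_cases i
  · rw [pow_zero, orderOf_one] at h2; omega
  · rw [pow_one, hy] at h2; omega
  · exact hav (pow_mul w 3 2).symm
  · rw [orderOf_pow' _ (by norm_num), hy] at h2
    norm_num at h2

theorem two_three (hG : Nat.card G = 443520) (h11 : LocalEleven G) (h7 : LocalSeven G)
    (h5 : LocalFive G) (h3 : LocalThree G) (g : G) :
    orderOf g ∈ [5, 7, 11] ∨ orderOf g ∈ [1, 2, 3, 4, 6, 8, 16, 32, 64, 128] := by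
  haveI : Fact (Nat.Prime 5) := ⟨by norm_num⟩
  haveI : Fact (Nat.Prime 7) := ⟨by norm_num⟩
  haveI : Fact (Nat.Prime 11) := ⟨by norm_num⟩
  set n := orderOf g with hn
  by_cases e5 : 5 ∣ n
  · rw [hn, eq_prime h5 e5]; exact Or.inl (by simp)
  by_cases e7 : 7 ∣ n
  · rw [hn, eq_prime h7 e7]; exact Or.inl (by simp)
  by_cases e11 : 11 ∣ n
  · rw [hn, eq_prime h11 e11]; exact Or.inl (by simp)
  refine Or.inr ?_
  have hd : n ∣ 443520 := hG ▸ orderOf_dvd_natCard g
  rw [show 443520 = 2 ^ 7 * 3 ^ 2 * 5 * 7 * 11 from rfl] at hd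
  have c : ∀ p, p.Prime → ¬ p ∣ n → n.Coprime p := fun p hp h =>
    (Nat.Coprime.symm (hp.coprime_iff_not_dvd.2 h))
  have hd2 : n ∣ 2 ^ 7 * 3 ^ 2 :=
    (c 5 (by norm_num) e5).dvd_of_dvd_mul_right
      ((c 7 (by norm_num) e7).dvd_of_dvd_mul_right ((c 11 (by norm_num) e11).dvd_of_dvd_mul_right hd))
  obtain ⟨a, b, ha, hb, hab⟩ := Nat.dvd_mul.1 hd2
  obtain ⟨i, hi, rfl⟩ := (Nat.dvd_prime_pow Nat.prime_two).1 ha
  obtain ⟨j, hj, rfl⟩ := (Nat.dvd_prime_pow Nat.prime_three).1 hb
  have h9 : ¬ 9 ∣ n := fun h => no_nine hG h3 _ (exists_pow_orderOf h)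
  have h12 : ¬ 12 ∣ n := fun h => no_twelve h3 _ (exists_pow_orderOf h)
  rw [← hab] at h9 h12 ⊢
  interval_cases i <;> interval_cases j
  all_goals first
    | (norm_num; done)
    | (norm_num at h9; done)
    | (norm_num at h12; done)

theorem norm_fsInd_le [Fintype G] (χ : IrrCharacter G) : ‖fsInd (χ : G → ℂ)‖ ≤ 1 := by
  by_cases h : ∀ g, (starRingEnd ℂ) ((χ : G → ℂ) g) = (χ : G → ℂ) g
  · rcases fsInd_of_real χ h with e | e <;> simp [e]
  · push Not at h
    simp [fsInd_eq_zero χ h]

theorem roots_sq_le (C : Chars G specMain) (h2 : LocalTwo G) {t : G} (ht : orderOf t = 2) :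
    Nat.card {u : G // u * u = t} ^ 2 ≤ 12 * 384 := by
  haveI := Fintype.ofFinite G
  haveI := irrFintype G
  set r := Nat.card {u : G // u * u = t}
  have h1 : (r : ℝ) ≤ ∑ χ : IrrCharacter G, ‖(χ : G → ℂ) t‖ := by
    have h := card_sqrt_eq (G := G) t
    have e : (r : ℝ) = ‖∑ χ : IrrCharacter G, fsInd (χ : G → ℂ) * (χ : G → ℂ) t‖ := by
      rw [← h, Complex.norm_natCast]
    rw [e]
    refine (norm_sum_le _ _).trans (Finset.sum_le_sum fun χ _ => ?_)
    rw [norm_mul]
    exact mul_le_of_le_one_left (norm_nonneg _) (norm_fsInd_le χ)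
  have h3 : (r : ℝ) ^ 2 ≤ 12 * 384 := by
    refine (pow_le_pow_left₀ (Nat.cast_nonneg _) h1 2).trans ?_
    refine (sq_sum_le_card_mul_sum_sq (s := Finset.univ)
      (f := fun χ : IrrCharacter G => ‖(χ : G → ℂ) t‖)).trans (le_of_eq ?_)
    have hn := sum_normSq (G := G) t
    simp only [Complex.normSq_eq_norm_sq] at hn
    rw [hn, Finset.card_univ, ← Fintype.card_congr C.c, Fintype.card_fin]
    have := h2.cent t ht
    norm_cast
    rw [this]
  exact_mod_cast h3

theorem exists_order {p : ℕ} (hp : p.Prime) (hd : p ∣ 443520) (hG : Nat.card G = 443520) :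
    ∃ x : G, orderOf x = p := by
  haveI : Fact p.Prime := ⟨hp⟩
  exact exists_prime_orderOf_dvd_card' p (hG ▸ hd)

theorem exists_not_conj {p k : ℕ} {x : G} (hx : orderOf x = p) (hG : Nat.card G = 443520)
    (hc : k ≤ Nat.card (cen x)) (h : 443520 < M22Nse.cnt G p * k) :
    ∃ y : G, orderOf y = p ∧ ¬ IsConj x y := by
  by_contra hall
  push Not at hall
  have h1 := class_size hG hc
  have h2 : M22Nse.cnt G p ≤ Nat.card {h : G // IsConj x h} :=
    Nat.card_le_card_of_injective
      (fun y : {g : G // orderOf g = p} => (⟨y.1, hall y.1 y.2⟩ : {h : G // IsConj x h}))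
      fun a b e => Subtype.ext (congrArg Subtype.val e :)
  exact absurd (h.trans_le ((Nat.mul_le_mul_right k h2).trans h1)) (lt_irrefl _)

/-- The orders other than the seven fixed ones. -/
abbrev Other (n : ℕ) : Prop := n ∉ [1, 2, 3, 5, 6, 7, 11]

theorem classes_le (hG : Nat.card G = 443520) (h11 : LocalEleven G) (h7 : LocalSeven G)
    (h3 : LocalThree G) (C : Chars G specMain) :
    Nat.card {K : ConjClasses G // Other (cord K)} ≤ 3 := by
  haveI : Fact (Nat.Prime 7) := ⟨by norm_num⟩
  haveI : Fact (Nat.Prime 11) := ⟨by norm_num⟩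
  haveI := Fintype.ofFinite G
  haveI := Fintype.ofFinite (ConjClasses G)
  haveI := irrFintype G
  have h12 : Fintype.card (ConjClasses G) = 12 := by
    rw [← Nat.card_eq_fintype_card, ← card_irr_eq_card_classes, Nat.card_eq_fintype_card,
      ← Fintype.card_congr C.c, Fintype.card_fin]
  obtain ⟨a, ha⟩ := exists_order (p := 7) (G := G) (by norm_num) (by norm_num) hG
  obtain ⟨b, hb⟩ := exists_order (p := 11) (G := G) (by norm_num) (by norm_num) hG
  obtain ⟨a', ha', haa⟩ := exists_not_conj ha hG (h7.cent a ha).ge (by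
    have := cnt_local h7 hG (m := 63360) (by norm_num) (by norm_num)
    omega)
  obtain ⟨b', hb', hbb⟩ := exists_not_conj hb hG (h11.cent b hb).ge (by
    have := cnt_local h11 hG (m := 40320) (by norm_num) (by norm_num)
    omega)
  obtain ⟨t, ht⟩ := exists_order (p := 2) (G := G) (by norm_num) (by norm_num) hG
  obtain ⟨z, hz⟩ := exists_order (p := 3) (G := G) (by norm_num) (by norm_num) hG
  obtain ⟨f, hf⟩ := exists_order (p := 5) (G := G) (by norm_num) (by norm_num) hG
  obtain ⟨v, hzv, hv⟩ : ∃ v, Commute z v ∧ orderOf v = 2 := by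
    have : Nonempty {v : G // Commute z v ∧ orderOf v = 2} :=
      (Nat.card_pos_iff.1 (by rw [h3.invol z hz]; norm_num)).1
    obtain ⟨⟨v, hv⟩⟩ := this
    exact ⟨v, hv⟩
  have hu : orderOf (z * v) = 6 := by
    rw [hzv.orderOf_mul_eq_mul_orderOf_of_coprime (by rw [hz, hv]; norm_num), hz, hv]
  set F : ℕ → Finset (ConjClasses G) := fun n => Finset.univ.filter fun K => cord K = n with hF
  have hone : ∀ {x : G} {n : ℕ}, orderOf x = n → 1 ≤ (F n).card := fun {x n} hx =>
    Finset.card_pos.2 ⟨ConjClasses.mk x, Finset.mem_filter.2 ⟨Finset.mem_univ _, hx⟩⟩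
  have htwo : ∀ {x y : G} {n : ℕ}, orderOf x = n → orderOf y = n → ¬ IsConj x y → 2 ≤ (F n).card :=
    fun {x y n} hx hy hxy => Finset.one_lt_card.2
      ⟨ConjClasses.mk x, Finset.mem_filter.2 ⟨Finset.mem_univ _, hx⟩, ConjClasses.mk y,
        Finset.mem_filter.2 ⟨Finset.mem_univ _, hy⟩,
        fun e => hxy (ConjClasses.mk_eq_mk_iff_isConj.1 e)⟩
  set R : Finset ℕ := {1, 2, 3, 5, 6, 7, 11} with hR
  have hsplit : (Finset.univ.filter fun K : ConjClasses G => cord K ∈ R).card =
      ∑ n ∈ R, (F n).card := by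
    rw [Finset.card_eq_sum_card_fiberwise (f := cord) (t := R)
      (s := Finset.univ.filter fun K : ConjClasses G => cord K ∈ R) fun K hK => by simpa using hK]
    refine Finset.sum_congr rfl fun n hn => congrArg Finset.card ?_
    ext K
    simp only [hF, Finset.mem_filter, Finset.mem_univ, true_and]
    exact ⟨fun h => h.2, fun h => ⟨h ▸ hn, h⟩⟩
  have hsum : ∑ n ∈ R, (F n).card =
      (F 1).card + ((F 2).card + ((F 3).card + ((F 5).card + ((F 6).card + ((F 7).card + (F 11).card))))) := by
    simp [hR]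
  have hneg := Finset.card_filter_add_card_filter_not (s := (Finset.univ : Finset (ConjClasses G)))
    (fun K => cord K ∈ R)
  rw [Finset.card_univ, h12, hsplit, hsum] at hneg
  have hY : Nat.card {K : ConjClasses G // Other (cord K)} =
      (Finset.univ.filter fun K : ConjClasses G => ¬ cord K ∈ R).card := by
    rw [Nat.card_eq_fintype_card, Fintype.card_subtype]
    refine congrArg Finset.card (Finset.filter_congr fun K _ => ?_)
    simp [hR, Other]
  have := hone (orderOf_one (G := G))
  have := hone ht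
  have := hone hz
  have := hone hf
  have := hone hu
  have := htwo ha ha' haa
  have := htwo hb hb' hbb
  omega

theorem count_other (hG : Nat.card G = 443520) (h11 : LocalEleven G) (h7 : LocalSeven G)
    (h5 : LocalFive G) (h2 : LocalTwo G) (h3 : LocalThree G) :
    Nat.card {g : G // Other (orderOf g)} = 97020 := by
  haveI : Fact (Nat.Prime 3) := ⟨Nat.prime_three⟩
  haveI : Fact (Nat.Prime 5) := ⟨by norm_num⟩
  haveI : Fact (Nat.Prime 7) := ⟨by norm_num⟩
  haveI : Fact (Nat.Prime 11) := ⟨by norm_num⟩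
  haveI := Fintype.ofFinite G
  have c5 := cnt_local h5 hG (m := 88704) (by norm_num) (by norm_num)
  have c7 := cnt_local h7 hG (m := 63360) (by norm_num) (by norm_num)
  have c11 := cnt_local h11 hG (m := 40320) (by norm_num) (by norm_num)
  obtain ⟨t, ht⟩ := exists_order (p := 2) (G := G) (by norm_num) (by norm_num) hG
  obtain ⟨z, hz⟩ := exists_order (p := 3) (G := G) (by norm_num) (by norm_num) hG
  have c2 := cnt_class hG h2.cent h2.conj ht
  have c3 := cnt_class hG h3.cent h3.conj hz
  have c1 : M22Nse.cnt G 1 = 1 := CfsgLib.Techniques.OrderClasses.cnt_one G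
  have c6 : M22Nse.cnt G 6 = 3 * M22Nse.cnt G 3 := by
    rw [show 6 = 3 * 2 from rfl, M22Nse.CountsP1.cnt_prod (by norm_num)]
    rw [Finset.sum_congr rfl fun x hx => show M22Nse.CountsP1.centCnt x 2 = 3 from
      h3.invol x (Finset.mem_filter.1 hx).2, Finset.sum_const, smul_eq_mul, mul_comm]
    congr 1
    rw [M22Nse.cnt, Nat.card_eq_fintype_card, Fintype.card_subtype]
  set F : ℕ → Finset G := fun n => Finset.univ.filter fun g => orderOf g = n with hF
  have hFc : ∀ n, (F n).card = M22Nse.cnt G n := fun n => by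
    rw [M22Nse.cnt, Nat.card_eq_fintype_card, Fintype.card_subtype]
  set R : Finset ℕ := {1, 2, 3, 5, 6, 7, 11} with hR
  have hsplit : (Finset.univ.filter fun g : G => orderOf g ∈ R).card = ∑ n ∈ R, M22Nse.cnt G n := by
    rw [Finset.card_eq_sum_card_fiberwise (f := orderOf) (t := R)
      (s := Finset.univ.filter fun g : G => orderOf g ∈ R) fun K hK => by simpa using hK]
    refine Finset.sum_congr rfl fun n hn => ?_
    rw [← hFc]
    refine congrArg Finset.card ?_
    ext K
    simp only [hF, Finset.mem_filter, Finset.mem_univ, true_and]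
    exact ⟨fun h => h.2, fun h => ⟨h ▸ hn, h⟩⟩
  have hneg := Finset.card_filter_add_card_filter_not (s := (Finset.univ : Finset G))
    (fun g => orderOf g ∈ R)
  rw [Finset.card_univ, ← Nat.card_eq_fintype_card, hG, hsplit] at hneg
  have hY : Nat.card {g : G // Other (orderOf g)} =
      (Finset.univ.filter fun g : G => ¬ orderOf g ∈ R).card := by
    rw [Nat.card_eq_fintype_card, Fintype.card_subtype]
    refine congrArg Finset.card (Finset.filter_congr fun g _ => ?_)
    simp [hR, Other]
  have hsum : ∑ n ∈ R, M22Nse.cnt G n = M22Nse.cnt G 1 + (M22Nse.cnt G 2 + (M22Nse.cnt G 3 +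
      (M22Nse.cnt G 5 + (M22Nse.cnt G 6 + (M22Nse.cnt G 7 + M22Nse.cnt G 11))))) := by
    simp [hR]
  omega

theorem le_eight (hG : Nat.card G = 443520) (h11 : LocalEleven G) (h7 : LocalSeven G)
    (h5 : LocalFive G) (h2 : LocalTwo G) (h3 : LocalThree G) (C : Chars G specMain) (y : G) :
    orderOf y ≠ 16 := by
  intro hy
  haveI := Fintype.ofFinite G
  haveI := Fintype.ofFinite (ConjClasses G)
  have hy2 : orderOf (y ^ 2) = 8 := by rw [orderOf_pow' _ (by norm_num), hy]; rfl
  have hy4 : orderOf (y ^ 4) = 4 := by rw [orderOf_pow' _ (by norm_num), hy]; rfl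
  have hsize : ∀ k : ℕ, Nat.card {h : G // IsConj (y ^ k) h} * 16 ≤ 443520 := fun k =>
    class_size hG (Nat.le_of_dvd Nat.card_pos (by
      rw [← hy]
      exact Subgroup.orderOf_dvd_natCard _ (mem_cen (Commute.self_pow y k))))
  set K : Finset (ConjClasses G) :=
    {ConjClasses.mk y, ConjClasses.mk (y ^ 2), ConjClasses.mk (y ^ 4)} with hK
  have hK3 : K.card = 3 := by
    have d : ∀ {a b : G}, orderOf a ≠ orderOf b → ConjClasses.mk a ≠ ConjClasses.mk b :=
      fun h e => h (conj_orderOf (ConjClasses.mk_eq_mk_iff_isConj.1 e))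
    rw [hK, Finset.card_insert_of_notMem, Finset.card_pair]
    · exact d (by omega)
    · simp only [Finset.mem_insert, Finset.mem_singleton, not_or]
      exact ⟨d (by omega), d (by omega)⟩
  have hall : (Finset.univ.filter fun c : ConjClasses G => Other (cord c)) = K := by
    refine (Finset.eq_of_subset_of_card_le (fun c hc => Finset.mem_filter.2 ⟨Finset.mem_univ _, ?_⟩) ?_).symm
    · simp only [hK, Finset.mem_insert, Finset.mem_singleton] at hc
      rcases hc with rfl | rfl | rfl <;> simp [cord_mk, hy, hy2, hy4, Other]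
    · rw [hK3, ← Fintype.card_subtype, ← Nat.card_eq_fintype_card]
      exact classes_le hG h11 h7 h3 C
  have hle : Nat.card {g : G // Other (orderOf g)} ≤ Nat.card {h : G // IsConj (y ^ 1) h} +
      (Nat.card {h : G // IsConj (y ^ 2) h} + Nat.card {h : G // IsConj (y ^ 4) h}) := by
    simp only [Nat.card_eq_fintype_card, Fintype.card_subtype, pow_one]
    refine le_trans (Finset.card_le_card ?_) ((Finset.card_union_le _ _).trans
      (Nat.add_le_add_left (Finset.card_union_le _ _) _))
    intro g hg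
    have hm : ConjClasses.mk g ∈ K := hall ▸ Finset.mem_filter.2
      ⟨Finset.mem_univ _, (Finset.mem_filter.1 hg).2⟩
    simp only [hK, Finset.mem_insert, Finset.mem_singleton, ConjClasses.mk_eq_mk_iff_isConj] at hm
    simp only [Finset.mem_union, Finset.mem_filter, Finset.mem_univ, true_and]
    rcases hm with e | e | e
    exacts [Or.inl e.symm, Or.inr (Or.inl e.symm), Or.inr (Or.inr e.symm)]
  have := count_other hG h11 h7 h5 h2 h3
  have := hsize 1
  have := hsize 2
  have := hsize 4
  omega

theorem orders_all (hG : Nat.card G = 443520) (h11 : LocalEleven G) (h7 : LocalSeven G)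
    (h5 : LocalFive G) (h2 : LocalTwo G) (h3 : LocalThree G) (C : Chars G specMain) (g : G) :
    orderOf g ∈ [1, 2, 3, 4, 5, 6, 7, 8, 11] := by
  have no16 : ∀ d, d ∣ orderOf g → d ≠ 16 := fun d hd e =>
    le_eight hG h11 h7 h5 h2 h3 C _ ((exists_pow_orderOf hd).trans e)
  rcases two_three hG h11 h7 h5 h3 g with h | h <;>
    simp only [List.mem_cons, List.not_mem_nil, or_false] at h ⊢
  · omega
  · rcases h with h | h | h | h | h | h | h | h | h | h
    all_goals first
      | omega
      | exact absurd rfl (no16 16 (h.symm ▸ (by norm_num)))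

theorem exists_eight (hG : Nat.card G = 443520) (h11 : LocalEleven G) (h7 : LocalSeven G)
    (h5 : LocalFive G) (h2 : LocalTwo G) (h3 : LocalThree G) (C : Chars G specMain) :
    ∃ g : G, orderOf g = 8 := by
  by_contra hno
  push Not at hno
  haveI := Fintype.ofFinite G
  have hfour : ∀ g : G, Other (orderOf g) ↔ orderOf g = 4 := fun g => by
    refine ⟨fun h => ?_, fun h => by rw [h]; decide⟩
    have h1 := orders_all hG h11 h7 h5 h2 h3 C g
    have h2' := hno g
    simp only [Other, List.mem_cons, List.not_mem_nil, or_false] at h h1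
    omega
  obtain ⟨t, ht⟩ := exists_order (p := 2) (G := G) (by norm_num) (by norm_num) hG
  have hroot : ∀ s : G, orderOf s = 2 →
      Nat.card {u : G // u * u = s} = Nat.card {u : G // u * u = t} := fun s hs => by
    obtain ⟨c, hc⟩ := isConj_iff.1 (h2.conj t s ht hs)
    refine (Nat.card_congr ((MulAut.conj c).toEquiv.subtypeEquiv fun u => ?_)).symm
    show u * u = t ↔ MulAut.conj c u * MulAut.conj c u = s
    rw [← map_mul, ← hc, MulAut.conj_apply]
    exact ⟨fun e => by rw [e], fun e => mul_left_cancel (mul_right_cancel e)⟩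
  have hiff : ∀ g s : G, orderOf s = 2 → g * g = s → orderOf g = 4 := fun g s hs e => by
    refine orderOf_eq_prime_pow (p := 2) (n := 1) ?_ ?_
    · rw [pow_one, sq, e]; exact (orderOf_eq_prime_iff.1 hs).2
    · rw [show 2 ^ (1 + 1) = 2 * 2 from rfl, pow_mul, sq g, e]
      exact (orderOf_eq_prime_iff.1 hs).1
  have hfib : ∀ s : G, orderOf s = 2 →
      ((Finset.univ.filter fun g : G => orderOf g = 4).filter fun g => g * g = s).card =
        Nat.card {u : G // u * u = t} := fun s hs => by
    rw [← hroot s hs, Nat.card_eq_fintype_card, Fintype.card_subtype]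
    refine congrArg Finset.card ?_
    ext g
    simp only [Finset.mem_filter, Finset.mem_univ, true_and]
    exact ⟨fun h => h.2, fun h => ⟨hiff g s hs h, h⟩⟩
  have hmaps : ∀ g ∈ (Finset.univ.filter fun g : G => orderOf g = 4),
      g * g ∈ (Finset.univ.filter fun s : G => orderOf s = 2) := fun g hg => by
    simp only [Finset.mem_filter, Finset.mem_univ, true_and] at hg ⊢
    rw [← sq, orderOf_pow' _ (by norm_num), hg]
    rfl
  have hcnt : Nat.card {g : G // orderOf g = 4} =
      M22Nse.cnt G 2 * Nat.card {u : G // u * u = t} := by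
    rw [M22Nse.cnt, Nat.card_eq_fintype_card, Fintype.card_subtype,
      Finset.card_eq_sum_card_fiberwise hmaps,
      Finset.sum_congr rfl fun s hs => hfib s (Finset.mem_filter.1 hs).2,
      Finset.sum_const, smul_eq_mul]
    congr 1
    rw [Nat.card_eq_fintype_card, Fintype.card_subtype]
  have hother := count_other hG h11 h7 h5 h2 h3
  rw [Nat.card_congr (Equiv.subtypeEquivRight hfour), hcnt] at hother
  have h1155 := cnt_class hG h2.cent h2.conj ht
  have hr := roots_sq_le C h2 ht
  rw [show M22Nse.cnt G 2 = 1155 by omega] at hother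
  rw [show Nat.card {u : G // u * u = t} = 84 by omega] at hr
  norm_num at hr

end OrdG

universe u

/-- Piece G: the element orders. -/
theorem orders : OrdersStmt.{u} := fun _ _ _ _ hG h11 h7 h5 h2 h3 C =>
  ⟨OrdG.orders_all hG h11 h7 h5 h2 h3 C, OrdG.exists_eight hG h11 h7 h5 h2 h3 C⟩

end CfsgLib.M22Order
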