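import Cfsg.Agent.Lib.M22Order.BlockArith
import Cfsg.Agent.Lib.M22Order.Interface

/-!
# Simple groups of order 443520: the seven-local structure, sub-pieces

The steps of piece C (`SevenStmt`), five before seven (`tools/S1663_plan.md`, C/D revised).
-/

set_option autoImplicit false

namespace CfsgLib.M22Order

open Cfsg CfsgLib.Chars CfsgLib.CharApps

universe u

/-- The values of the block at eleven at an involution `t`, and what they satisfy. -/
structure InvVals {G : Type u} [Group G] [Finite G] (T : TableEleven G) (t : G) (v : Fin 4 → ℤ) (w : ℤ) :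
    Prop where
  val : ∀ i, (v i : ℂ) = (T.a i : G → ℂ) t
  val_θ : ∀ j, (w : ℂ) = (T.θ j : G → ℂ) t
  four : ∀ i, (4 : ℤ) ∣ (T.list.1 i : ℤ) - v i
  lt : ∀ i, (v i).natAbs < T.list.1 i
  dvd : ∀ i, (T.list.1 i : ℤ) ∣ ((443520 / Nat.card (cen t) : ℕ) : ℤ) * v i
  sq_le : 1 + (∑ i, v i * v i) + 2 * (w * w) ≤ (Nat.card (cen t) : ℤ)
  fits : BlockArith.fitsValues (T.list.1 0) (T.list.1 1) (T.list.1 2) (T.list.1 3) (Nat.card (cen t))
    (v 0) (v 1) (v 2) (v 3) = true
  w_eq : w = (BlockArith.excDeg (T.list.1 0) (T.list.1 1) (T.list.1 2) (T.list.1 3)).sign *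
    (1 + (BlockArith.sgnDeg (T.list.1 0) * v 0 + BlockArith.sgnDeg (T.list.1 1) * v 1 +
      BlockArith.sgnDeg (T.list.1 2) * v 2 + BlockArith.sgnDeg (T.list.1 3) * v 3))

/-- The lists at eleven for which an element of order seven could centralize an involution: those
with a character of degree ten, and seven more. -/
def sevenLists : List ((Fin 4 → ℕ) × ℕ) :=
  [(![12, 21, 32, 45], 5), (![12, 32, 120, 144], 5), (![12, 56, 56, 120], 5),
    (![21, 120, 210, 210], 280), (![45, 56, 120, 210], 192), (![45, 120, 120, 210], 16),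
    (![45, 120, 144, 210], 280)]

/-- A list in question: a degree ten occurs or it is one of `sevenLists`. -/
def IsSevenList (l : (Fin 4 → ℕ) × ℕ) : Prop := (∃ i, l.1 i = 10) ∨ l ∈ sevenLists

/-- The possible orders of `C(t)` for a central involution `t` of the centralizer of an element of
order seven, by the index `e`. -/
def sevenCents : ℕ → List ℕ
  | 3 => [56, 168, 448, 840, 1344, 2016, 2520, 6720, 20160]
  | _ => [28, 56, 84, 168, 224, 420, 448, 672, 840, 1008, 1260, 1344, 2016, 2520, 3360, 6720, 8064,
      10080, 20160]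

/-- Piece C0: the values of the block at eleven at an involution. -/
def InvValsStmt : Prop :=
  ∀ (G : Type u) [Group G] [Finite G], IsSimpleGroup G → Nat.card G = 443520 → LocalEleven G →
    ∀ (T : TableEleven G) (t : G), orderOf t = 2 → ∃ v w, InvVals T t v w

/-- Piece C1: no element of order thirty-five. -/
def NoThirtyFiveStmt : Prop :=
  ∀ (G : Type u) [Group G] [Finite G], IsSimpleGroup G → Nat.card G = 443520 → LocalEleven G →
    ∀ _T : TableEleven G, ∀ g : G, orderOf g ≠ 35

/-- Piece C2: self-centralizing Sylow subgroups of order five for the lists in question. -/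
def FiveFirstStmt : Prop :=
  ∀ (G : Type u) [Group G] [Finite G], IsSimpleGroup G → Nat.card G = 443520 → LocalEleven G →
    (∀ g : G, orderOf g ≠ 35) → ∀ T : TableEleven G, IsSevenList T.list → LocalFive G

/-- Piece C3: a self-centralizing Sylow subgroup of order seven or a central involution of its
centralizer. -/
def SevenInvolStmt : Prop :=
  ∀ (G : Type u) [Group G] [Finite G], IsSimpleGroup G → Nat.card G = 443520 → LocalEleven G →
    (∀ g : G, orderOf g ≠ 35) → TableEleven G → LocalSeven G ∨
      ∃ (e : ℕ) (P : Sylow 7 G) (t : G), (e = 3 ∨ e = 6) ∧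
        (Subgroup.centralizer ((P : Subgroup G) : Set G)).relIndex
          (Subgroup.normalizer ((P : Subgroup G) : Set G)) = e ∧
        orderOf t = 2 ∧ t ∈ Subgroup.centralizer ((P : Subgroup G) : Set G) ∧
        Nat.card (cen t) ∈ sevenCents e

/-- Piece C4: no central involution of the centralizer of an element of order seven. -/
def SevenKillStmt : Prop :=
  ∀ (G : Type u) [Group G] [Finite G], IsSimpleGroup G → Nat.card G = 443520 → LocalEleven G →
    ∀ T : TableEleven G, (IsSevenList T.list → LocalFive G) → ∀ (e : ℕ) (P : Sylow 7 G) (t : G),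
      (e = 3 ∨ e = 6) →
        (Subgroup.centralizer ((P : Subgroup G) : Set G)).relIndex
          (Subgroup.normalizer ((P : Subgroup G) : Set G)) = e →
        orderOf t = 2 → t ∈ Subgroup.centralizer ((P : Subgroup G) : Set G) →
        Nat.card (cen t) ∈ sevenCents e → False

/-- Piece C5: the pairs of lists. -/
def SevenPairsStmt : Prop :=
  ∀ (G : Type u) [Group G] [Finite G], IsSimpleGroup G → Nat.card G = 443520 → LocalEleven G →
    LocalSeven G → ∀ T : TableEleven G, ∃ S : TableSeven G, (T.list, S.list) ∈ pairs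

theorem seven_of (hN : NoThirtyFiveStmt.{u}) (hF : FiveFirstStmt.{u}) (hI : SevenInvolStmt.{u}) (hK : SevenKillStmt.{u})
    (hP : SevenPairsStmt.{u}) : SevenStmt.{u} := by
  intro G _ _ hs hG L T
  have h35 := hN G hs hG L T
  have h7 : LocalSeven G := (hI G hs hG L h35 T).resolve_right
    fun ⟨e, P, t, he, hrel, ht, htC, hC⟩ => hK G hs hG L T (hF G hs hG L h35 T) e P t he hrel ht htC hC
  exact ⟨h7, hP G hs hG L h7 T⟩

end CfsgLib.M22Order
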