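import Cfsg.Agent.Lib.M22Order.BlockTable
import Cfsg.Agent.Lib.M22Order.SevenDefs
import Cfsg.Agent.Lib.Small.OrderTools

/-!
# Simple groups of order 443520: an involution for the Sylow subgroups of order seven

Index two of the centralizer in the normalizer needs three exceptional characters of one small
degree; otherwise the centralizer of a Sylow subgroup of order seven has a central involution.
-/

set_option autoImplicit false
set_option linter.style.haveILetI false
set_option linter.unusedSectionVars false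

open Cfsg CfsgLib.Chars CfsgLib.CharApps CfsgLib.Blocks CfsgLib.Small

namespace CfsgLib.M22Order.SevenInvol

open CfsgLib.M22Order.BlockTable

universe u

section Arith

set_option maxRecDepth 100000
set_option synthInstance.maxHeartbeats 100000
set_option synthInstance.maxSize 4096

theorem option_list : ∀ k ∈ Nat.divisors 1152, ∀ e ∈ ([2, 3, 6] : List ℕ), e * k ∣ 63360 →
    63360 / (e * k) % 7 = 1 →
      (e, k) ∈ ([(2, 96), (2, 12), (3, 64), (3, 8), (6, 32), (6, 4), (3, 1)] : List (ℕ × ℕ)) := by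
  decide +kernel

theorem two_degrees : ∀ d ∈ List.range 666, d ∣ 443520 → d ≠ 1 → ∀ s ∈ ([1, -1] : List ℤ),
    s * (d : ℤ) % 7 = 1 → 2 ≤ (1 + s * (d : ℤ)).natAbs → 443520 % (1 + s * (d : ℤ)).natAbs = 0 →
      (1 + s * (d : ℤ)).natAbs ∈ ([5, 9, 16] : List ℕ) := by
  decide +kernel

theorem tables_degrees : ∀ l ∈ tables, ∀ i : Fin 4, l.1 i ∉ ([5, 9, 16] : List ℕ) := by
  decide +kernel

theorem cent_list : ∀ q ∈ ([(3, 64), (3, 8), (6, 32), (6, 4)] : List (ℕ × ℕ)),
    ∀ f ∈ ([1, 2, 3, 6] : List ℕ), f ∣ q.1 → ∀ C ∈ Nat.divisors 40320, 7 * q.2 * f ∣ C →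
      C / (7 * q.2 * f) % 7 = 1 → C ∈ sevenCents q.1 := by
  decide +kernel

end Arith

section General

variable {G : Type u} [Group G] [Finite G]

/-- A central involution of the centralizer of a Sylow subgroup of order seven. -/
theorem exists_central_two {P : Sylow 7 G} [Fact (Nat.Prime 7)]
    (hP : Nat.card (P : Subgroup G) = 7) {j : ℕ} (hj : j ≠ 0)
    (hC : Nat.card (Subgroup.centralizer ((P : Subgroup G) : Set G)) = 7 * 2 ^ j) :
    ∃ t : G, orderOf t = 2 ∧ t ∈ Subgroup.centralizer ((P : Subgroup G) : Set G) ∧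
      Subgroup.centralizer ((P : Subgroup G) : Set G) ≤ cen t := by
  haveI := Fact.mk Nat.prime_two
  haveI := (isCyclic_of_prime_card hP).isMulCommutative
  set C := Subgroup.centralizer ((P : Subgroup G) : Set G) with hCdef
  have hPC : (P : Subgroup G) ≤ C := Subgroup.le_centralizer _
  obtain ⟨S⟩ := (inferInstance : Nonempty (Sylow 2 C))
  have hS : Nat.card (S : Subgroup C) = 2 ^ j :=
    card_sylow_eq (p := 2) j 7 (by rw [hC, mul_comm]) (by norm_num) S
  haveI : Nontrivial (S : Subgroup C) := Finite.one_lt_card_iff_nontrivial.1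
    (by rw [hS]; exact Nat.one_lt_two_pow hj)
  haveI := S.2.center_nontrivial
  obtain ⟨i, hi⟩ := IsPGroup.iff_card.1 (S.2.to_subgroup (Subgroup.center (S : Subgroup C)))
  have hi0 : i ≠ 0 := fun h => by
    rw [h, pow_zero] at hi
    have := Finite.one_lt_card_iff_nontrivial.2 (inferInstance :
      Nontrivial (Subgroup.center (S : Subgroup C)))
    omega
  obtain ⟨z, hz⟩ := exists_prime_orderOf_dvd_card' (G := Subgroup.center (S : Subgroup C)) 2
    (hi ▸ dvd_pow_self 2 hi0)
  set s : C := ((z : (S : Subgroup C)) : C) with hs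
  refine ⟨(s : G), by rw [Subgroup.orderOf_coe, hs, Subgroup.orderOf_coe, Subgroup.orderOf_coe, hz],
    s.2, ?_⟩
  -- the centralizer of `s` in `C` contains both Sylow subgroups
  set Z := Subgroup.centralizer ({s} : Set C) with hZ
  have hSZ : (S : Subgroup C) ≤ Z := fun y hy => Subgroup.mem_centralizer_singleton_iff.2
    (congrArg Subtype.val (Subgroup.mem_center_iff.1 z.2 ⟨y, hy⟩))
  have hPZ : (P : Subgroup G).subgroupOf C ≤ Z := fun y hy =>
    Subgroup.mem_centralizer_singleton_iff.2
      (Subtype.ext (Subgroup.mem_centralizer_iff.1 s.2 (y : G) (Subgroup.mem_subgroupOf.1 hy)))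
  have h2 := Subgroup.card_dvd_of_le hSZ
  rw [hS] at h2
  have h7 := Subgroup.card_dvd_of_le hPZ
  rw [Nat.card_congr (Subgroup.subgroupOfEquivOfLe hPC).toEquiv, hP] at h7
  have hdvd : 7 * 2 ^ j ∣ Nat.card Z :=
    Nat.Coprime.mul_dvd_of_dvd_of_dvd (Nat.Coprime.pow_right j (by norm_num)) h7 h2
  have hZt : Z = ⊤ := Subgroup.eq_top_of_le_card Z
    (by rw [hC]; exact Nat.le_of_dvd Nat.card_pos hdvd)
  intro c hc
  refine Subgroup.mem_centralizer_singleton_iff.2 ?_
  have h : (⟨c, hc⟩ : C) ∈ Z := hZt ▸ Subgroup.mem_top _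
  exact congrArg Subtype.val (Subgroup.mem_centralizer_singleton_iff.1 h)

/-- A subgroup containing the centralizer of a Sylow subgroup, by Sylow's theorem. -/
theorem card_eq_of_centralizer_le {p : ℕ} [Fact p.Prime] (P : Sylow p G)
    (hPC : (P : Subgroup G) ≤ Subgroup.centralizer ((P : Subgroup G) : Set G)) (H : Subgroup G)
    (hH : Subgroup.centralizer ((P : Subgroup G) : Set G) ≤ H) :
    ∃ f n, f ∣ (Subgroup.centralizer ((P : Subgroup G) : Set G)).relIndex
        (Subgroup.normalizer ((P : Subgroup G) : Set G)) ∧ n % p = 1 ∧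
      Nat.card H = Nat.card (Subgroup.centralizer ((P : Subgroup G) : Set G)) * f * n := by
  set C := Subgroup.centralizer ((P : Subgroup G) : Set G) with hC
  set N := Subgroup.normalizer ((P : Subgroup G) : Set G) with hN
  have hCN : C ≤ N ⊓ H := le_inf (Subgroup.centralizer_le_normalizer _) hH
  refine ⟨C.relIndex (N ⊓ H), Nat.card (Sylow p H), ⟨(N ⊓ H).relIndex N, ?_⟩,
    Eq.trans (card_sylow_modEq_one p H) (Nat.mod_eq_of_lt (Fact.out : p.Prime).one_lt), ?_⟩
  · rw [Subgroup.relIndex_mul_relIndex _ _ _ hCN inf_le_left]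
  have hPH : (P : Subgroup G) ≤ H := hPC.trans hH
  have h := card_normalizer_mul (P.subtype hPH)
  have hnorm : Nat.card (Subgroup.normalizer (((P.subtype hPH : Sylow p H) : Subgroup H) : Set H)) =
      Nat.card (N ⊓ H : Subgroup G) := by
    rw [Sylow.coe_subtype, ← Subgroup.subgroupOf_normalizer_eq hPH, ← hN, ← Subgroup.inf_subgroupOf_right]
    exact Nat.card_congr (Subgroup.subgroupOfEquivOfLe inf_le_right).toEquiv
  have h2 := Subgroup.relIndex_mul_relIndex _ _ _ bot_le hCN
  rw [Subgroup.relIndex_bot_left, Subgroup.relIndex_bot_left] at h2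
  rw [← h, hnorm, ← h2]

end General

variable {G : Type u} [Group G] [Finite G] [IsSimpleGroup G] (hG : Nat.card G = 443520)

include hG

/-- The index of the centralizer in the normalizer is not two. -/
theorem relIndex_ne_two (T : TableEleven G) (P : Sylow 7 G) [Fact (Nat.Prime 7)]
    (hP : Nat.card (P : Subgroup G) = 7) :
    (Subgroup.centralizer ((P : Subgroup G) : Set G)).relIndex
      (Subgroup.normalizer ((P : Subgroup G) : Set G)) ≠ 2 := by
  classical
  intro hrel'
  haveI := Fintype.ofFinite G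
  obtain ⟨M, hM⟩ := CharApps.exists_pModular (p := 7)
  haveI := hM.2.1.isPrime
  obtain ⟨X, Y, σ, ε, hB, hdisj, hX, hY, hXp, hε, hYd, hYeq, hrel⟩ :=
    Small.O7920.exists_block_data (by norm_num) hM P hP hrel'
  norm_num at hY
  have h1 : ¬ 7 ∣ orderOf (1 : G) := by rw [orderOf_one]; norm_num
  have hprin : principal G ∈ X := by
    rcases (hB _).1 (CfsgLib.Blocks.principal_mem_principalBlock M) with h | h
    · exact h
    exfalso
    obtain ⟨a, ha, hane⟩ := Finset.exists_mem_ne (show 1 < Y.card by omega) (principal G)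
    have h2 := hYeq a ha _ h 1 h1
    rw [deg_eq, principal_apply, Nat.cast_eq_one] at h2
    exact hane (eq_principal hG h2)
  obtain ⟨χ, hχ⟩ := Finset.card_eq_one.1
    (show (X.erase (principal G)).card = 1 by rw [Finset.card_erase_of_mem hprin, hX])
  obtain ⟨hχne, hχX⟩ := Finset.mem_erase.1 (hχ ▸ Finset.mem_singleton_self χ :
    χ ∈ X.erase (principal G))
  have hσp : σ (principal G) = 1 := by
    have h := (hXp _ hprin).2.1
    rw [principal_degree hG, Int.modEq_iff_dvd] at h
    rcases (hXp _ hprin).1 with h' | h' <;> rw [h'] at h ⊢ <;> omega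
  obtain ⟨hlt, hdvd, -⟩ := degree_facts hG χ
  obtain ⟨hs, hmod, -⟩ := hXp χ hχX
  have hsmem : σ χ ∈ ([1, -1] : List ℤ) := by simpa using hs
  have hd1 : charDegree (χ : G → ℂ) ≠ 1 := fun h => hχne (eq_principal hG h)
  have hmod' : σ χ * (charDegree (χ : G → ℂ) : ℤ) % 7 = 1 := by
    have h : σ χ * (charDegree (χ : G → ℂ) : ℤ) % ((7 : ℕ) : ℤ) = 1 % ((7 : ℕ) : ℤ) := hmod
    norm_num at h
    exact h
  -- the three exceptional characters have a small degree
  have hdeg : ∀ θ ∈ Y, θ ≠ principal G ∧ charDegree (θ : G → ℂ) ∈ ([5, 9, 16] : List ℕ) := by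
    intro θ hθ
    have hne : θ ≠ principal G := fun h => Finset.disjoint_left.1 hdisj hprin (h ▸ hθ)
    refine ⟨hne, ?_⟩
    have h := hrel θ hθ 1 h1
    rw [← Finset.add_sum_erase _ _ hprin, hχ, Finset.sum_singleton, hσp, principal_apply] at h
    simp only [deg_eq] at h
    have he : ε * (charDegree (θ : G → ℂ) : ℤ) = 1 + σ χ * (charDegree (χ : G → ℂ) : ℤ) := by
      apply Int.cast_injective (α := ℂ)
      push_cast
      linear_combination h
    have habs : (1 + σ χ * (charDegree (χ : G → ℂ) : ℤ)).natAbs = charDegree (θ : G → ℂ) := by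
      rw [← he]
      rcases hε with h' | h' <;> simp [h']
    obtain ⟨-, hθd, hθ0⟩ := degree_facts hG θ
    have hθ1 : charDegree (θ : G → ℂ) ≠ 1 := fun h' => hne (eq_principal hG h')
    have := two_degrees _ (List.mem_range.2 hlt) hdvd hd1 _ hsmem hmod'
    rw [habs] at this
    exact this (by omega) (Nat.mod_eq_zero_of_dvd hθd)
  -- they are the two exceptional characters of the table at eleven
  have hsub : Y ⊆ Finset.univ.image T.θ := by
    intro θ hθ
    obtain ⟨hne, hmem⟩ := hdeg θ hθ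
    rcases T.cover θ with h | ⟨i, hi⟩ | h
    · exact absurd h hne
    · induction i using Fin.addCases with
      | left i =>
        rw [Fin.append_left] at hi
        rw [hi, T.deg_a i] at hmem
        exact absurd hmem (tables_degrees _ T.mem i)
      | right j =>
        rw [Fin.append_right] at hi
        exact Finset.mem_image.2 ⟨j, Finset.mem_univ _, hi.symm⟩
    · exfalso
      have key : ∀ d ∈ ([5, 9, 16] : List ℕ), ¬ 11 ∣ d := by decide
      exact key _ hmem h.1
  have := (Finset.card_le_card hsub).trans Finset.card_image_le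
  rw [hY, Finset.card_univ, Fintype.card_fin] at this
  omega

/-- Piece C3, for a group with a table at eleven. -/
theorem localSeven_or_invol (L : LocalEleven G) (h35 : ∀ g : G, orderOf g ≠ 35) (T : TableEleven G) :
    LocalSeven G ∨
      ∃ (e : ℕ) (P : Sylow 7 G) (t : G), (e = 3 ∨ e = 6) ∧
        (Subgroup.centralizer ((P : Subgroup G) : Set G)).relIndex
          (Subgroup.normalizer ((P : Subgroup G) : Set G)) = e ∧
        orderOf t = 2 ∧ t ∈ Subgroup.centralizer ((P : Subgroup G) : Set G) ∧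
        Nat.card (cen t) ∈ sevenCents e := by
  haveI := Fact.mk (show Nat.Prime 7 by norm_num)
  haveI := Fact.mk (show Nat.Prime 5 by norm_num)
  haveI := Fact.mk (show Nat.Prime 11 by norm_num)
  obtain ⟨P, n, e, k, hP, hn, hmem, hrel, hC, hN, hnek⟩ :=
    exists_prime_option (nonabelian hG) hG 7 63360 (by norm_num) (by norm_num) (by norm_num)
  have hn1 : n % 7 = 1 := by
    rw [← hn]; exact Eq.trans (card_sylow_modEq_one 7 G) (by norm_num)
  have he : e ∈ ([2, 3, 6] : List ℕ) := by
    have : e < 7 ∧ 1 < e ∧ e ∣ 6 := by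
      simp only [primeOptions, List.mem_flatMap, List.mem_map, List.mem_filter, List.mem_range,
        Bool.and_eq_true, decide_eq_true_eq, Prod.mk.injEq] at hmem
      obtain ⟨_, -, e', ⟨h1, ⟨⟨⟨⟨h2, h3⟩, -⟩, -⟩, -⟩, -⟩, -, rfl, -⟩ := hmem
      exact ⟨h1, h2, h3⟩
    obtain ⟨h1, h2, h3⟩ := this
    interval_cases e <;> first | decide | omega
  obtain ⟨z, hz⟩ := exists_prime_orderOf_dvd_card' (G := (P : Subgroup G)) 7 (by rw [hP])
  have hzo : orderOf (z : G) = 7 := by rw [Subgroup.orderOf_coe, hz]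
  have hno : ∀ q : ℕ, [Fact q.Prime] → q ∣ k →
      ∃ y : G, orderOf y = q ∧ Commute y z := fun q _ hq => by
    obtain ⟨y, hy⟩ := exists_prime_orderOf_dvd_card'
      (G := Subgroup.centralizer ((P : Subgroup G) : Set G)) q (by rw [hC]; exact hq.mul_left 7)
    exact ⟨y, by rw [Subgroup.orderOf_coe, hy],
      (Subgroup.mem_centralizer_iff.1 y.2 z z.2).symm⟩
  have h5k : ¬ 5 ∣ k := fun h => by
    obtain ⟨y, hy, hyz⟩ := hno 5 h
    refine h35 (y * z) ?_
    rw [hyz.orderOf_mul_eq_mul_orderOf_of_coprime (by rw [hy, hzo]; norm_num), hy, hzo]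
  have h11k : ¬ 11 ∣ k := fun h => by
    obtain ⟨y, hy, hyz⟩ := hno 11 h
    have h := Subgroup.orderOf_dvd_natCard (cen y)
      (Subgroup.mem_centralizer_singleton_iff.2 hyz.symm.eq)
    rw [hzo, L.cent y hy] at h
    norm_num at h
  have hek : e * k ∣ 63360 := ⟨n, by rw [← hnek, mul_comm]⟩
  have hk : k ∣ 1152 := by
    have h : k ∣ 1152 * 55 := (dvd_mul_left k e).trans (show e * k ∣ 1152 * 55 from hek)
    refine Nat.Coprime.dvd_of_dvd_mul_right ?_ h
    rw [show (55 : ℕ) = 5 * 11 from rfl]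
    exact Nat.Coprime.mul_right ((Nat.Prime.coprime_iff_not_dvd Fact.out).2 h5k).symm
      ((Nat.Prime.coprime_iff_not_dvd Fact.out).2 h11k).symm
  have hek0 : 0 < e * k := Nat.pos_of_ne_zero fun h => by rw [h] at hek; norm_num at hek
  have hnval : 63360 / (e * k) = n := Nat.div_eq_of_eq_mul_left hek0 hnek.symm
  have hopt := option_list k (Nat.mem_divisors.2 ⟨hk, by norm_num⟩) e he hek (by rw [hnval, hn1])
  -- self-centralizing or a central involution
  have hinv : ∀ j : ℕ, j ≠ 0 → k = 2 ^ j → (e, k) ∈ ([(3, 64), (3, 8), (6, 32), (6, 4)] : List (ℕ × ℕ)) →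
      ∃ (e : ℕ) (P : Sylow 7 G) (t : G), (e = 3 ∨ e = 6) ∧
        (Subgroup.centralizer ((P : Subgroup G) : Set G)).relIndex
          (Subgroup.normalizer ((P : Subgroup G) : Set G)) = e ∧
        orderOf t = 2 ∧ t ∈ Subgroup.centralizer ((P : Subgroup G) : Set G) ∧
        Nat.card (cen t) ∈ sevenCents e := by
    intro j hj hkj hq
    obtain ⟨t, ht, htC, hle⟩ := exists_central_two hP hj (by rw [hC, hkj])
    haveI := (isCyclic_of_prime_card hP).isMulCommutative
    obtain ⟨f, n', hf, hn', hcard⟩ :=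
      card_eq_of_centralizer_le P (Subgroup.le_centralizer _) (cen t) hle
    rw [hrel] at hf
    rw [hC] at hcard
    have he' : e = 3 ∨ e = 6 := by
      simp only [List.mem_cons, Prod.mk.injEq, List.not_mem_nil, or_false] at hq
      omega
    refine ⟨e, P, t, he', hrel, ht, htC, cent_list (e, k) hq f ?_ hf _ ?_ ⟨n', hcard⟩ ?_⟩
    · have : ∀ f ∈ Nat.divisors 6, f ∈ ([1, 2, 3, 6] : List ℕ) := by decide
      refine this f (Nat.mem_divisors.2 ⟨hf.trans ?_, by norm_num⟩)
      rcases he' with h | h <;> rw [h] <;> norm_num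
    · refine Nat.mem_divisors.2 ⟨?_, by norm_num⟩
      have hd : Nat.card (cen t) ∣ 40320 * 11 := by
        rw [show (40320 : ℕ) * 11 = Nat.card G by rw [hG]]
        exact Subgroup.card_subgroup_dvd_card _
      exact Nat.Coprime.dvd_of_dvd_mul_right
        ((Nat.Prime.coprime_iff_not_dvd Fact.out).2 (not_dvd_cen_involution hG L ht)).symm hd
    · have hpos : 0 < 7 * k * f := Nat.pos_of_ne_zero fun h => by
        rw [h, zero_mul] at hcard
        exact Nat.card_pos.ne' hcard
      rw [hcard, Nat.mul_div_cancel_left _ hpos, hn']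
  simp only [List.mem_cons, Prod.mk.injEq, List.not_mem_nil, or_false] at hopt
  rcases hopt with ⟨h1, -⟩ | ⟨h1, -⟩ | ⟨h1, h2⟩ | ⟨h1, h2⟩ | ⟨h1, h2⟩ | ⟨h1, h2⟩ | ⟨h1, h2⟩
  · exact absurd (h1 ▸ hrel) (relIndex_ne_two hG T P hP)
  · exact absurd (h1 ▸ hrel) (relIndex_ne_two hG T P hP)
  · exact Or.inr (hinv 6 (by norm_num) h2 (by simp [h1, h2]))
  · exact Or.inr (hinv 3 (by norm_num) h2 (by simp [h1, h2]))
  · exact Or.inr (hinv 5 (by norm_num) h2 (by simp [h1, h2]))
  · exact Or.inr (hinv 2 (by norm_num) h2 (by simp [h1, h2]))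
  refine Or.inl ⟨fun x hx => ?_, fun Q => ?_⟩
  · obtain ⟨Q, hle⟩ := (IsPGroup.of_card (p := 7) (n := 1)
      (show Nat.card (Subgroup.zpowers x) = 7 ^ 1 by
        rw [Nat.card_zpowers, hx, pow_one])).exists_le_sylow
    have hQ : Nat.card (Q : Subgroup G) = 7 :=
      (Q.card_eq_multiplicity.trans P.card_eq_multiplicity.symm).trans hP
    have hQz : Subgroup.zpowers x = (Q : Subgroup G) :=
      Subgroup.eq_of_le_of_card_ge hle (by rw [hQ, Nat.card_zpowers, hx])
    rw [cen, ← Subgroup.centralizer_closure, ← Subgroup.zpowers_eq_closure, hQz,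
      card_centralizer_sylow_eq Q P, hC, h2]
  · have h := card_normalizer_mul Q
    rw [hn, hG] at h
    have hn21 : n = 21120 := by rw [← hnval, h1, h2]
    rw [hn21] at h
    omega

omit hG in
/-- Piece C3. -/
theorem sevenInvol : SevenInvolStmt.{u} := by
  intro G _ _ hs hG L h35 T
  haveI := hs
  exact localSeven_or_invol hG L h35 T

end CfsgLib.M22Order.SevenInvol
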