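import Cfsg.Agent.Lib.M22Order.SevenKillFive

/-!
# Simple groups of order 443520: no central involution at seven (piece C4)
-/

set_option autoImplicit false
set_option linter.style.haveILetI false
set_option linter.unusedSectionVars false

open Cfsg CfsgLib.Chars CfsgLib.CharApps CfsgLib.Blocks CfsgLib.Small

namespace CfsgLib.M22Order.SevenKill

open CfsgLib.M22Order.SevenArith

universe u

theorem exc_check : ∀ x ∈ tables, (List.ofFn x.1 = [10, 21, 45, 120] → x.2 = 105) ∧
    (List.ofFn x.1 = [21, 120, 210, 210] → x.2 = 280) := by decide +kernel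

variable {G : Type u} [Group G] [Finite G] [IsSimpleGroup G]

theorem unpack {T : TableEleven G} {t : G} {F : IrrCharacter G → ℤ} {a b c d C : ℕ} {p q r s w : ℤ}
    (h : ((degList T).1, Nat.card (cen t), lvals T F) = ([a, b, c, d], C, [p, q, r, s, w])) :
    T.list.1 0 = a ∧ T.list.1 1 = b ∧ T.list.1 2 = c ∧ T.list.1 3 = d ∧ Nat.card (cen t) = C ∧
      F (T.a 0) = p ∧ F (T.a 1) = q ∧ F (T.a 2) = r ∧ F (T.a 3) = s ∧ F (T.θ 0) = w := by
  simp only [degList, lvals, List.ofFn_succ, List.ofFn_zero, Prod.mk.injEq, List.cons.injEq,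
    and_true] at h
  obtain ⟨⟨h0, h1, h2, h3⟩, hC, hp, hq, hr, hs, hw⟩ := h
  exact ⟨h0, h1, h2, h3, hC, hp, hq, hr, hs, hw⟩

variable (hG : Nat.card G = 443520) {T : TableEleven G} {P : Sylow 7 G} {t : G}
  {F : IrrCharacter G → ℤ} (K : Ctx T P t F)

include hG K

/-- The configurations with a pair of degree 66. -/
theorem false_A (L : LocalEleven G)
    (hk : ((degList T).1, Nat.card (cen t), lvals T F) ∈ configsA) {θ θ' : IrrCharacter G}
    (hne : θ ≠ θ') (hd : charDegree (θ : G → ℂ) = 66) (hd' : charDegree (θ' : G → ℂ) = 66)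
    (hv : F θ = 10) (hv' : F θ' = 10) : False := by
  simp only [configsA, List.mem_cons, List.not_mem_nil, or_false] at hk
  rcases hk with h | h | h | h
  · obtain ⟨-, hb, -, -, hC, -, hq, -, -, -⟩ := unpack h
    exact kill_A hG K L hC hne hd hd' hv hv' (c := T.a 1) ((T.deg_a 1).trans hb) hq
      (Or.inl ⟨rfl, rfl, rfl⟩)
  · obtain ⟨-, -, -, hdd, hC, -, -, -, hs, -⟩ := unpack h
    exact kill_A hG K L hC hne hd hd' hv hv' (c := T.a 3) ((T.deg_a 3).trans hdd) hs
      (Or.inr ⟨rfl, rfl, rfl⟩)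
  · obtain ⟨ha, -, -, -, hC, hp, -, -, -, -⟩ := unpack h
    exact kill_A hG K L hC hne hd hd' hv hv' (c := T.a 0) ((T.deg_a 0).trans ha) hp
      (Or.inl ⟨rfl, rfl, rfl⟩)
  · obtain ⟨ha, -, -, -, hC, hp, -, -, -, -⟩ := unpack h
    exact kill_A hG K L hC hne hd hd' hv hv' (c := T.a 0) ((T.deg_a 0).trans ha) hp
      (Or.inl ⟨rfl, rfl, rfl⟩)

/-- The degree 21 in a surviving configuration. -/
theorem twentyOne [DecidableEq (IrrCharacter G)]
    (hk : ((degList T).1, Nat.card (cen t), lvals T F) ∈ configsA)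
    (h21 : 21 ∈ (degList T).1) :
    ∃ c : IrrCharacter G, charDegree (c : G → ℂ) = 21 ∧ F c = -7 ∧
      ∀ χ ∈ blockSet T, χ = principal G ∨ χ = c ∨ 5 ∣ charDegree (χ : G → ℂ) := by
  have hθ : ∀ {n : ℕ}, T.list.2 = n → 5 ∣ n → ∀ j, 5 ∣ charDegree (T.θ j : G → ℂ) :=
    fun hn h5 j => by rw [T.deg_θ, hn]; exact h5
  have hall : ∀ (c : IrrCharacter G) (P : Fin 4 → Prop), (∀ i, P i) →
      (∀ i, P i → T.a i = c ∨ 5 ∣ T.list.1 i) → (∀ j, 5 ∣ charDegree (T.θ j : G → ℂ)) →
      ∀ χ ∈ blockSet T, χ = principal G ∨ χ = c ∨ 5 ∣ charDegree (χ : G → ℂ) := by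
    intro c P hP hPa hPθ χ hχ
    rw [blockSet, Finset.mem_insert] at hχ
    rcases hχ with h | h
    · exact Or.inl h
    obtain ⟨i, -, rfl⟩ := Finset.mem_image.1 h
    induction i using Fin.addCases with
    | left i =>
      rw [Fin.append_left]
      rcases hPa i (hP i) with e | e
      · exact Or.inr (Or.inl e)
      · exact Or.inr (Or.inr (by rw [T.deg_a]; exact e))
    | right j => rw [Fin.append_right]; exact Or.inr (Or.inr (hPθ j))
  simp only [configsA, List.mem_cons, List.not_mem_nil, or_false] at hk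
  rcases hk with h | h | h | h
  · obtain ⟨ha, hb, hc, hd, -, -, hq, -, -, -⟩ := unpack h
    have he := (exc_check _ T.mem).1 (congrArg Prod.fst h)
    refine ⟨T.a 1, (T.deg_a 1).trans hb, hq, hall _ (fun _ => True) (fun _ => trivial)
      (fun i _ => ?_) (hθ he (by norm_num))⟩
    fin_cases i
    · exact Or.inr (by simp [ha])
    · exact Or.inl rfl
    · exact Or.inr (by simp [hc])
    · exact Or.inr (by simp [hd])
  · rw [congrArg Prod.fst h] at h21
    simp at h21
  all_goals
    obtain ⟨ha, hb, hc, hd, -, hp, -, -, -, -⟩ := unpack h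
    have he := (exc_check _ T.mem).2 (congrArg Prod.fst h)
    refine ⟨T.a 0, (T.deg_a 0).trans ha, hp, hall _ (fun _ => True) (fun _ => trivial)
      (fun i _ => ?_) (hθ he (by norm_num))⟩
    fin_cases i
    · exact Or.inl rfl
    · exact Or.inr (by simp [hb])
    · exact Or.inr (by simp [hc])
    · exact Or.inr (by simp [hd])

/-- The shapes with four or two characters of degree 55 in a surviving configuration. -/
theorem false_DE [DecidableEq (IrrCharacter G)] (L : LocalEleven G)
    (hk : ((degList T).1, Nat.card (cen t), lvals T F) ∈ configsA) (h21 : 21 ∈ (degList T).1)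
    {h : IrrCharacter G} (hdh : charDegree (h : G → ℂ) = 99) (hvh : F h = 15)
    (N : Finset (IrrCharacter G))
    (hN : ∀ χ ∈ N, 11 ∣ charDegree (χ : G → ℂ) ∧ (χ = h ∨ 5 ∣ charDegree (χ : G → ℂ)))
    (hlt : (Nat.card (cen t) : ℤ) < base (lvals T F) + (∑ χ ∈ N, F χ * F χ) + 221) : False := by
  obtain ⟨c, hc, hvc, hB⟩ := twentyOne hG K hk h21
  have := bound_DE hG K L hc hvc hdh hvh N hN hB
  omega

/-- The index six. -/
theorem false_six (L : LocalEleven G) (he : (Subgroup.centralizer ((P : Subgroup G) : Set G)).relIndex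
    (Subgroup.normalizer ((P : Subgroup G) : Set G)) = 6) : False := by
  classical
  haveI := Fintype.ofFinite G
  haveI := irrFintype G
  haveI := Fact.mk (show Nat.Prime 7 by norm_num)
  obtain ⟨M, hM⟩ := CharApps.exists_pModular (p := 7)
  obtain ⟨Z, hZc, hpZ, hZ, hrel⟩ := block_six hG hM P K.card_P he
  let e₀ : Fin 6 ≃ Z := (Z.equivFinOfCardEq hZc).symm
  let b : Fin 6 → IrrCharacter G := fun i => (e₀ i : IrrCharacter G)
  let π : Equiv.Perm (Fin 6) := Tuple.sort fun i => charDegree (b i : G → ℂ)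
  let f : Fin 6 → IrrCharacter G := fun i => b (π i)
  have hmono : Monotone fun i => charDegree (f i : G → ℂ) :=
    Tuple.monotone_sort fun i => charDegree (b i : G → ℂ)
  have hf : ∀ i, f i ∈ Z := fun i => (e₀ (π i)).2
  have hfi : Function.Injective f := fun i j h => π.injective (e₀.injective (Subtype.ext h))
  have hfne : ∀ i, f i ≠ principal G := fun i h => hpZ (h ▸ hf i)
  have himg : Finset.univ.image f = Z := Finset.eq_of_subset_of_card_le
    (fun x hx => by obtain ⟨i, -, rfl⟩ := Finset.mem_image.1 hx; exact hf i)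
    (by rw [Finset.card_image_of_injective _ hfi, hZc]; simp)
  set d : Fin 6 → ℕ := fun i => charDegree (f i : G → ℂ) with hd
  have hpool : ∀ i, d i ∈ pool := fun i => mem_pool hG K L (f i) (hfne i) (hZ _ (hf i)).2
  have hrelg : ∀ g : G, ¬ 7 ∣ orderOf g → (sgn7 (d 0) : ℂ) * (f 0 : G → ℂ) g +
      (sgn7 (d 1) : ℂ) * (f 1 : G → ℂ) g + (sgn7 (d 2) : ℂ) * (f 2 : G → ℂ) g +
      (sgn7 (d 3) : ℂ) * (f 3 : G → ℂ) g + (sgn7 (d 4) : ℂ) * (f 4 : G → ℂ) g +
      (sgn7 (d 5) : ℂ) * (f 5 : G → ℂ) g = -1 := by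
    intro g hg
    have h := hrel g hg
    rw [← himg, Finset.sum_image fun i _ j _ h => hfi h, Fin.sum_univ_six] at h
    exact h
  have hdeg : 1 + (sgn7 (d 0) * (d 0 : ℤ) + sgn7 (d 1) * (d 1 : ℤ) + sgn7 (d 2) * (d 2 : ℤ) +
      sgn7 (d 3) * (d 3 : ℤ) + sgn7 (d 4) * (d 4 : ℤ) + sgn7 (d 5) * (d 5 : ℤ)) = 0 := by
    have h := hrelg 1 (by rw [orderOf_one]; norm_num)
    simp only [deg_eq] at h
    apply Int.cast_injective (α := ℂ)
    push_cast
    linear_combination h
  have hval : 1 + (sgn7 (d 0) * F (f 0) + sgn7 (d 1) * F (f 1) + sgn7 (d 2) * F (f 2) +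
      sgn7 (d 3) * F (f 3) + sgn7 (d 4) * F (f 4) + sgn7 (d 5) * F (f 5)) = 0 := by
    have h := hrelg t (not_dvd_order hG K (by norm_num) (by norm_num))
    simp only [← K.val] at h
    apply Int.cast_injective (α := ℂ)
    push_cast
    linear_combination h
  have hsqN : 1 + (d 0 * d 0 + d 1 * d 1 + d 2 * d 2 + d 3 * d 3 + d 4 * d 4 + d 5 * d 5) ≤ 443520 := by
    have h := Finset.sum_le_sum_of_subset (f := fun χ : IrrCharacter G =>
      charDegree (χ : G → ℂ) ^ 2) (Finset.subset_univ (insert (principal G) Z))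
    rw [sum_degree_sq_nat, hG, Finset.sum_insert hpZ, ← himg,
      Finset.sum_image fun i _ j _ h => hfi h, Fin.sum_univ_six,
      show charDegree (principal G : G → ℂ) = 1 from principal_dg hG] at h
    simp only [sq, one_mul] at h
    simp only [hd]
    omega
  have hord : d 0 ≤ d 1 ∧ d 1 ≤ d 2 ∧ d 2 ≤ d 3 ∧ d 3 ≤ d 4 ∧ d 4 ≤ d 5 :=
    ⟨hmono (by decide), hmono (by decide), hmono (by decide), hmono (by decide), hmono (by decide)⟩
  have hshape := shape_six
  simp only [List.all_eq_true, Bool.or_eq_true, decide_eq_true_eq, List.contains_eq_mem,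
    List.mem_cons, List.not_mem_nil, or_false, List.cons.injEq, and_true] at hshape
  have hs := (hshape _ (hpool 0) _ (hpool 1) _ (hpool 2) _ (hpool 3) _ (hpool 4) _ (hpool 5)).resolve_left
    fun h => h ⟨hord.1, hord.2.1, hord.2.2.1, hord.2.2.2.1, hord.2.2.2.2, hdeg, by omega⟩
  -- the known values
  have hnorm : ∀ I : Finset (Fin 6), (∀ i ∈ I, 11 ∣ d i) →
      base (lvals T F) + ∑ i ∈ I, F (f i) * F (f i) ≤ (Nat.card (cen t) : ℤ) := fun I hI => by
    have h := norm_le hG K (I.image f) fun χ hχ => by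
      obtain ⟨i, hi, rfl⟩ := Finset.mem_image.1 hχ
      exact not_dvd_of_mem hG K _ (hI i hi)
    rwa [Finset.sum_image fun i _ j _ h => hfi h] at h
  have hbase : 0 ≤ base (lvals T F) := by
    simp only [lvals, base]
    nlinarith [mul_self_nonneg (F (T.a 0)), mul_self_nonneg (F (T.a 1)), mul_self_nonneg (F (T.a 2)),
      mul_self_nonneg (F (T.a 3)), mul_self_nonneg (F (T.θ 0))]
  have hcand : ∀ i, 11 ∣ d i → ∀ n, d i = n → F (f i) ∈ cand n (Nat.card (cen t)) := fun i h11 n hn => by
    refine mem_cand hG K hM (hZ _ (hf i)).1 (hfne i) ?_ hn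
    have h := hnorm {i} fun j hj => by rw [Finset.mem_singleton] at hj; rw [hj]; exact h11
    rw [Finset.sum_singleton] at h
    linarith
  rcases hs with ⟨h0, h1, h2, h3, h4, h5⟩ | ⟨h0, h1, h2, h3, h4, h5⟩ | ⟨h0, h1, h2, h3, h4, h5⟩
  · obtain ⟨hk, hx⟩ := config_120 hG K L hM (hZ _ (hf 5)).1 h5
    rw [h0, h1, h2, h3, h4, h5, hx] at hval
    norm_num [sgn7] at hval
    have hn := hnorm {0, 1, 2, 3, 4} (by
      intro i hi
      fin_cases hi <;> simp [h0, h1, h2, h3, h4])
    simp only [Finset.sum_insert, Finset.mem_insert, Finset.mem_singleton, Fin.reduceEq, or_self,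
      not_false_eq_true, Finset.sum_singleton] at hn
    have hc := check_D
    simp only [List.all_eq_true, Bool.or_eq_true, Bool.not_eq_true', decide_eq_false_iff_not,
      Bool.and_eq_true, beq_iff_eq, decide_eq_true_eq, List.contains_eq_mem] at hc
    have h := hc _ hk _ (hcand 0 (by simp [h0]) _ h0) _ (hcand 1 (by simp [h1]) _ h1)
      _ (hcand 2 (by simp [h2]) _ h2) _ (hcand 3 (by simp [h3]) _ h3) _ (hcand 4 (by simp [h4]) _ h4)
    rcases h with (h | h) | ⟨⟨⟨hA, h21⟩, hv⟩, hlt⟩
    · exact h (by linarith)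
    · exact h (by linarith)
    refine false_DE hG K L hA h21 (h := f 4) h4 hv (({0, 1, 2, 3, 4} : Finset (Fin 6)).image f) ?_ ?_
    · intro χ hχ
      obtain ⟨i, hi, rfl⟩ := Finset.mem_image.1 hχ
      fin_cases hi
      · exact ⟨by simp [hd] at h0; simp [h0], Or.inr (by simp [hd] at h0; simp [h0])⟩
      · exact ⟨by simp [hd] at h1; simp [h1], Or.inr (by simp [hd] at h1; simp [h1])⟩
      · exact ⟨by simp [hd] at h2; simp [h2], Or.inr (by simp [hd] at h2; simp [h2])⟩
      · exact ⟨by simp [hd] at h3; simp [h3], Or.inr (by simp [hd] at h3; simp [h3])⟩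
      · exact ⟨by simp [hd] at h4; simp [h4], Or.inl rfl⟩
    · rw [Finset.sum_image fun i _ j _ h => hfi h]
      simp only [Finset.sum_insert, Finset.mem_insert, Finset.mem_singleton, Fin.reduceEq, or_self,
        not_false_eq_true, Finset.sum_singleton]
      linarith
  · obtain ⟨hk, hx⟩ := config_120 hG K L hM (hZ _ (hf 3)).1 h3
    rw [h0, h1, h2, h3, h4, h5, hx] at hval
    norm_num [sgn7] at hval
    have hn := hnorm {0, 1, 2, 4, 5} (by
      intro i hi
      fin_cases hi <;> simp [h0, h1, h2, h4, h5])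
    simp only [Finset.sum_insert, Finset.mem_insert, Finset.mem_singleton, Fin.reduceEq, or_self,
      not_false_eq_true, Finset.sum_singleton] at hn
    have hc := check_E
    simp only [List.all_eq_true, Bool.or_eq_true, Bool.not_eq_true', decide_eq_false_iff_not,
      Bool.and_eq_true, beq_iff_eq, decide_eq_true_eq, List.contains_eq_mem] at hc
    have h := hc _ hk _ (hcand 0 (by simp [h0]) _ h0) _ (hcand 1 (by simp [h1]) _ h1)
      _ (hcand 2 (by simp [h2]) _ h2) _ (hcand 4 (by simp [h4]) _ h4) _ (hcand 5 (by simp [h5]) _ h5)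
    rcases h with (h | h) | ⟨⟨⟨hA, h21⟩, hv⟩, hlt⟩
    · exact h (by linarith)
    · exact h (by linarith)
    rcases hlt with hlt | ⟨hl, hvals⟩
    · refine false_DE hG K L hA h21 (h := f 2) h2 hv (({0, 1, 2, 4, 5} : Finset (Fin 6)).image f) ?_ ?_
      · intro χ hχ
        obtain ⟨i, hi, rfl⟩ := Finset.mem_image.1 hχ
        fin_cases hi
        · exact ⟨by simp [hd] at h0; simp [h0], Or.inr (by simp [hd] at h0; simp [h0])⟩
        · exact ⟨by simp [hd] at h1; simp [h1], Or.inr (by simp [hd] at h1; simp [h1])⟩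
        · exact ⟨by simp [hd] at h2; simp [h2], Or.inl rfl⟩
        · exact ⟨by simp [hd] at h4; simp [h4], Or.inr (by simp [hd] at h4; simp [h4])⟩
        · exact ⟨by simp [hd] at h5; simp [h5], Or.inr (by simp [hd] at h5; simp [h5])⟩
      · rw [Finset.sum_image fun i _ j _ h => hfi h]
        simp only [Finset.sum_insert, Finset.mem_insert, Finset.mem_singleton, Fin.reduceEq, or_self,
          not_false_eq_true, Finset.sum_singleton]
        linarith
    · simp only [lastConfig] at hl
      obtain ⟨ha, hb, hcc, hdd, hC, hp, hq, hr, hs', hw⟩ := unpack hl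
      have he2 := (exc_check _ T.mem).1 (congrArg Prod.fst hl)
      simp only [List.cons.injEq, and_true] at hvals
      obtain ⟨hv0, hv1, hv2, hv4, hv5⟩ := hvals
      have hS := cauchy_rest hG K.order K.val
        (blockSet T ∪ (({0, 1, 2, 4, 5} : Finset (Fin 6)).image f))
      have hdisj : Disjoint (blockSet T) (({0, 1, 2, 4, 5} : Finset (Fin 6)).image f) := by
        rw [Finset.disjoint_right]
        intro χ hχ
        obtain ⟨i, hi, rfl⟩ := Finset.mem_image.1 hχ
        refine not_dvd_of_mem hG K _ ?_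
        fin_cases hi <;> simp [hd] at h0 h1 h2 h4 h5 <;> simp [h0, h1, h2, h4, h5]
      have hBsum : ∀ g : IrrCharacter G → ℤ, ∑ χ ∈ blockSet T, g χ = g (principal G) +
          ((g (T.a 0) + g (T.a 1) + g (T.a 2) + g (T.a 3)) + (g (T.θ 0) + g (T.θ 1))) := by
        intro g
        rw [blockSet, Finset.sum_insert (fun h => by
          obtain ⟨i, -, hi⟩ := Finset.mem_image.1 h
          exact T.ne_principal i hi), Finset.sum_image fun i _ j _ h => T.inj h, Fin.sum_univ_add,
          Fin.sum_univ_four, Fin.sum_univ_two]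
        simp only [Fin.append_left, Fin.append_right]
      simp only [Finset.sum_union hdisj, hBsum, Finset.sum_image fun i _ j _ h => hfi h,
        Finset.sum_insert, Finset.mem_insert, Finset.mem_singleton, Fin.reduceEq, or_self,
        not_false_eq_true, Finset.sum_singleton, T.deg_a, T.deg_θ, F_theta hG K 1, F_principal hG K,
        show charDegree (principal G : G → ℂ) = 1 from principal_dg hG, ha, hb, hcc, hdd, hp, hq, hr,
        hs', hw, he2, hv0, hv1, hv2, hv4, hv5, hC] at hS
      simp only [hd] at h0 h1 h2 h4 h5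
      rw [h0, h1, h2, h4, h5] at hS
      norm_num at hS
  · obtain ⟨hk, hx⟩ := config_120 hG K L hM (hZ _ (hf 3)).1 h3
    rw [h0, h1, h2, h3, h4, h5, hx] at hval
    norm_num [sgn7] at hval
    have hn := hnorm {0, 1, 2, 4, 5} (by
      intro i hi
      fin_cases hi <;> simp [h0, h1, h2, h4, h5])
    simp only [Finset.sum_insert, Finset.mem_insert, Finset.mem_singleton, Fin.reduceEq, or_self,
      not_false_eq_true, Finset.sum_singleton] at hn
    have hc := check_F
    simp only [List.all_eq_true, Bool.or_eq_true, Bool.not_eq_true', decide_eq_false_iff_not] at hc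
    have h := hc _ hk _ (hcand 0 (by simp [h0]) _ h0) _ (hcand 1 (by simp [h1]) _ h1)
      _ (hcand 2 (by simp [h2]) _ h2) _ (hcand 4 (by simp [h4]) _ h4) _ (hcand 5 (by simp [h5]) _ h5)
    rcases h with h | h
    · exact h (by linarith)
    · exact h (by linarith)

/-- The index three. -/
theorem false_three (L : LocalEleven G) (h3 : Nat.card (cen t) ∈ centsThree)
    (he : (Subgroup.centralizer ((P : Subgroup G) : Set G)).relIndex
      (Subgroup.normalizer ((P : Subgroup G) : Set G)) = 3) : False := by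
  classical
  haveI := Fintype.ofFinite G
  haveI := Fact.mk (show Nat.Prime 7 by norm_num)
  obtain ⟨M, hM⟩ := CharApps.exists_pModular (p := 7)
  obtain ⟨a, b, θ, θ', ε, hab, hθθ, haθ, haθ', hbθ, hbθ', hmem, hdeg7, hle, hε, hrel⟩ :=
    block_three hG hM P K.card_P he
  have hin : ∀ χ ∈ [a, b, θ, θ'], χ ∈ principalBlock M G := fun χ h => (hmem χ h).2
  have hne : ∀ χ ∈ [a, b, θ, θ'], χ ≠ principal G := fun χ h => (hmem χ h).1
  have h1r : ¬ 7 ∣ orderOf (1 : G) := by rw [orderOf_one]; norm_num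
  obtain ⟨e1, e2⟩ := hrel 1 h1r
  simp only [deg_eq, Nat.cast_inj] at e1
  simp only [deg_eq] at e2
  obtain ⟨e3, e4⟩ := hrel t (not_dvd_order hG K (by norm_num) (by norm_num))
  rw [← K.val, ← K.val, Int.cast_inj] at e3
  simp only [← K.val] at e4
  set da := charDegree (a : G → ℂ) with hda
  set db := charDegree (b : G → ℂ) with hdb
  set dθ := charDegree (θ : G → ℂ) with hdθ
  have hsum : 1 + (sgn7 da * (da : ℤ) + sgn7 db * (db : ℤ)) = ε * (dθ : ℤ) := by
    apply Int.cast_injective (α := ℂ)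
    push_cast
    linear_combination -e2
  have hval : ε * F θ = 1 + sgn7 da * F a + sgn7 db * F b := by exact_mod_cast e4
  have hgood : goodDeg (1 + (sgn7 da * (da : ℤ) + sgn7 db * (db : ℤ))).natAbs = true := by
    rw [hsum, show (ε * (dθ : ℤ)).natAbs = dθ by rcases hε with h | h <;> simp [h]]
    exact goodDeg_of hG K L θ (hne θ (by simp))
  have hs := shape_three
  simp only [List.all_eq_true, Bool.or_eq_true, decide_eq_true_eq, Bool.not_eq_true',
    List.contains_eq_mem, List.mem_cons, List.not_mem_nil, or_false, Prod.mk.injEq, List.cons.injEq,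
    and_true] at hs
  rcases hs da (mem_pool hG K L a (hne a (by simp)) (hdeg7 a (by simp)))
      db (mem_pool hG K L b (hne b (by simp)) (hdeg7 b (by simp))) with (h | h) | h
  · exact h hle
  · rw [hgood] at h
    exact absurd h (by decide)
  have hbase : 0 ≤ base (lvals T F) := by
    simp only [lvals, base]
    nlinarith [mul_self_nonneg (F (T.a 0)), mul_self_nonneg (F (T.a 1)), mul_self_nonneg (F (T.a 2)),
      mul_self_nonneg (F (T.a 3)), mul_self_nonneg (F (T.θ 0))]
  have hN : ∀ n m : ℕ, da = n → dθ = m → 11 ∣ n → 11 ∣ m →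
      base (lvals T F) + F a * F a + 2 * (F θ * F θ) ≤ (Nat.card (cen t) : ℤ) ∧
        F a ∈ cand n (Nat.card (cen t)) ∧ F θ ∈ cand m (Nat.card (cen t)) := by
    intro n m hn hm hn11 hm11
    have h := norm_le hG K ({a, θ, θ'} : Finset (IrrCharacter G)) fun χ hχ => by
      simp only [Finset.mem_insert, Finset.mem_singleton] at hχ
      refine not_dvd_of_mem hG K χ ?_
      rcases hχ with rfl | rfl | rfl
      · rw [← hda, hn]; exact hn11
      · rw [← hdθ, hm]; exact hm11
      · rw [← e1, hm]; exact hm11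
    rw [Finset.sum_insert (by simp [haθ, haθ']), Finset.sum_pair hθθ, ← e3] at h
    have := mul_self_nonneg (F a)
    have := mul_self_nonneg (F θ)
    exact ⟨by linarith, mem_cand hG K hM (hin a (by simp)) (hne a (by simp)) (by linarith) hn,
      mem_cand hG K hM (hin θ (by simp)) (hne θ (by simp)) (by linarith) hm⟩
  rcases h with ⟨⟨ha, hb⟩, hT⟩ | ⟨⟨ha, hb⟩, hT⟩ | ⟨⟨ha, hb⟩, hT⟩ <;> rw [hsum] at hT
  · have hθ45 : dθ = 45 := by rcases hε with h | h <;> rw [h] at hT <;> omega
    exact false_45 hG K L hM hθθ (hin θ (by simp)) hθ45 (e1 ▸ hθ45) e3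
  · obtain ⟨hθ, hε1⟩ : dθ = 66 ∧ ε = 1 := by rcases hε with h | h <;> rw [h] at hT <;> omega
    obtain ⟨hk, hx⟩ := config_120 hG K L hM (hin b (by simp)) hb
    obtain ⟨hn, hca, hcθ⟩ := hN _ _ ha hθ (by norm_num) (by norm_num)
    rw [hε1, ha, hb, hx] at hval
    norm_num [sgn7] at hval
    have hw : F θ = 1 - F a + 8 := by linarith
    rw [hw] at hn hcθ
    have hc := check_A
    simp only [List.all_eq_true, Bool.or_eq_true, Bool.not_eq_true', decide_eq_false_iff_not,
      Bool.and_eq_true, beq_iff_eq, List.contains_eq_mem, decide_eq_true_eq] at hc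
    rcases hc _ hk with h | h
    · exact h h3
    rcases h _ hca with (h | h) | ⟨hA, hFa⟩
    · exact h hcθ
    · exact h hn
    have h10 : F θ = 10 := by rw [hw, hFa]; norm_num
    exact false_A hG K L hA hθθ hθ (e1 ▸ hθ) h10 (e3 ▸ h10)
  · obtain ⟨hθ, hε1⟩ : dθ = 220 ∧ ε = 1 := by rcases hε with h | h <;> rw [h] at hT <;> omega
    obtain ⟨hk, hx⟩ := config_120 hG K L hM (hin b (by simp)) hb
    obtain ⟨hn, hca, hcθ⟩ := hN _ _ ha hθ (by norm_num) (by norm_num)
    rw [hε1, ha, hb, hx] at hval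
    norm_num [sgn7] at hval
    have hw : F θ = 1 + F a + 8 := by linarith
    rw [hw] at hn hcθ
    have hc := check_B
    simp only [List.all_eq_true, Bool.or_eq_true, Bool.not_eq_true', decide_eq_false_iff_not,
      List.contains_eq_mem] at hc
    rcases hc _ hk with h | h
    · exact h h3
    rcases h _ hca with h | h
    · exact h hcθ
    · exact h hn

omit K in
/-- Piece C4. -/
theorem false_of_invol (L : LocalEleven G) (T : TableEleven G)
    (hF5 : IsSevenList T.list → LocalFive G) (e : ℕ) (P : Sylow 7 G) (t : G) (he : e = 3 ∨ e = 6)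
    (hrel : (Subgroup.centralizer ((P : Subgroup G) : Set G)).relIndex
      (Subgroup.normalizer ((P : Subgroup G) : Set G)) = e)
    (ht : orderOf t = 2) (htC : t ∈ Subgroup.centralizer ((P : Subgroup G) : Set G))
    (hC : Nat.card (cen t) ∈ sevenCents e) : False := by
  classical
  haveI := Fintype.ofFinite G
  haveI := Fact.mk (show Nat.Prime 7 by norm_num)
  have hP : Nat.card (P : Subgroup G) = 7 := by
    simpa using card_sylow_eq (p := 7) 1 63360 (by rw [hG]; rfl) (by norm_num) P
  have htt : t * t = 1 := by rw [← sq, ← ht, pow_orderOf_eq_one]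
  obtain ⟨h1, h2, -, h4⟩ := cents_check e (by rcases he with rfl | rfl <;> simp) _ hC
  have K : Ctx T P t fun χ => (exists_int_apply_involution htt χ).choose :=
    ⟨hP, ht, htC, fun χ => (exists_int_apply_involution htt χ).choose_spec, h1, h2, hF5⟩
  rcases he with rfl | rfl
  · exact false_three hG K L (h4 rfl) hrel
  · exact false_six hG K L hrel

end CfsgLib.M22Order.SevenKill

namespace CfsgLib.M22Order

universe u

/-- Piece C4 of the interface. -/
theorem sevenKill : SevenKillStmt.{u} := fun _G _ _ hs hG L T hF e P t he hrel ht htC hC => by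
  haveI := hs
  exact SevenKill.false_of_invol hG L T hF e P t he hrel ht htC hC

end CfsgLib.M22Order
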