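import Cfsg.Agent.Lib.M22Order.FiveFirst
import Cfsg.Agent.Lib.M22Order.NoThirtyFive
import Cfsg.Agent.Lib.M22Order.SevenInvol
import Cfsg.Agent.Lib.M22Order.SevenKill
import Cfsg.Agent.Lib.M22Order.SevenPairs.Main

/-!
# Simple groups of order 443520: the seven-local structure (piece C)
-/

set_option autoImplicit false

namespace CfsgLib.M22Order

universe u

/-- Piece C. -/
theorem seven : SevenStmt.{u} :=
  seven_of noThirtyFive fiveFirst SevenInvol.sevenInvol sevenKill SevenPairs.seven_pairs

end CfsgLib.M22Order
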