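import Cfsg.Agent.Lib.M22Order.BlockArith

/-!
# Simple groups of order 443520: the finite checks for the seven-local step

Piece C4 of `tools/S1663_plan.md`.
-/

set_option autoImplicit false

namespace CfsgLib.M22Order.SevenArith

open CfsgLib.M22Order.BlockArith

/-- The possible orders of the centralizer of the involution. -/
def cents : List ℕ :=
  [28, 56, 84, 168, 224, 420, 448, 672, 840, 1008, 1260, 1344, 2016, 2520, 3360, 6720, 8064,
    10080, 20160]

/-- The lists at eleven. -/
def allLists : List (List ℕ × ℕ) :=
  degreeLists ++ [([10, 12, 12, 21], 6), ([10, 45, 56, 252], 160), ([10, 45, 144, 252], 72)]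

/-- The seven lists without a degree ten. -/
def noTen : List (List ℕ × ℕ) :=
  [([12, 21, 32, 45], 5), ([12, 32, 120, 144], 5), ([12, 56, 56, 120], 5),
    ([21, 120, 210, 210], 280), ([45, 56, 120, 210], 192), ([45, 120, 120, 210], 16),
    ([45, 120, 144, 210], 280)]

/-- Whether a list is in question. -/
def isSevenB (l : List ℕ × ℕ) : Bool := l.1.contains 10 || noTen.contains l

/-- Whether a degree is not congruent to `0` or `±1` modulo five. -/
def has23 (l : List ℕ × ℕ) : Bool :=
  (l.2 :: l.1).any fun d => d % 5 == 2 || d % 5 == 3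

/-- A value at an involution centralizing an element of order seven. -/
def okSeven (d : ℕ) (v : ℤ) : Bool := d % 7 != 0 || v % 7 == 0

/-- The possible values. -/
def vals7 (d C : ℕ) : List ℤ := (vals d C 142).filter (okSeven d)

/-- The six configurations left by the first check. -/
def configs : List (List ℕ × ℕ × List ℤ) :=
  [([10, 21, 45, 120], 448, [2, -7, 9, 8, -7]), ([10, 21, 45, 120], 672, [2, -7, 9, 8, -7]),
    ([10, 21, 45, 120], 1344, [2, -7, 9, 8, -7]),
    ([10, 45, 120, 144], 448, [-2, 5, 8, -8, -8]), ([10, 45, 120, 144], 448, [-2, 5, 8, 8, 8]),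
    ([10, 45, 120, 144], 1344, [-6, 21, 8, 0, 20]), ([10, 45, 120, 144], 1344, [-2, -3, 8, 24, 16]),
    ([10, 45, 120, 144], 1344, [6, -3, 8, 24, 8]),
    ([21, 120, 210, 210], 672, [-7, 8, -14, 14, 0]), ([21, 120, 210, 210], 672, [-7, 8, 14, -14, 0]),
    ([21, 120, 210, 210], 1344, [-7, 8, -14, 14, 0]),
    ([21, 120, 210, 210], 1344, [-7, 8, 14, -14, 0])]

/-- Degree and value for the block at eleven. -/
def pairsOf (l : List ℕ × ℕ) (v : List ℤ) : List (ℕ × ℤ) :=
  match l.1, v with
  | [a, b, c, d], [p, q, r, s, w] => [(a, p), (b, q), (c, r), (d, s), (l.2, w), (l.2, w)]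
  | _, _ => []

/-- A character of degree 120 can be in the block at seven. -/
def one120 (ps : List (ℕ × ℤ)) : Bool := ps.any fun x => x.1 == 120 && x.2 % 7 == 1

/-- Two characters of degree 45 can be in the block at seven. -/
def two45 (ps : List (ℕ × ℤ)) : Bool :=
  ps.any fun x => x.1 == 45 && x.2 % 7 == 3 && decide (2 ≤ ps.count x)

/-- The exceptional value. -/
def excVal (a b c d : ℕ) (p q r s : ℤ) : ℤ :=
  (excDeg a b c d).sign * (1 + (sgnDeg a * p + sgnDeg b * q + sgnDeg c * r + sgnDeg d * s))

/-- The first check. -/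
def firstOK (l : List ℕ × ℕ) (C : ℕ) : Bool :=
  match l.1 with
  | [a, b, c, d] =>
    (vals7 a C).all fun p => (vals7 b C).all fun q => !decide (1 + (p * p + q * q) ≤ (C : ℤ)) ||
      (vals7 c C).all fun r => !decide (1 + (p * p + q * q + r * r) ≤ (C : ℤ)) ||
        (vals7 d C).all fun s =>
          !(fitsValues a b c d C p q r s && okSeven l.2 (excVal a b c d p q r s)) ||
            (isSevenB l && (has23 l ||
              !(one120 (pairsOf l [p, q, r, s, excVal a b c d p q r s]) ||
                two45 (pairsOf l [p, q, r, s, excVal a b c d p q r s])) ||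
              configs.contains (l.1, C, [p, q, r, s, excVal a b c d p q r s])))
  | _ => true

set_option maxRecDepth 100000 in
theorem first_check : allLists.all (fun l => cents.all (firstOK l)) = true := by decide +kernel

/-- The degrees of the lists in question. -/
def okDegs : List ℕ := [5, 10, 16, 21, 45, 60, 105, 120, 126, 144, 210, 280]

theorem okDegs_check : allLists.all (fun l => !(isSevenB l && !has23 l) ||
    (l.2 :: l.1).all fun d => okDegs.contains d) = true := by decide +kernel

/-- A possible degree of a character of the block at seven. -/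
def goodDeg (d : ℕ) : Bool :=
  d != 0 && d != 1 && 443520 % d == 0 && d < 666 &&
    (d % 11 == 0 && (d % 5 == 0 || d % 5 == 1 || d % 5 == 4) || okDegs.contains d)

/-- The non-exceptional degrees at seven. -/
def pool : List ℕ := [55, 99, 120, 176, 330, 440]

/-- Their signs. -/
def sgn7 (d : ℕ) : ℤ := if d % 7 = 1 then 1 else -1

set_option maxRecDepth 100000 in
theorem pool_check : ∀ d < (666 : ℕ), (d % 7 = 1 ∨ d % 7 = 6) → goodDeg d = true → d ∈ pool := by
  decide +kernel

theorem shape_six : (pool.all fun a => pool.all fun b => pool.all fun c => pool.all fun d =>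
    pool.all fun e => pool.all fun f => decide (¬ (a ≤ b ∧ b ≤ c ∧ c ≤ d ∧ d ≤ e ∧ e ≤ f ∧
      1 + (sgn7 a * a + sgn7 b * b + sgn7 c * c + sgn7 d * d + sgn7 e * e + sgn7 f * f) = 0 ∧
      1 + (a * a + b * b + c * c + d * d + e * e + f * f) ≤ 443520)) ||
    [[55, 55, 55, 55, 99, 120], [55, 55, 99, 120, 330, 440], [55, 99, 99, 120, 176, 440]].contains
      [a, b, c, d, e, f]) = true := by decide +kernel

theorem shape_three : (pool.all fun a => pool.all fun b =>
    decide (¬ a ≤ b) || !goodDeg (1 + (sgn7 a * a + sgn7 b * b)).natAbs ||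
    [([55, 99], (45 : ℤ)), ([55, 120], 66), ([99, 120], 220)].contains
      ([a, b], 1 + (sgn7 a * a + sgn7 b * b))) = true := by decide +kernel

/-- The values of a character of the principal block at seven. -/
def cand (d C : ℕ) : List ℤ := (vals d C 142).filter fun v => ((d : ℤ) - v) % 7 == 0

/-- The sum of the squares over the block at eleven. -/
def base (v : List ℤ) : ℤ :=
  match v with
  | [p, q, r, s, w] => 1 + (p * p + q * q + r * r + s * s) + 2 * (w * w)
  | _ => 0

/-- The exceptional configuration of the last shape. -/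
def lastConfig : List ℕ × ℕ × List ℤ := ([10, 21, 45, 120], 1344, [2, -7, 9, 8, -7])

/-- The configurations surviving with a pair of degree 66. -/
def configsA : List (List ℕ × ℕ × List ℤ) :=
  [([10, 21, 45, 120], 1344, [2, -7, 9, 8, -7]), ([10, 45, 120, 144], 1344, [6, -3, 8, 24, 8]),
    ([21, 120, 210, 210], 1344, [-7, 8, -14, 14, 0]),
    ([21, 120, 210, 210], 1344, [-7, 8, 14, -14, 0])]

/-- The orders for the index three. -/
def centsThree : List ℕ := [56, 168, 448, 840, 1344, 2016, 2520, 6720, 20160]

theorem check_A : configs.all (fun k => !centsThree.contains k.2.1 ||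
    (cand 55 k.2.1).all fun a => !(cand 66 k.2.1).contains (1 - a + 8) ||
      !decide (base k.2.2 + a * a + 2 * ((1 - a + 8) * (1 - a + 8)) ≤ (k.2.1 : ℤ)) ||
      (configsA.contains k && a == -1)) = true := by decide +kernel

theorem check_B : configs.all (fun k => !centsThree.contains k.2.1 ||
    (cand 99 k.2.1).all fun a => !(cand 220 k.2.1).contains (1 + a + 8) ||
      !decide (base k.2.2 + a * a + 2 * ((1 + a + 8) * (1 + a + 8)) ≤ (k.2.1 : ℤ))) = true := by
  decide +kernel

theorem check_D : configs.all (fun k => (cand 55 k.2.1).all fun a => (cand 55 k.2.1).all fun b =>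
    (cand 55 k.2.1).all fun c => (cand 55 k.2.1).all fun d => (cand 99 k.2.1).all fun e =>
      !decide (1 - a - b - c - d + e + 8 = 0) ||
      !decide (base k.2.2 + (a * a + b * b + c * c + d * d + e * e) ≤ (k.2.1 : ℤ)) ||
      (configsA.contains k && k.1.contains 21 && e == 15 &&
        decide ((k.2.1 : ℤ) < base k.2.2 + (a * a + b * b + c * c + d * d + e * e) + 221))) = true := by
  decide +kernel

theorem check_E : configs.all (fun k => (cand 55 k.2.1).all fun a => (cand 55 k.2.1).all fun b =>
    (cand 99 k.2.1).all fun c => (cand 330 k.2.1).all fun d => (cand 440 k.2.1).all fun e =>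
      !decide (1 - a - b + c + 8 + d - e = 0) ||
      !decide (base k.2.2 + (a * a + b * b + c * c + d * d + e * e) ≤ (k.2.1 : ℤ)) ||
      (configsA.contains k && k.1.contains 21 && c == 15 &&
        (decide ((k.2.1 : ℤ) < base k.2.2 + (a * a + b * b + c * c + d * d + e * e) + 221) ||
          (k == lastConfig && [a, b, c, d, e] == [-1, -1, 15, -6, 20])))) = true := by
  decide +kernel

theorem check_F : configs.all (fun k => (cand 55 k.2.1).all fun a => (cand 99 k.2.1).all fun b =>
    (cand 99 k.2.1).all fun c => (cand 176 k.2.1).all fun d => (cand 440 k.2.1).all fun e =>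
      !decide (1 - a + b + c + 8 + d - e = 0) ||
      !decide (base k.2.2 + (a * a + b * b + c * c + d * d + e * e) ≤ (k.2.1 : ℤ))) = true := by
  decide +kernel

end CfsgLib.M22Order.SevenArith
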