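import Cfsg.Agent.Lib.M22Order.InvVals
import Cfsg.Agent.Lib.M22Order.SevenArith
import Cfsg.Agent.Lib.M22Order.DegreesBasic
import Cfsg.Agent.Lib.M12Order.FiveEvenTools

/-!
# Simple groups of order 443520: tools for the seven-local step (piece C4)
-/

set_option autoImplicit false
set_option linter.style.haveILetI false
set_option linter.unusedSectionVars false

open Cfsg CfsgLib.Chars CfsgLib.CharApps CfsgLib.Blocks CfsgLib.Small
open scoped ComplexConjugate

namespace CfsgLib.M22Order.SevenKill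

open CfsgLib.M22Order.SevenArith

universe u

variable {G : Type u} [Group G] [Finite G] [IsSimpleGroup G] (hG : Nat.card G = 443520)

include hG

/-- A character of degree divisible by seven has value divisible by seven at a regular element
centralizing a Sylow subgroup of order seven. -/
theorem seven_dvd_value {P : Sylow 7 G} (hP : Nat.card (P : Subgroup G) = 7) {t : G}
    (hto : orderOf t = 2) (htC : t ∈ Subgroup.centralizer ((P : Subgroup G) : Set G))
    (χ : IrrCharacter G) (h7 : 7 ∣ charDegree (χ : G → ℂ)) {m : ℤ}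
    (hm : (m : ℂ) = (χ : G → ℂ) t) : (7 : ℤ) ∣ m := by
  classical
  haveI := Fintype.ofFinite G
  haveI := Fintype.ofFinite (P : Subgroup G)
  have hcomm : ∀ x ∈ (P : Subgroup G), Commute t x := fun x hx =>
    (Subgroup.mem_centralizer_iff.1 htC x hx).symm
  have hsum : (m : ℂ) = ∑ x : (P : Subgroup G), (χ : G → ℂ) (t * (x : G)) := by
    rw [Finset.sum_eq_single (1 : (P : Subgroup G))]
    · simpa using hm
    · intro x _ hx
      have hxo : orderOf (x : G) = 7 := by
        rcases (Nat.dvd_prime (show Nat.Prime 7 by norm_num)).1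
          (hP ▸ Subgroup.orderOf_dvd_natCard _ x.2) with h | h
        · exact absurd (Subtype.ext (orderOf_eq_one_iff.1 h)) hx
        · exact h
      refine eq_zero_of_dvd_orderOf χ.2 (n := 1) (p := 7) (by norm_num) (deg_eq χ)
        (by rw [hG]; norm_num) (by rw [pow_one]; exact h7) ?_
      rw [(hcomm _ x.2).orderOf_mul_eq_mul_orderOf_of_coprime (by rw [hto, hxo]; norm_num), hto, hxo]
      norm_num
    · exact fun h => absurd (Finset.mem_univ _) h
  have h := M12Order.FiveEven.card_dvd_sum χ (P : Subgroup G) hcomm hsum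
  rwa [hP] at h

/-- What a self-centralizing element `y` of order five gives: the values `u`, with an integral
function `F` orthogonal to them. -/
theorem five_facts (h5 : LocalFive G) [Fintype (IrrCharacter G)] {t y : G} (hy : orderOf y = 5)
    (hto : orderOf t = 2) {F : IrrCharacter G → ℤ} (hF : ∀ χ, (F χ : ℂ) = (χ : G → ℂ) t) :
    ∃ u : IrrCharacter G → ℤ, (∀ χ, (u χ : ℂ) = (χ : G → ℂ) y) ∧
      (∀ χ : IrrCharacter G, 5 ∣ charDegree (χ : G → ℂ) → u χ = 0) ∧
      (∀ χ : IrrCharacter G, ¬ 5 ∣ charDegree (χ : G → ℂ) → (u χ = 1 ∨ u χ = -1) ∧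
        (5 : ℤ) ∣ u χ - charDegree (χ : G → ℂ)) ∧
      (∀ S : Finset (IrrCharacter G), (∀ χ ∈ S, u χ ≠ 0) → S.card ≤ 5) ∧
      (∑ χ, u χ * (charDegree (χ : G → ℂ) : ℤ)) = 0 ∧ (∑ χ, u χ * F χ) = 0 := by
  classical
  obtain ⟨u, hu, hu5, hS⟩ := exists_val hG h5 hy
  have hp1 : u (principal G) = 1 := by
    have := hu (principal G)
    rw [principal_apply] at this
    exact_mod_cast this
  have hy1 : y ≠ 1 := fun h => by rw [h, orderOf_one] at hy; omega
  have hd0 : (∑ χ, u χ * (charDegree (χ : G → ℂ) : ℤ)) = 0 := by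
    have h := sum_degree_mul (G := G) y
    rw [if_neg hy1] at h
    simp only [deg_eq, ← hu] at h
    have h2 : ((∑ χ, u χ * (charDegree (χ : G → ℂ) : ℤ) : ℤ) : ℂ) = 0 := by
      push_cast
      rw [← h]
      exact Finset.sum_congr rfl fun χ _ => mul_comm _ _
    exact_mod_cast h2
  have hle : ∀ χ, -1 ≤ u χ ∧ u χ ≤ 1 := by
    intro χ
    rcases eq_or_ne χ (principal G) with rfl | hne
    · omega
    by_contra hbad
    have h2 : 4 ≤ u χ * u χ := by
      rcases le_or_gt 0 (u χ) with h | h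
      · nlinarith [show 2 ≤ u χ by omega]
      · nlinarith [show u χ ≤ -2 by omega]
    have h1 := hS {χ, principal G}
    rw [Finset.sum_pair hne, hp1] at h1
    have h1' : u χ * u χ ≤ 4 := by nlinarith
    have hz : ∀ ψ, ψ ≠ χ → ψ ≠ principal G → u ψ = 0 := by
      intro ψ h h'
      have h3 := hS {ψ, χ, principal G}
      rw [Finset.sum_insert (by simp [h, h']), Finset.sum_pair hne, hp1] at h3
      nlinarith
    rw [← Finset.sum_subset (Finset.subset_univ {χ, principal G}) (fun ψ _ hψ => by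
      simp only [Finset.mem_insert, Finset.mem_singleton, not_or] at hψ
      rw [hz ψ hψ.1 hψ.2, zero_mul]), Finset.sum_pair hne, hp1,
      show charDegree (principal G : G → ℂ) = 1 from principal_dg hG] at hd0
    have h4 : u χ = 2 ∨ u χ = -2 := by
      have : u χ ≤ 2 := by nlinarith
      have : -2 ≤ u χ := by nlinarith
      omega
    rcases h4 with h | h <;> rw [h] at hd0 <;> omega
  refine ⟨u, hu, fun χ h => ?_, fun χ h => ?_, fun S hne => ?_, hd0, ?_⟩
  · have : (5 : ℤ) ∣ u χ - (charDegree (χ : G → ℂ) : ℤ) := hu5 χ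
    have := hle χ
    have : ((5 : ℕ) : ℤ) ∣ (charDegree (χ : G → ℂ) : ℤ) := Int.natCast_dvd_natCast.2 h
    omega
  · have := hle χ
    have : (5 : ℤ) ∣ u χ - (charDegree (χ : G → ℂ) : ℤ) := hu5 χ
    refine ⟨?_, hu5 χ⟩
    rcases eq_or_ne (u χ) 0 with h0 | h0
    · exfalso
      rw [h0] at this
      omega
    · omega
  · have h1 : ∑ χ ∈ S, u χ ^ 2 = S.card := by
      rw [Finset.sum_congr rfl (fun χ hχ => show u χ ^ 2 = 1 by
        have := hle χ
        have := hne χ hχ
        rcases (show u χ = 1 ∨ u χ = -1 by omega) with h | h <;> rw [h] <;> norm_num)]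
      simp
    have := hS S
    omega
  · have h := second_orthogonality (G := G) t y
    rw [if_neg fun hc => by
      obtain ⟨c, hc'⟩ := isConj_iff.1 hc
      have := congrArg orderOf hc'
      rw [← MulAut.conj_apply, MulEquiv.orderOf_eq, hy, hto] at this
      omega] at h
    simp only [← hu, ← hF, map_intCast] at h
    have h2 : ((∑ χ, u χ * F χ : ℤ) : ℂ) = 0 := by
      push_cast
      rw [← h]
      exact Finset.sum_congr rfl fun χ _ => mul_comm _ _
    exact_mod_cast h2

omit hG in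
/-- The characters outside `K` with nonzero values at `y`. -/
theorem rest_five [Fintype (IrrCharacter G)] [DecidableEq (IrrCharacter G)] {u F : IrrCharacter G → ℤ}
    (hS : ∀ S : Finset (IrrCharacter G), (∀ χ ∈ S, u χ ≠ 0) → S.card ≤ 5)
    (hd : (∑ χ, u χ * (charDegree (χ : G → ℂ) : ℤ)) = 0) (hf : (∑ χ, u χ * F χ) = 0)
    (K : Finset (IrrCharacter G)) (hK : ∀ χ ∈ K, u χ ≠ 0) :
    ∃ R : Finset (IrrCharacter G), Disjoint K R ∧ (∀ χ, χ ∈ R ↔ u χ ≠ 0 ∧ χ ∉ K) ∧
      K.card + R.card ≤ 5 ∧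
      (∑ χ ∈ R, u χ * (charDegree (χ : G → ℂ) : ℤ)) = -(∑ χ ∈ K, u χ * (charDegree (χ : G → ℂ) : ℤ)) ∧
      (∑ χ ∈ R, u χ * F χ) = -(∑ χ ∈ K, u χ * F χ) := by
  refine ⟨Finset.univ.filter fun χ => u χ ≠ 0 ∧ χ ∉ K, ?_, by simp, ?_, ?_, ?_⟩
  · rw [Finset.disjoint_left]
    intro χ h1 h2
    exact (Finset.mem_filter.1 h2).2.2 h1
  · rw [← Finset.card_union_of_disjoint]
    · refine hS _ fun χ hχ => ?_
      rcases Finset.mem_union.1 hχ with h | h
      · exact hK χ h
      · exact (Finset.mem_filter.1 h).2.1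
    · rw [Finset.disjoint_left]
      intro χ h1 h2
      exact (Finset.mem_filter.1 h2).2.2 h1
  · rw [eq_neg_iff_add_eq_zero, ← Finset.sum_union]
    · refine (Finset.sum_subset (Finset.subset_univ _) fun χ _ hχ => ?_).trans hd
      simp only [Finset.mem_union, Finset.mem_filter, Finset.mem_univ, true_and, not_or,
        not_and, not_not] at hχ
      have h0 : u χ = 0 := by
        by_contra h
        exact hχ.2 (hχ.1 h)
      rw [h0, zero_mul]
    · rw [Finset.disjoint_left]
      intro χ h2 h1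
      exact (Finset.mem_filter.1 h2).2.2 h1
  · rw [eq_neg_iff_add_eq_zero, ← Finset.sum_union]
    · refine (Finset.sum_subset (Finset.subset_univ _) fun χ _ hχ => ?_).trans hf
      simp only [Finset.mem_union, Finset.mem_filter, Finset.mem_univ, true_and, not_or,
        not_and, not_not] at hχ
      have h0 : u χ = 0 := by
        by_contra h
        exact hχ.2 (hχ.1 h)
      rw [h0, zero_mul]
    · rw [Finset.disjoint_left]
      intro χ h2 h1
      exact (Finset.mem_filter.1 h2).2.2 h1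

/-- The principal block at seven: index six. -/
theorem block_six {M : Ideal AlgInt} (hM : IsPModular 7 M) (P : Sylow 7 G)
    (hP : Nat.card (P : Subgroup G) = 7)
    (he : (Subgroup.centralizer ((P : Subgroup G) : Set G)).relIndex
      (Subgroup.normalizer ((P : Subgroup G) : Set G)) = 6) :
    ∃ Z : Finset (IrrCharacter G), Z.card = 6 ∧ principal G ∉ Z ∧
      (∀ χ ∈ Z, χ ∈ principalBlock M G ∧ (charDegree (χ : G → ℂ) % 7 = 1 ∨ charDegree (χ : G → ℂ) % 7 = 6)) ∧
      ∀ g : G, ¬ 7 ∣ orderOf g →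
        ∑ χ ∈ Z, (sgn7 (charDegree (χ : G → ℂ)) : ℂ) * (χ : G → ℂ) g = -1 := by
  classical
  haveI := Fact.mk (show Nat.Prime 7 by norm_num)
  haveI := Fintype.ofFinite G
  haveI := hM.2.1.isPrime
  obtain ⟨X, Y, σ, ε, hB, hdisj, hX, hY, hXp, hε, hYd, hYeq, hrel⟩ :=
    Small.O7920.exists_block_data (by norm_num) hM P hP he
  norm_num at hY
  obtain ⟨θ, hYe⟩ := Finset.card_eq_one.1 hY
  have hθ : θ ∈ Y := by rw [hYe]; exact Finset.mem_singleton_self θ
  have hθd := (hYd θ hθ)
  have hdeg : ∀ χ ∈ X ∪ Y, (charDegree (χ : G → ℂ) % 7 = 1 ∨ charDegree (χ : G → ℂ) % 7 = 6) ∧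
      sgn7 (charDegree (χ : G → ℂ)) = if χ ∈ X then σ χ else -ε := by
    intro χ hχ
    rcases Finset.mem_union.1 hχ with h | h
    · obtain ⟨hs, hm, -⟩ := hXp χ h
      rw [Int.modEq_iff_dvd] at hm
      rw [if_pos h]
      unfold sgn7
      rcases hs with hs | hs <;> rw [hs] at hm ⊢ <;> constructor <;>
        first | omega | (split_ifs with h' <;> omega)
    · rw [if_neg fun hx => Finset.disjoint_left.1 hdisj hx h]
      have hm := hYd χ h
      rw [Int.modEq_iff_dvd] at hm
      push_cast at hm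
      unfold sgn7
      rcases hε with hs | hs <;> rw [hs] at hm ⊢ <;> constructor <;>
        first | omega | (split_ifs with h' <;> omega)
  have hp : principal G ∈ X ∪ Y :=
    Finset.mem_union.2 ((hB _).1 (CfsgLib.Blocks.principal_mem_principalBlock M))
  refine ⟨(X ∪ Y).erase (principal G), ?_, Finset.notMem_erase _ _, fun χ hχ => ?_, fun g hg => ?_⟩
  · rw [Finset.card_erase_of_mem hp, Finset.card_union_of_disjoint hdisj, hX, hY]
  · have h := Finset.mem_of_mem_erase hχ
    exact ⟨(hB χ).2 (Finset.mem_union.1 h), (hdeg χ h).1⟩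
  · have htot : ∑ χ ∈ X ∪ Y, (sgn7 (charDegree (χ : G → ℂ)) : ℂ) * (χ : G → ℂ) g = 0 := by
      rw [Finset.sum_union hdisj, hYe, Finset.sum_singleton, (hdeg θ (Finset.mem_union_right _ hθ)).2,
        if_neg fun hx => Finset.disjoint_left.1 hdisj hx hθ,
        Finset.sum_congr rfl (fun χ hχ => by
          rw [(hdeg χ (Finset.mem_union_left _ hχ)).2, if_pos hχ]),
        ← hrel θ hθ g hg]
      push_cast
      ring
    rw [← Finset.add_sum_erase _ _ hp, show charDegree (principal G : G → ℂ) = 1 from principal_dg hG,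
      principal_apply] at htot
    have h1 : sgn7 1 = 1 := rfl
    rw [h1] at htot
    push_cast at htot
    linear_combination htot

/-- The principal block at seven: index three. -/
theorem block_three {M : Ideal AlgInt} (hM : IsPModular 7 M) (P : Sylow 7 G)
    (hP : Nat.card (P : Subgroup G) = 7)
    (he : (Subgroup.centralizer ((P : Subgroup G) : Set G)).relIndex
      (Subgroup.normalizer ((P : Subgroup G) : Set G)) = 3) :
    ∃ (a b θ θ' : IrrCharacter G) (ε : ℤ), a ≠ b ∧ θ ≠ θ' ∧ a ≠ θ ∧ a ≠ θ' ∧ b ≠ θ ∧ b ≠ θ' ∧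
      (∀ χ ∈ [a, b, θ, θ'], χ ≠ principal G ∧ χ ∈ principalBlock M G) ∧
      (∀ χ ∈ [a, b], charDegree (χ : G → ℂ) % 7 = 1 ∨ charDegree (χ : G → ℂ) % 7 = 6) ∧
      charDegree (a : G → ℂ) ≤ charDegree (b : G → ℂ) ∧ (ε = 1 ∨ ε = -1) ∧
      ∀ g : G, ¬ 7 ∣ orderOf g → (θ : G → ℂ) g = (θ' : G → ℂ) g ∧
        (ε : ℂ) * (θ : G → ℂ) g = 1 + (sgn7 (charDegree (a : G → ℂ)) : ℂ) * (a : G → ℂ) g +
          (sgn7 (charDegree (b : G → ℂ)) : ℂ) * (b : G → ℂ) g := by
  classical
  haveI := Fact.mk (show Nat.Prime 7 by norm_num)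
  haveI := Fintype.ofFinite G
  haveI := hM.2.1.isPrime
  obtain ⟨X, Y, σ, ε, hB, hdisj, hX, hY, hXp, hε, hYd, hYeq, hrel⟩ :=
    Small.O7920.exists_block_data (by norm_num) hM P hP he
  norm_num at hY
  obtain ⟨θ, θ', hne, hYe⟩ := Finset.card_eq_two.1 hY
  have hθ : θ ∈ Y := by rw [hYe]; simp
  have hθ' : θ' ∈ Y := by rw [hYe]; simp
  have hσ : ∀ χ ∈ X, (charDegree (χ : G → ℂ) % 7 = 1 ∨ charDegree (χ : G → ℂ) % 7 = 6) ∧
      σ χ = sgn7 (charDegree (χ : G → ℂ)) := by
    intro χ h
    obtain ⟨hs, hm, -⟩ := hXp χ h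
    rw [Int.modEq_iff_dvd] at hm
    unfold sgn7
    rcases hs with hs | hs <;> rw [hs] at hm ⊢ <;> constructor <;>
      first | omega | (split_ifs with h' <;> omega)
  have h71 : ¬ 7 ∣ orderOf (1 : G) := by rw [orderOf_one]; norm_num
  have hprin : principal G ∈ X := by
    rcases (hB _).1 (CfsgLib.Blocks.principal_mem_principalBlock M) with h | h
    · exact h
    exfalso
    obtain ⟨c, hc, hcne⟩ := Finset.exists_mem_ne (show 1 < Y.card by omega) (principal G)
    have h1 := hYeq c hc _ h 1 h71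
    rw [deg_eq, principal_apply, Nat.cast_eq_one] at h1
    exact hcne (eq_principal_of_one hG h1)
  obtain ⟨a, b, hab, hXe⟩ := Finset.card_eq_two.1
    (show (X.erase (principal G)).card = 2 by rw [Finset.card_erase_of_mem hprin, hX])
  wlog hle : charDegree (a : G → ℂ) ≤ charDegree (b : G → ℂ) generalizing a b
  · exact this b a hab.symm (by rw [hXe, Finset.pair_comm]) (le_of_not_ge hle)
  have hmemX : ∀ χ ∈ [a, b], χ ∈ X ∧ χ ≠ principal G := fun χ hχ => by
    have : χ ∈ X.erase (principal G) := by rw [hXe]; simpa using hχ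
    exact ⟨Finset.mem_of_mem_erase this, Finset.ne_of_mem_erase this⟩
  have hno : ∀ χ ∈ [a, b], ∀ ψ ∈ Y, χ ≠ ψ := fun χ hχ ψ hψ h =>
    Finset.disjoint_left.1 hdisj (hmemX χ hχ).1 (h ▸ hψ)
  refine ⟨a, b, θ, θ', ε, hab, hne, hno a (by simp) θ hθ, hno a (by simp) θ' hθ',
    hno b (by simp) θ hθ, hno b (by simp) θ' hθ', fun χ hχ => ?_,
    fun χ hχ => (hσ χ (hmemX χ hχ).1).1, hle, hε, fun g hg => ⟨hYeq θ hθ θ' hθ' g hg, ?_⟩⟩
  · simp only [List.mem_cons, List.not_mem_nil, or_false] at hχ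
    have hpY : principal G ∉ Y := Finset.disjoint_left.1 hdisj hprin
    rcases hχ with rfl | rfl | rfl | rfl
    · exact ⟨(hmemX _ (by simp)).2, (hB _).2 (Or.inl (hmemX _ (by simp)).1)⟩
    · exact ⟨(hmemX _ (by simp)).2, (hB _).2 (Or.inl (hmemX _ (by simp)).1)⟩
    · exact ⟨fun h => hpY (h ▸ hθ), (hB _).2 (Or.inr hθ)⟩
    · exact ⟨fun h => hpY (h ▸ hθ'), (hB _).2 (Or.inr hθ')⟩
  · rw [hrel θ hθ g hg, ← Finset.add_sum_erase _ _ hprin, hXe, Finset.sum_pair hab,
      (hσ _ hprin).2, (hσ a (hmemX a (by simp)).1).2, (hσ b (hmemX b (by simp)).1).2,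
      show charDegree (principal G : G → ℂ) = 1 from principal_dg hG, principal_apply,
      show sgn7 1 = 1 from rfl]
    push_cast
    ring

end CfsgLib.M22Order.SevenKill
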