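import Cfsg.Agent.Lib.M22Order.SevenKillPairs
import Cfsg.Agent.Lib.M22Order.Alt

/-!
# Simple groups of order 443520: the surviving configurations against the five data (piece C4)
-/

set_option autoImplicit false
set_option linter.style.haveILetI false
set_option linter.unusedSectionVars false

open Cfsg CfsgLib.Chars CfsgLib.CharApps CfsgLib.Blocks CfsgLib.Small

namespace CfsgLib.M22Order.SevenKill

open CfsgLib.M22Order.SevenArith

universe u

variable {G : Type u} [Group G] [Finite G] [IsSimpleGroup G]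
variable (hG : Nat.card G = 443520) {T : TableEleven G} {P : Sylow 7 G} {t : G}
  {F : IrrCharacter G → ℤ} (K : Ctx T P t F)

include hG K

/-- Two exceptional characters of degree 66 with values 10 die by a structure constant at five. -/
theorem kill_A (L : LocalEleven G) (hC : Nat.card (cen t) = 1344) {θ θ' c : IrrCharacter G}
    (hne : θ ≠ θ') (hd : charDegree (θ : G → ℂ) = 66) (hd' : charDegree (θ' : G → ℂ) = 66)
    (hv : F θ = 10) (hv' : F θ' = 10) {dc : ℕ} {uc vc : ℤ}
    (hdc : charDegree (c : G → ℂ) = dc) (hvc : F c = vc)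
    (hnum : (dc = 21 ∧ uc = 1 ∧ vc = -7) ∨ (dc = 144 ∧ uc = -1 ∧ vc = 24)) : False := by
  classical
  haveI := Fintype.ofFinite G
  haveI := irrFintype G
  haveI := Fact.mk (show Nat.Prime 5 by norm_num)
  obtain ⟨y, hy⟩ := exists_prime_orderOf_dvd_card' (G := G) 5 (by rw [hG]; norm_num)
  obtain ⟨u, hu, hu0, hu1, hS, hd0, hf0⟩ := five_facts hG (localFive hG K L) hy K.order K.val
  have hp1 : u (principal G) = 1 := by
    have := hu (principal G)
    rw [principal_apply] at this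
    exact_mod_cast this
  have hu66 : ∀ χ : IrrCharacter G, charDegree (χ : G → ℂ) = 66 → u χ = 1 := fun χ h => by
    obtain ⟨h1 | h1, h2⟩ := hu1 χ (by rw [h]; norm_num)
    · exact h1
    · rw [h1, h] at h2; norm_num at h2
  have huc : u c = uc := by
    obtain ⟨h1, h2⟩ := hu1 c (by rw [hdc]; rcases hnum with ⟨rfl, -⟩ | ⟨rfl, -⟩ <;> norm_num)
    rw [hdc] at h2
    rcases hnum with ⟨rfl, rfl, -⟩ | ⟨rfl, rfl, -⟩ <;> omega
  have hpd : charDegree (principal G : G → ℂ) = 1 := principal_dg hG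
  have hmem : ∀ χ ψ : IrrCharacter G, charDegree (χ : G → ℂ) ≠ charDegree (ψ : G → ℂ) → χ ≠ ψ :=
    fun χ ψ h e => h (by rw [e])
  have hdc1 : dc ≠ 1 ∧ dc ≠ 66 := by rcases hnum with ⟨rfl, -⟩ | ⟨rfl, -⟩ <;> norm_num
  have n1 : principal G ≠ c := hmem _ _ (by rw [hpd, hdc]; exact fun h => hdc1.1 h.symm)
  have n2 : principal G ≠ θ := hmem _ _ (by rw [hpd, hd]; norm_num)
  have n3 : principal G ≠ θ' := hmem _ _ (by rw [hpd, hd']; norm_num)
  have n4 : c ≠ θ := hmem _ _ (by rw [hdc, hd]; exact hdc1.2)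
  have n5 : c ≠ θ' := hmem _ _ (by rw [hdc, hd']; exact hdc1.2)
  have hK : ∀ χ ∈ ({principal G, c, θ, θ'} : Finset (IrrCharacter G)), u χ ≠ 0 := by
    intro χ hχ
    simp only [Finset.mem_insert, Finset.mem_singleton] at hχ
    rcases hχ with h | h | h | h <;> subst h
    · rw [hp1]; norm_num
    · rw [huc]; rcases hnum with ⟨-, rfl, -⟩ | ⟨-, rfl, -⟩ <;> norm_num
    · rw [hu66 _ hd]; norm_num
    · rw [hu66 _ hd']; norm_num
  obtain ⟨R, hdisj, hR, hcard, hRd, hRf⟩ := rest_five hS hd0 hf0 _ hK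
  rw [Finset.card_insert_of_notMem (by simp [n1, n2, n3]),
    Finset.card_insert_of_notMem (by simp [n4, n5]), Finset.card_pair hne] at hcard
  rw [Finset.sum_insert (by simp [n1, n2, n3]), Finset.sum_insert (by simp [n4, n5]),
    Finset.sum_pair hne, hp1, huc, hu66 _ hd, hu66 _ hd', hpd, hdc, hd, hd'] at hRd
  rw [Finset.sum_insert (by simp [n1, n2, n3]), Finset.sum_insert (by simp [n4, n5]),
    Finset.sum_pair hne, hp1, huc, hu66 _ hd, hu66 _ hd', F_principal hG K, hvc, hv, hv'] at hRf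
  haveI : Nonempty (IrrCharacter G) := ⟨principal G⟩
  rcases Finset.card_le_one_iff_subset_singleton.1 (show R.card ≤ 1 by omega) with ⟨X, hX⟩
  rcases Finset.subset_singleton_iff.1 hX with hR0 | hR1
  · rw [hR0, Finset.sum_empty] at hRd
    rcases hnum with ⟨rfl, rfl, -⟩ | ⟨rfl, rfl, -⟩ <;> norm_num at hRd
  rw [hR1, Finset.sum_singleton] at hRd hRf
  have hXR : X ∈ R := hR1 ▸ Finset.mem_singleton_self X
  have huX : u X = 1 ∨ u X = -1 := (hu1 X fun h => ((hR X).1 hXR).1 (hu0 X h)).1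
  -- the number of pairs
  obtain ⟨q, hq⟩ := AltCase.pairs_dvd t y⁻¹
  have hcount : (Nat.card {ab : G × G // (ab.1 * t * ab.1⁻¹) * (ab.2 * t * ab.2⁻¹) = y⁻¹} : ℂ) =
      443520 * ∑ χ, (F χ : ℂ) * (F χ : ℂ) * (u χ : ℂ) / (charDegree (χ : G → ℂ) : ℂ) := by
    rw [card_conj_mul_conj, inv_inv, hG]
    simp only [deg_eq, ← hu, ← K.val]
    norm_num
  rw [hq, hC, ← Finset.sum_subset (Finset.subset_univ (({principal G, c, θ, θ'} : Finset _) ∪ R))
    (fun χ _ hχ => by
      rw [Finset.mem_union, not_or] at hχ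
      have h0 : u χ = 0 := by
        by_contra h
        exact hχ.2 ((hR χ).2 ⟨h, hχ.1⟩)
      rw [h0]; simp), Finset.sum_union hdisj, hR1, Finset.sum_singleton,
    Finset.sum_insert (by simp [n1, n2, n3]), Finset.sum_insert (by simp [n4, n5]),
    Finset.sum_pair hne, hp1, huc, hu66 _ hd, hu66 _ hd', F_principal hG K, hvc, hv, hv', hpd, hdc,
    hd, hd'] at hcount
  rcases hnum with ⟨rfl, rfl, rfl⟩ | ⟨rfl, rfl, rfl⟩
  · obtain ⟨hdX, hvX⟩ : charDegree (X : G → ℂ) = 154 ∧ F X = 14 := by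
      rcases huX with h | h <;> rw [h] at hRd hRf <;> omega
    have hs : u X = -1 := by
      rcases huX with h | h <;> rw [h, hdX] at hRd <;> omega
    rw [hs, hvX, hdX] at hcount
    norm_num at hcount
    have h : (1806336 * q : ℕ) = 2257920 := by exact_mod_cast hcount
    omega
  · obtain ⟨hdX, hvX⟩ : charDegree (X : G → ℂ) = 11 ∧ F X = 3 := by
      rcases huX with h | h <;> rw [h] at hRd hRf <;> omega
    have hs : u X = 1 := by
      rcases huX with h | h <;> rw [h, hdX] at hRd <;> omega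
    rw [hs, hvX, hdX] at hcount
    norm_num at hcount
    have h : (1806336 * q : ℕ) = 376320 := by exact_mod_cast hcount
    omega

/-- A degree 21 with value -7 and a degree 99 with value 15 need room for two more squares. -/
theorem bound_DE [DecidableEq (IrrCharacter G)] (L : LocalEleven G) {c h : IrrCharacter G}
    (hdc : charDegree (c : G → ℂ) = 21) (hvc : F c = -7)
    (hdh : charDegree (h : G → ℂ) = 99) (hvh : F h = 15) (N : Finset (IrrCharacter G))
    (hN : ∀ χ ∈ N, 11 ∣ charDegree (χ : G → ℂ) ∧ (χ = h ∨ 5 ∣ charDegree (χ : G → ℂ)))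
    (hB : ∀ χ ∈ blockSet T, χ = principal G ∨ χ = c ∨ 5 ∣ charDegree (χ : G → ℂ)) :
    base (lvals T F) + (∑ χ ∈ N, F χ * F χ) + 221 ≤ (Nat.card (cen t) : ℤ) := by
  classical
  haveI := Fintype.ofFinite G
  haveI := irrFintype G
  haveI := Fact.mk (show Nat.Prime 5 by norm_num)
  obtain ⟨y, hy⟩ := exists_prime_orderOf_dvd_card' (G := G) 5 (by rw [hG]; norm_num)
  obtain ⟨u, hu, hu0, hu1, hS, hd0, hf0⟩ := five_facts hG (localFive hG K L) hy K.order K.val
  have hp1 : u (principal G) = 1 := by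
    have := hu (principal G)
    rw [principal_apply] at this
    exact_mod_cast this
  have huc : u c = 1 := by
    obtain ⟨h1, h2⟩ := hu1 c (by rw [hdc]; norm_num)
    rw [hdc] at h2
    omega
  have huh : u h = -1 := by
    obtain ⟨h1, h2⟩ := hu1 h (by rw [hdh]; norm_num)
    rw [hdh] at h2
    omega
  have hpd : charDegree (principal G : G → ℂ) = 1 := principal_dg hG
  have n1 : principal G ≠ c := fun e => by rw [← e, hpd] at hdc; norm_num at hdc
  have n2 : principal G ≠ h := fun e => by rw [← e, hpd] at hdh; norm_num at hdh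
  have n3 : c ≠ h := fun e => by rw [← e, hdc] at hdh; norm_num at hdh
  have hK : ∀ χ ∈ ({principal G, c, h} : Finset (IrrCharacter G)), u χ ≠ 0 := by
    intro χ hχ
    simp only [Finset.mem_insert, Finset.mem_singleton] at hχ
    rcases hχ with e | e | e <;> subst e <;> omega
  obtain ⟨R, hdisj, hR, hcard, hRd, hRf⟩ := rest_five hS hd0 hf0 _ hK
  rw [Finset.card_insert_of_notMem (by simp [n1, n2]), Finset.card_pair n3] at hcard
  rw [Finset.sum_insert (by simp [n1, n2]), Finset.sum_pair n3, hp1, huc, huh, F_principal hG K,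
    hvc, hvh] at hRf
  have hnot : ∀ χ ∈ R, χ ∉ blockSet T ∧ χ ∉ N := by
    intro χ hχ
    obtain ⟨hne, hnK⟩ := (hR χ).1 hχ
    simp only [Finset.mem_insert, Finset.mem_singleton, not_or] at hnK
    refine ⟨fun hb => ?_, fun hn => ?_⟩
    · rcases hB χ hb with e | e | e
      · exact hnK.1 e
      · exact hnK.2.1 e
      · exact hne (hu0 χ e)
    · rcases (hN χ hn).2 with e | e
      · exact hnK.2.2 e
      · exact hne (hu0 χ e)
  have hle := norm_le hG K (N ∪ R) fun χ hχ => by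
    rcases Finset.mem_union.1 hχ with e | e
    · exact not_dvd_of_mem hG K χ (hN χ e).1
    · exact (hnot χ e).1
  rw [Finset.sum_union (Finset.disjoint_right.2 fun χ hχ => (hnot χ hχ).2)] at hle
  have hcs : (∑ χ ∈ R, u χ * F χ) ^ 2 ≤ (R.card : ℤ) * ∑ χ ∈ R, F χ * F χ := by
    refine le_trans sq_sum_le_card_mul_sum_sq (le_of_eq ?_)
    congr 1
    refine Finset.sum_congr rfl fun χ hχ => ?_
    obtain ⟨hne, -⟩ := (hR χ).1 hχ
    rcases (hu1 χ fun e => hne (hu0 χ e)).1 with e | e <;> rw [e] <;> ring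
  rw [hRf] at hcs
  norm_num at hcs
  have hnn : 0 ≤ ∑ χ ∈ R, F χ * F χ := Finset.sum_nonneg fun χ _ => mul_self_nonneg _
  have h2 : (R.card : ℤ) ≤ 2 := by omega
  have : (221 : ℤ) ≤ ∑ χ ∈ R, F χ * F χ := by nlinarith
  linarith

omit K in
/-- The degrees and values of a set of characters leave room for the rest. -/
theorem cauchy_rest [Fintype (IrrCharacter G)] [DecidableEq (IrrCharacter G)]
    {t : G} (ht : orderOf t = 2) {F : IrrCharacter G → ℤ}
    (hF : ∀ χ, (F χ : ℂ) = (χ : G → ℂ) t) (S : Finset (IrrCharacter G)) :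
    (∑ χ ∈ S, (charDegree (χ : G → ℂ) : ℤ) * F χ) ^ 2 ≤
      (443520 - ∑ χ ∈ S, (charDegree (χ : G → ℂ) : ℤ) ^ 2) *
        ((Nat.card (cen t) : ℤ) - ∑ χ ∈ S, F χ ^ 2) := by
  classical
  have ht1 : t ≠ 1 := fun h => by rw [h, orderOf_one] at ht; omega
  have h0 : (∑ χ : IrrCharacter G, (charDegree (χ : G → ℂ) : ℤ) * F χ) = 0 := by
    have h := sum_degree_mul (G := G) t
    rw [if_neg ht1] at h
    simp only [deg_eq, ← hF] at h
    exact_mod_cast h
  have h1 : (∑ χ : IrrCharacter G, (charDegree (χ : G → ℂ) : ℤ) ^ 2) = 443520 := by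
    have h := sum_degree_sq_nat (G := G)
    rw [hG] at h
    exact_mod_cast h
  have h2 := M12Order.sum_sq_le_card_cen (g := t) Finset.univ F fun χ _ => hF χ
  have e : (∑ χ ∈ S, (charDegree (χ : G → ℂ) : ℤ) * F χ) =
      -∑ χ ∈ Sᶜ, (charDegree (χ : G → ℂ) : ℤ) * F χ := by
    rw [eq_neg_iff_add_eq_zero, Finset.sum_add_sum_compl, h0]
  rw [e, neg_sq]
  refine (Finset.sum_mul_sq_le_sq_mul_sq _ _ _).trans ?_
  have e1 := Finset.sum_add_sum_compl S (fun χ : IrrCharacter G => (charDegree (χ : G → ℂ) : ℤ) ^ 2)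
  have e2 := Finset.sum_add_sum_compl S (fun χ : IrrCharacter G => F χ ^ 2)
  refine mul_le_mul (by linarith) ?_ (Finset.sum_nonneg fun χ _ => sq_nonneg _) ?_
  · have : ((Nat.card (cen t) : ℕ) : ℤ) = (Nat.card (M12Order.cen t) : ℤ) := rfl
    linarith
  · have := Finset.sum_nonneg (s := Sᶜ) fun χ (_ : χ ∈ Sᶜ) =>
      sq_nonneg ((charDegree (χ : G → ℂ) : ℤ))
    linarith

end CfsgLib.M22Order.SevenKill
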