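import Cfsg.Agent.Lib.M22Order.SevenKillSetup

/-!
# Simple groups of order 443520: the block at seven against the configurations (piece C4)
-/

set_option autoImplicit false
set_option linter.style.haveILetI false
set_option linter.unusedSectionVars false

open Cfsg CfsgLib.Chars CfsgLib.CharApps CfsgLib.Blocks CfsgLib.Small

namespace CfsgLib.M22Order.SevenKill

open CfsgLib.M22Order.SevenArith

universe u

variable {G : Type u} [Group G] [Finite G] [IsSimpleGroup G]

theorem list_deg (l : List ℕ × ℕ) (d : ℕ) (hd : d ∈ l.2 :: l.1) (h : d % 5 = 2 ∨ d % 5 = 3) :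
    has23 l = true := by
  simp only [has23, List.any_eq_true, Bool.or_eq_true, beq_iff_eq]
  exact ⟨d, hd, h⟩

variable (hG : Nat.card G = 443520) {T : TableEleven G} {P : Sylow 7 G} {t : G}
  {F : IrrCharacter G → ℤ} (K : Ctx T P t F)

include hG K

/-- A character outside the block at eleven has degree divisible by eleven. -/
theorem dvd_or_pair (χ : IrrCharacter G) (hne : χ ≠ principal G) :
    11 ∣ charDegree (χ : G → ℂ) ∨ ((charDegree (χ : G → ℂ), F χ) ∈ pairsOf (degList T) (lvals T F) ∧
      charDegree (χ : G → ℂ) ∈ (degList T).2 :: (degList T).1) := by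
  rw [pairsOf_eq]
  rcases Table.known T χ with h | ⟨i, rfl⟩ | ⟨j, rfl⟩ | h
  · exact absurd h hne
  · refine Or.inr ⟨?_, ?_⟩
    · rw [T.deg_a]
      fin_cases i <;> simp
    · rw [T.deg_a]
      simp only [degList, List.mem_cons, List.mem_ofFn]
      exact Or.inr ⟨i, rfl⟩
  · refine Or.inr ⟨?_, ?_⟩
    · rw [T.deg_θ, F_theta hG K j]
      simp
    · rw [T.deg_θ]
      simp [degList]
  · exact Or.inl h.1

theorem not_dvd_of_mem (χ : IrrCharacter G) (hχ : 11 ∣ charDegree (χ : G → ℂ))
    [DecidableEq (IrrCharacter G)] : χ ∉ blockSet T := by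
  intro h
  rw [blockSet, Finset.mem_insert] at h
  rcases h with rfl | h
  · rw [show charDegree (principal G : G → ℂ) = 1 from principal_dg hG] at hχ
    norm_num at hχ
  · obtain ⟨i, -, rfl⟩ := Finset.mem_image.1 h
    induction i using Fin.addCases with
    | left i =>
      rw [Fin.append_left, T.deg_a] at hχ
      have := (T.sgn_eq i).2
      rcases (T.sgn_eq i).1 with e | e <;> rw [e] at this <;> omega
    | right j =>
      rw [Fin.append_right, T.deg_θ] at hχ
      have := T.ε_eq.2
      rcases T.ε_eq.1 with e | e <;> rw [e] at this <;> omega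

theorem localFive (L : LocalEleven G) : LocalFive G :=
  K.five (isSeven_check _ T.mem (first hG K L).1)

/-- The degrees prime to five are congruent to plus or minus one. -/
theorem mod_five (L : LocalEleven G) (χ : IrrCharacter G) :
    charDegree (χ : G → ℂ) % 5 = 0 ∨ charDegree (χ : G → ℂ) % 5 = 1 ∨
      charDegree (χ : G → ℂ) % 5 = 4 := by
  classical
  haveI := Fintype.ofFinite G
  haveI := irrFintype G
  haveI := Fact.mk (show Nat.Prime 5 by norm_num)
  obtain ⟨y, hy⟩ := exists_prime_orderOf_dvd_card' (G := G) 5 (by rw [hG]; norm_num)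
  obtain ⟨u, -, -, hu, -, -, -⟩ := five_facts hG (localFive hG K L) hy K.order K.val
  by_cases h : 5 ∣ charDegree (χ : G → ℂ)
  · exact Or.inl (Nat.mod_eq_zero_of_dvd h)
  · obtain ⟨h1 | h1, h2⟩ := hu χ h <;> rw [h1] at h2 <;> omega

theorem not_has23 (L : LocalEleven G) : has23 (degList T) = false := by
  rw [Bool.eq_false_iff]
  intro h
  simp only [has23, List.any_eq_true, Bool.or_eq_true, beq_iff_eq, degList, List.mem_cons,
    List.mem_ofFn] at h
  obtain ⟨d, hd, hd5⟩ := h
  rcases hd with rfl | ⟨i, rfl⟩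
  · have := mod_five hG K L (T.θ 0)
    rw [T.deg_θ] at this
    omega
  · have := mod_five hG K L (T.a i)
    rw [T.deg_a] at this
    omega

/-- The degree of a character is a good one. -/
theorem goodDeg_of (L : LocalEleven G) (χ : IrrCharacter G) (hne : χ ≠ principal G) :
    goodDeg (charDegree (χ : G → ℂ)) = true := by
  obtain ⟨hlt, hdvd, hpos⟩ := BlockTable.degree_facts hG χ
  have h1 : charDegree (χ : G → ℂ) ≠ 1 := fun h => hne (BlockTable.eq_principal hG h)
  have h5 := mod_five hG K L χ
  simp only [goodDeg, Bool.and_eq_true, Bool.or_eq_true, bne_iff_ne, beq_iff_eq, decide_eq_true_eq,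
    List.contains_eq_mem, ne_eq]
  refine ⟨⟨⟨⟨hpos.ne', h1⟩, Nat.mod_eq_zero_of_dvd hdvd⟩, hlt⟩, ?_⟩
  rcases dvd_or_pair hG K χ hne with h | ⟨-, h⟩
  · exact Or.inl ⟨Nat.mod_eq_zero_of_dvd h, by omega⟩
  · right
    have hk := List.all_eq_true.1 okDegs_check (degList T) (allLists_check _ T.mem)
    rw [(first hG K L).1, not_has23 hG K L] at hk
    simp only [Bool.not_false, Bool.and_self, Bool.not_true, Bool.false_or, List.all_eq_true,
      List.contains_eq_mem, decide_eq_true_eq] at hk
    exact hk _ h

theorem mem_pool (L : LocalEleven G) (χ : IrrCharacter G) (hne : χ ≠ principal G)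
    (h7 : charDegree (χ : G → ℂ) % 7 = 1 ∨ charDegree (χ : G → ℂ) % 7 = 6) :
    charDegree (χ : G → ℂ) ∈ pool :=
  pool_check _ (BlockTable.degree_facts hG χ).1 h7 (goodDeg_of hG K L χ hne)

theorem config_of (L : LocalEleven G)
    (h : (one120 (pairsOf (degList T) (lvals T F)) || two45 (pairsOf (degList T) (lvals T F))) = true) :
    ((degList T).1, Nat.card (cen t), lvals T F) ∈ configs := by
  rcases (first hG K L).2 with h' | h'
  · rw [not_has23 hG K L] at h'
    exact absurd h' (by decide)
  · exact h' h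

/-- A character of degree 120 in the block at seven fixes the configuration. -/
theorem config_120 (L : LocalEleven G) {M : Ideal AlgInt} (hM : IsPModular 7 M) {χ : IrrCharacter G}
    (hχ : χ ∈ principalBlock M G) (hd : charDegree (χ : G → ℂ) = 120) :
    ((degList T).1, Nat.card (cen t), lvals T F) ∈ configs ∧ F χ = 8 := by
  have hne : χ ≠ principal G := fun h => by
    rw [h, show charDegree (principal G : G → ℂ) = 1 from principal_dg hG] at hd
    norm_num at hd
  have hc := congr_seven hG K hM hχ
  rw [hd] at hc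
  rcases dvd_or_pair hG K χ hne with h | ⟨h, -⟩
  · rw [hd] at h
    norm_num at h
  rw [hd] at h
  have h1 : F χ % 7 = 1 := by omega
  have hk := config_of hG K L (by
    simp only [one120, Bool.or_eq_true, List.any_eq_true, Bool.and_eq_true, beq_iff_eq]
    exact Or.inl ⟨_, h, rfl, h1⟩)
  refine ⟨hk, configs_value _ hk (120, F χ) ?_ rfl h1⟩
  rw [pairsOf_eq] at h
  simp only [List.mem_cons, List.not_mem_nil, or_false, Prod.mk.injEq] at h
  simp only [degList, lvals, pairsOf, List.ofFn_succ, List.ofFn_zero, List.mem_cons,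
    List.not_mem_nil, or_false, Prod.mk.injEq]
  rcases h with h | h | h | h | h | h
  · exact Or.inl h
  · exact Or.inr (Or.inl h)
  · exact Or.inr (Or.inr (Or.inl h))
  · exact Or.inr (Or.inr (Or.inr (Or.inl h)))
  · exact absurd h.1 (fun h120 => by
      have := T.ε_eq.2
      rcases T.ε_eq.1 with e | e <;> rw [e, ← h120] at this <;> norm_num at this)
  · exact absurd h.1 (fun h120 => by
      have := T.ε_eq.2
      rcases T.ε_eq.1 with e | e <;> rw [e, ← h120] at this <;> norm_num at this)

/-- Two characters of degree 45 do not lie in the block at seven. -/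
theorem false_45 (L : LocalEleven G) {M : Ideal AlgInt} (hM : IsPModular 7 M)
    {θ θ' : IrrCharacter G} (hne : θ ≠ θ') (hθ : θ ∈ principalBlock M G)
    (hd : charDegree (θ : G → ℂ) = 45) (hd' : charDegree (θ' : G → ℂ) = 45)
    (hval : F θ = F θ') : False := by
  classical
  have hc := congr_seven hG K hM hθ
  rw [hd] at hc
  have hpos : ∀ χ : IrrCharacter G, charDegree (χ : G → ℂ) = 45 →
      ∃ i : Fin 4, χ = T.a i ∧ T.list.1 i = 45 := by
    intro χ h45
    rcases Table.known T χ with h | ⟨i, rfl⟩ | ⟨j, rfl⟩ | h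
    · rw [h, show charDegree (principal G : G → ℂ) = 1 from principal_dg hG] at h45
      norm_num at h45
    · exact ⟨i, rfl, by rw [← T.deg_a i, h45]⟩
    · exfalso
      have := T.ε_eq.2
      rw [T.deg_θ] at h45
      rcases T.ε_eq.1 with e | e <;> rw [e, h45] at this <;> norm_num at this
    · obtain ⟨h, -⟩ := h
      rw [show dg χ = charDegree (χ : G → ℂ) from rfl, h45] at h
      norm_num at h
  obtain ⟨i, rfl, hi⟩ := hpos θ hd
  obtain ⟨j, rfl, hj⟩ := hpos θ' hd'
  have hij : i ≠ j := fun h => hne (by rw [h])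
  have hx : F (T.a i) % 7 = 3 := by omega
  have hcnt : ∀ (g : Fin 4 → ℕ × ℤ) (r : List (ℕ × ℤ)), g i = g j →
      2 ≤ ([g 0, g 1, g 2, g 3] ++ r).count (g i) := by
    intro g r h
    rw [List.count_append]
    fin_cases i <;> fin_cases j <;> simp_all [List.count_cons] <;> split_ifs <;> omega
  have h45 : two45 (pairsOf (degList T) (lvals T F)) = true := by
    rw [pairsOf_eq]
    simp only [two45, List.any_eq_true, Bool.and_eq_true, beq_iff_eq, decide_eq_true_eq]
    refine ⟨(T.list.1 i, F (T.a i)), ?_, ⟨hi, hx⟩, ?_⟩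
    · fin_cases i <;> simp
    · exact hcnt (fun k => (T.list.1 k, F (T.a k))) [(T.list.2, F (T.θ 0)), (T.list.2, F (T.θ 0))]
        (by simp [hi, hj, hval])
  have hk := config_of hG K L (by rw [h45, Bool.or_true])
  have h1 := configs_no45 _ hk
  have h2 : 2 ≤ (List.ofFn T.list.1).count 45 := by
    have hcc : ∀ (g : Fin 4 → ℕ), g i = 45 → g j = 45 → 2 ≤ (List.ofFn g).count 45 := by
      intro g h h'
      fin_cases i <;> fin_cases j <;> simp_all [List.ofFn_succ, List.count_cons] <;> split_ifs <;> omega
    exact hcc _ hi hj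
  simp only [degList] at h1
  omega

end CfsgLib.M22Order.SevenKill
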