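import Cfsg.Agent.Lib.M22Order.SevenKillBase

/-!
# Simple groups of order 443520: the configurations at a seven-local involution (piece C4)
-/

set_option autoImplicit false
set_option linter.style.haveILetI false
set_option linter.unusedSectionVars false

open Cfsg CfsgLib.Chars CfsgLib.CharApps CfsgLib.Blocks CfsgLib.Small

namespace CfsgLib.M22Order.SevenKill

open CfsgLib.M22Order.SevenArith CfsgLib.M22Order.BlockArith

universe u

variable {G : Type u} [Group G] [Finite G] [IsSimpleGroup G]

/-- The list of degrees. -/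
def degList (T : TableEleven G) : List ℕ × ℕ := (List.ofFn T.list.1, T.list.2)

theorem allLists_check : ∀ x ∈ tables, (List.ofFn x.1, x.2) ∈ allLists := by decide +kernel

theorem isSeven_check : ∀ x ∈ tables, isSevenB (List.ofFn x.1, x.2) = true →
    (∃ i, x.1 i = 10) ∨ x ∈ sevenLists := by decide +kernel

theorem cents_check : ∀ e ∈ [3, 6], ∀ C ∈ sevenCents e,
    C ∈ cents ∧ C ≤ 20160 ∧ C % 7 = 0 ∧ (e = 3 → C ∈ centsThree) := by decide +kernel

theorem configs_value : ∀ k ∈ configs, ∀ x ∈ pairsOf (k.1, 5) k.2.2,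
    x.1 = 120 → x.2 % 7 = 1 → x.2 = 8 := by decide +kernel

theorem configs_no45 : ∀ k ∈ configs, k.1.count 45 ≤ 1 := by decide +kernel

/-- The setting: an involution centralizing a Sylow subgroup of order seven. -/
structure Ctx (T : TableEleven G) (P : Sylow 7 G) (t : G) (F : IrrCharacter G → ℤ) : Prop where
  card_P : Nat.card (P : Subgroup G) = 7
  order : orderOf t = 2
  comm : t ∈ Subgroup.centralizer ((P : Subgroup G) : Set G)
  val : ∀ χ : IrrCharacter G, (F χ : ℂ) = (χ : G → ℂ) t
  mem : Nat.card (cen t) ∈ cents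
  le : Nat.card (cen t) ≤ 20160
  five : IsSevenList T.list → LocalFive G

/-- The values on the block at eleven. -/
def lvals (T : TableEleven G) (F : IrrCharacter G → ℤ) : List ℤ :=
  [F (T.a 0), F (T.a 1), F (T.a 2), F (T.a 3), F (T.θ 0)]

/-- The characters of the block at eleven. -/
noncomputable def blockSet [DecidableEq (IrrCharacter G)] (T : TableEleven G) : Finset (IrrCharacter G) :=
  insert (principal G) (Finset.univ.image (Fin.append T.a T.θ))

theorem pairsOf_eq (T : TableEleven G) (F : IrrCharacter G → ℤ) :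
    pairsOf (degList T) (lvals T F) = [(T.list.1 0, F (T.a 0)), (T.list.1 1, F (T.a 1)),
      (T.list.1 2, F (T.a 2)), (T.list.1 3, F (T.a 3)), (T.list.2, F (T.θ 0)),
      (T.list.2, F (T.θ 0))] := by
  simp [degList, lvals, pairsOf, List.ofFn_succ]

variable (hG : Nat.card G = 443520) {T : TableEleven G} {P : Sylow 7 G} {t : G}
  {F : IrrCharacter G → ℤ} (K : Ctx T P t F)

include hG K

theorem t_sq : t * t = 1 := by rw [← sq, ← K.order, pow_orderOf_eq_one]

theorem not_dvd_order {p : ℕ} (hp : p.Prime) (h2 : p ≠ 2) : ¬ p ∣ orderOf t := by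
  rw [K.order]
  exact fun h => h2 ((Nat.prime_dvd_prime_iff_eq hp Nat.prime_two).1 h)

theorem F_principal : F (principal G) = 1 := by
  have h := K.val (principal G)
  rw [principal_apply] at h
  exact_mod_cast h

theorem F_theta (j : Fin 2) : F (T.θ j) = F (T.θ 0) := by
  have h11 := not_dvd_order hG K (show Nat.Prime 11 by norm_num) (by norm_num)
  have hε : (T.ε : ℂ) ≠ 0 := by rcases T.ε_eq.1 with h | h <;> rw [h] <;> norm_num
  have h := (T.rel j t h11).trans (T.rel 0 t h11).symm
  have h' := mul_left_cancel₀ hε h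
  rw [← K.val, ← K.val] at h'
  exact_mod_cast h'

theorem facts (χ : IrrCharacter G) (hne : χ ≠ principal G) :
    (4 : ℤ) ∣ (charDegree (χ : G → ℂ) : ℤ) - F χ ∧ (F χ).natAbs < charDegree (χ : G → ℂ) ∧
      (charDegree (χ : G → ℂ) : ℤ) ∣ ((443520 / Nat.card (cen t) : ℕ) : ℤ) * F χ := by
  have ht1 : t ≠ 1 := fun h => by
    have := K.order
    rw [h, orderOf_one] at this
    omega
  have ht := t_sq hG K
  obtain ⟨m, hm, h4, hlo, hhi⟩ :=
    BlockTable.involution_value hG ht ht1 χ fun h => hne (BlockTable.eq_principal hG h)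
  have hmF : m = F χ := by exact_mod_cast hm.trans (K.val χ).symm
  subst hmF
  refine ⟨h4, ?_, ?_⟩
  · have : F χ ≠ -(charDegree (χ : G → ℂ) : ℤ) := fun h =>
      BlockTable.apply_ne_neg_degree hG ht ht1 χ hne (by rw [← hm, h]; simp)
    omega
  · rw [show 443520 / Nat.card (cen t) = (cen t).index by
      rw [← BlockTable.index_mul_card_cen hG t, Nat.mul_div_cancel _ Nat.card_pos]]
    exact M12Order.dvd_index_mul χ hm

theorem seven_dvd (χ : IrrCharacter G) (h : 7 ∣ charDegree (χ : G → ℂ)) : (7 : ℤ) ∣ F χ :=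
  seven_dvd_value hG K.card_P K.order K.comm χ h (K.val χ)

theorem congr_seven {M : Ideal AlgInt} (hM : IsPModular 7 M) {χ : IrrCharacter G}
    (hχ : χ ∈ principalBlock M G) : (7 : ℤ) ∣ F χ - charDegree (χ : G → ℂ) := by
  haveI := Fact.mk (show Nat.Prime 7 by norm_num)
  refine int_congr_of_principalBlock hM (by rw [hG]; norm_num) hχ (g := t) ?_ (K.val χ)
  rw [← K.card_P]
  exact Subgroup.card_dvd_of_le fun x hx => Subgroup.mem_centralizer_singleton_iff.2
    (Subgroup.mem_centralizer_iff.1 K.comm x hx)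

/-- A known set of further characters bounds the centralizer from below. -/
theorem norm_le [DecidableEq (IrrCharacter G)] (N : Finset (IrrCharacter G))
    (hN : ∀ χ ∈ N, χ ∉ blockSet T) :
    base (lvals T F) + ∑ χ ∈ N, F χ * F χ ≤ (Nat.card (cen t) : ℤ) := by
  refine le_trans (le_of_eq ?_) (M12Order.sum_sq_le_card_cen (blockSet T ∪ N) F fun χ _ => K.val χ)
  rw [Finset.sum_union (Finset.disjoint_right.2 hN), blockSet,
    Finset.sum_insert (fun h => by
      obtain ⟨i, -, hi⟩ := Finset.mem_image.1 h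
      exact T.ne_principal i hi), Finset.sum_image fun i _ j _ h => T.inj h, Fin.sum_univ_add]
  simp only [Fin.append_left, Fin.append_right, Fin.sum_univ_four, Fin.sum_univ_two,
    F_principal hG K, F_theta hG K 1, lvals, base, sq]
  ring

theorem vals_mem {χ : IrrCharacter G} (hne : χ ≠ principal G)
    (hsq : F χ * F χ ≤ (Nat.card (cen t) : ℤ)) :
    F χ ∈ vals (charDegree (χ : G → ℂ)) (Nat.card (cen t)) 142 := by
  obtain ⟨h4, hlt, hdvd⟩ := facts hG K χ hne
  refine BlockTable.mem_vals ?_ hlt h4 hdvd hsq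
  by_contra h
  have h1 : (143 : ℤ) ≤ |F χ| := by rw [Int.abs_eq_natAbs]; omega
  have h2 : F χ * F χ ≤ 20160 := hsq.trans (by exact_mod_cast K.le)
  nlinarith [abs_mul_abs_self (F χ)]

theorem mem_cand {M : Ideal AlgInt} (hM : IsPModular 7 M) {χ : IrrCharacter G}
    (hχ : χ ∈ principalBlock M G) (hne : χ ≠ principal G)
    (hsq : F χ * F χ ≤ (Nat.card (cen t) : ℤ)) {d : ℕ} (hd : charDegree (χ : G → ℂ) = d) :
    F χ ∈ cand d (Nat.card (cen t)) := by
  subst hd
  refine List.mem_filter.2 ⟨vals_mem hG K hne hsq, ?_⟩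
  have := congr_seven hG K hM hχ
  simp only [beq_iff_eq]
  omega

/-- What the first check gives. -/
theorem first (L : LocalEleven G) : isSevenB (degList T) = true ∧ (has23 (degList T) = true ∨
    ((one120 (pairsOf (degList T) (lvals T F)) || two45 (pairsOf (degList T) (lvals T F))) = true →
      ((degList T).1, Nat.card (cen t), lvals T F) ∈ configs)) := by
  classical
  obtain ⟨v, w, hv⟩ := InvValues.exists_vals hG L T K.order
  have ev : ∀ i, v i = F (T.a i) := fun i => by exact_mod_cast (hv.val i).trans (K.val _).symm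
  have ew : w = F (T.θ 0) := by exact_mod_cast (hv.val_θ 0).trans (K.val _).symm
  have hane : ∀ i, T.a i ≠ principal G := fun i => by
    simpa [Fin.append_left] using T.ne_principal (Fin.castAdd 2 i)
  have hsq : ∀ i, F (T.a i) * F (T.a i) ≤ (Nat.card (cen t) : ℤ) := fun i => by
    have h := hv.sq_le
    have := Finset.single_le_sum (f := fun j => v j * v j) (fun j _ => mul_self_nonneg _)
      (Finset.mem_univ i)
    rw [← ev i]
    nlinarith [mul_self_nonneg w]
  have hmem : ∀ i, v i ∈ vals7 (T.list.1 i) (Nat.card (cen t)) := fun i => by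
    refine List.mem_filter.2 ⟨?_, ?_⟩
    · rw [ev i, ← T.deg_a i]
      exact vals_mem hG K (hane i) (hsq i)
    · simp only [okSeven, Bool.or_eq_true, bne_iff_ne, beq_iff_eq, ne_eq]
      by_cases h : T.list.1 i % 7 = 0
      · right
        have := seven_dvd hG K (T.a i) (by rw [T.deg_a]; omega)
        rw [← ev i] at this
        omega
      · exact Or.inl h
  have hokw : okSeven T.list.2 w = true := by
    simp only [okSeven, Bool.or_eq_true, bne_iff_ne, beq_iff_eq, ne_eq]
    by_cases h : T.list.2 % 7 = 0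
    · right
      have := seven_dvd hG K (T.θ 0) (by rw [T.deg_θ]; omega)
      rw [← ew] at this
      omega
    · exact Or.inl h
  have hall := List.all_eq_true.1 (List.all_eq_true.1 first_check _ (allLists_check _ T.mem)) _ K.mem
  have hl : List.ofFn T.list.1 = [T.list.1 0, T.list.1 1, T.list.1 2, T.list.1 3] := by
    simp [List.ofFn_succ]
  simp only [firstOK, hl, List.all_eq_true] at hall
  have h1 := hall _ (hmem 0) _ (hmem 1)
  have hs := hv.sq_le
  rw [Fin.sum_univ_four] at hs
  have hnn : ∀ x : ℤ, 0 ≤ x * x := mul_self_nonneg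
  have hd1 : decide (1 + (v 0 * v 0 + v 1 * v 1) ≤ (Nat.card (cen t) : ℤ)) = true :=
    decide_eq_true (by have := hnn (v 2); have := hnn (v 3); have := hnn w; linarith)
  have hd2 : decide (1 + (v 0 * v 0 + v 1 * v 1 + v 2 * v 2) ≤ (Nat.card (cen t) : ℤ)) = true :=
    decide_eq_true (by have := hnn (v 3); have := hnn w; linarith)
  rw [hd1, Bool.not_true, Bool.false_or, List.all_eq_true] at h1
  have h2 := h1 _ (hmem 2)
  rw [hd2, Bool.not_true, Bool.false_or, List.all_eq_true] at h2
  have h3 := h2 _ (hmem 3)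
  have hexc : excVal (T.list.1 0) (T.list.1 1) (T.list.1 2) (T.list.1 3) (v 0) (v 1) (v 2) (v 3) = w :=
    hv.w_eq.symm
  simp only [hexc, hv.fits, hokw, Bool.and_self, Bool.not_true, Bool.false_or, Bool.and_eq_true] at h3
  obtain ⟨hs7, h4⟩ := h3
  have e : (List.ofFn T.list.1, T.list.2) = degList T := rfl
  rw [← hl, e] at hs7
  refine ⟨hs7, ?_⟩
  rw [← hl, e, ev 0, ev 1, ev 2, ev 3, ew, Bool.or_eq_true, Bool.or_eq_true] at h4
  rcases h4 with (h | h) | h
  · exact Or.inl h
  · exact Or.inr fun h' => by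
      simp only [lvals] at h'
      rw [h'] at h
      simp at h
  · exact Or.inr fun _ => by simpa [lvals, degList] using h

end CfsgLib.M22Order.SevenKill
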