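import Cfsg.Agent.Lib.M22Order.ThreeColumn
import Cfsg.Agent.Lib.Small.Order168

/-!
# Simple groups of order 443520: the elements of order three

Centralizers have order 36 and contain three involutions, there is no element of order nine, and a
Sylow subgroup is its own centralizer with normalizer of order 72.
-/

set_option autoImplicit false
set_option linter.style.haveILetI false
set_option linter.unusedSectionVars false

open Cfsg CfsgLib.Chars CfsgLib.CharApps
open scoped Pointwise

namespace CfsgLib.M22Order.ThreeColumns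

universe u

variable {G : Type u} [Group G] [Finite G]

theorem card_commute_congr {x y : G} (h : IsConj x y) (m : ℕ) :
    Nat.card {g : G // Commute x g ∧ orderOf g = m} =
      Nat.card {g : G // Commute y g ∧ orderOf g = m} := by
  obtain ⟨c, rfl⟩ := isConj_iff.1 h
  refine Nat.card_congr ((MulAut.conj c).toEquiv.subtypeEquiv fun g => ?_)
  simp [Commute.conj_iff]
  intro _
  rw [show c * g * c⁻¹ = MulAut.conj c g from rfl, MulEquiv.orderOf_eq]

theorem card_commute_eq (x : G) (m : ℕ) :
    Nat.card {g : G // Commute x g ∧ orderOf g = m} = Nat.card {g : cen x // orderOf g = m} :=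
  Nat.card_congr
    { toFun := fun g => ⟨⟨g.1, mem_cen.2 g.2.1.symm⟩, by rw [Subgroup.orderOf_mk]; exact g.2.2⟩
      invFun := fun g => ⟨g.1.1, (mem_cen.1 g.1.2).symm, by rw [Subgroup.orderOf_coe]; exact g.2⟩
      left_inv := fun _ => rfl
      right_inv := fun _ => rfl }

/-- A group of even order has an odd number of involutions. -/
theorem odd_involutions {H : Type u} [Group H] [Finite H] (h : 2 ∣ Nat.card H) :
    Nat.card {g : H // orderOf g = 2} % 2 = 1 := by
  classical
  haveI := Fintype.ofFinite H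
  haveI := Fact.mk Nat.prime_two
  have hσ : (Equiv.inv H) ^ (2 ^ 1) = 1 := Equiv.ext fun g => by simp [pow_two]
  have h1 := Equiv.Perm.card_compl_support_modEq (p := 2) (n := 1) hσ
  have h2 : (Equiv.inv H).supportᶜ =
      insert 1 (Finset.univ.filter fun g : H => orderOf g = 2) := by
    ext g
    simp only [Finset.mem_compl, Equiv.Perm.mem_support, ne_eq, not_not, Equiv.inv_apply,
      Finset.mem_insert, Finset.mem_filter, Finset.mem_univ, true_and]
    constructor
    · intro hg
      by_cases hg1 : g = 1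
      · exact Or.inl hg1
      · exact Or.inr (orderOf_eq_prime (by rw [pow_two]; exact mul_eq_one_iff_eq_inv.2 hg.symm) hg1)
    · rintro (rfl | hg)
      · exact inv_one
      · exact inv_eq_of_mul_eq_one_right (by rw [← pow_two, ← hg, pow_orderOf_eq_one])
  rw [h2, Finset.card_insert_of_notMem (by simp), ← Fintype.card_subtype,
    ← Nat.card_eq_fintype_card, ← Nat.card_eq_fintype_card, Nat.ModEq] at h1
  omega

variable (hG : Nat.card G = 443520)

include hG

theorem card_class_eq {p c : ℕ} {x : G} (hx : orderOf x = p) (hc : Nat.card (cen x) = c)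
    (hconj : ∀ y : G, orderOf y = p → IsConj x y) :
    Nat.card {g : G // orderOf g = p} * c = 443520 := by
  have h1 : Nat.card {g : G // orderOf g = p} = (cen x).index := by
    refine Eq.trans (Nat.card_congr (Equiv.subtypeEquivRight fun g => ?_))
      (CfsgLib.M12Order.ThreeColumns.card_class x)
    refine ⟨hconj g, fun h => ?_⟩
    obtain ⟨d, rfl⟩ := isConj_iff.1 h
    rw [show d * x * d⁻¹ = MulAut.conj d x from rfl, MulEquiv.orderOf_eq, hx]
  rw [h1, ← hc, mul_comm, Subgroup.card_mul_index, hG]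

theorem card_sylow_prime {p m : ℕ} [Fact p.Prime] (hm : 443520 = p * m) (hp : ¬ p ∣ m)
    (P : Sylow p G) : Nat.card (P : Subgroup G) = p := by
  simpa using CfsgLib.Small.card_sylow_eq (p := p) 1 m (by rw [hG, pow_one, hm]) hp P

theorem card_prime_elements {p m n : ℕ} [Fact p.Prime] (hm : 443520 = p * m) (hp : ¬ p ∣ m)
    (hL : Local G p n) : Nat.card {g : G // orderOf g = p} * n = 443520 * (p - 1) := by
  obtain ⟨P⟩ : Nonempty (Sylow p G) := inferInstance
  rw [CfsgLib.Small.card_orderOf_eq_prime (card_sylow_prime hG hm hp),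
    Sylow.card_eq_index_normalizer P, mul_right_comm, ← hL.norm P]
  show (Subgroup.normalizer ((P : Subgroup G) : Set G)).index * _ * _ = _
  rw [Subgroup.index_mul_card, hG]

variable (h2 : LocalTwo G)

theorem not_nine_dvd_invol (h2 : LocalTwo G) {P : Sylow 3 G} {v : G} (hv : orderOf v = 2)
    (hc : ∀ a ∈ (P : Subgroup G), Commute a v) : False := by
  have h9 : 9 ∣ Nat.card (cen v) := card_sylow_three hG P ▸
    Subgroup.card_dvd_of_le fun a ha => mem_cen.2 (hc a ha)
  rw [h2.cent v hv] at h9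
  norm_num at h9

theorem invol_three (h2 : LocalTwo G)
    (hC : ∀ z : G, orderOf z = 3 → Nat.card (cen z) = 36)
    (hconj : ∀ z z' : G, orderOf z = 3 → orderOf z' = 3 → IsConj z z') {z : G}
    (hz : orderOf z = 3) : Nat.card {v : G // Commute z v ∧ orderOf v = 2} = 3 := by
  classical
  haveI := Fintype.ofFinite G
  haveI := Fact.mk Nat.prime_two
  haveI := Fact.mk Nat.prime_three
  obtain ⟨t, ht⟩ := exists_prime_orderOf_dvd_card' (G := G) 2 (by rw [hG]; norm_num)
  have c3 := card_class_eq hG hz (hC z hz) fun y hy => hconj z y hz hy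
  have c2 := card_class_eq hG ht (h2.cent t ht) fun y hy => h2.conj t y ht hy
  set n := Nat.card {v : G // Commute z v ∧ orderOf v = 2} with hn
  set m := Nat.card {v : G // Commute t v ∧ orderOf v = 3} with hm
  have hdc : Nat.card {g : G // orderOf g = 3} * n = Nat.card {g : G // orderOf g = 2} * m := by
    have e : (Σ y : {g : G // orderOf g = 3}, {v : G // Commute y.1 v ∧ orderOf v = 2}) ≃
        Σ v : {g : G // orderOf g = 2}, {y : G // Commute v.1 y ∧ orderOf y = 3} :=
      { toFun := fun s => ⟨⟨s.2.1, s.2.2.2⟩, ⟨s.1.1, s.2.2.1.symm, s.1.2⟩⟩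
        invFun := fun s => ⟨⟨s.2.1, s.2.2.2⟩, ⟨s.1.1, s.2.2.1.symm, s.1.2⟩⟩
        left_inv := fun _ => rfl
        right_inv := fun _ => rfl }
    have h := Nat.card_congr e
    have eA : ∀ y : {g : G // orderOf g = 3},
        Nat.card {v : G // Commute y.1 v ∧ orderOf v = 2} = n :=
      fun y => (card_commute_congr (hconj z y.1 hz y.2) 2).symm
    have eB : ∀ v : {g : G // orderOf g = 2},
        Nat.card {y : G // Commute v.1 y ∧ orderOf y = 3} = m :=
      fun v => (card_commute_congr (h2.conj t v.1 ht v.2) 3).symm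
    rw [Nat.card_sigma, Nat.card_sigma, Finset.sum_congr rfl (fun y _ => eA y),
      Finset.sum_congr rfl (fun v _ => eB v),
      Finset.sum_const, Finset.sum_const, smul_eq_mul, smul_eq_mul, Finset.card_univ,
      Finset.card_univ, ← Nat.card_eq_fintype_card, ← Nat.card_eq_fintype_card] at h
    exact h
  have hT : ∀ Q : Sylow 3 (cen t), Nat.card (Q : Subgroup (cen t)) = 3 := fun Q => by
    simpa using CfsgLib.Small.card_sylow_eq (p := 3) 1 128 (by rw [h2.cent t ht]; rfl)
      (by norm_num) Q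
  obtain ⟨Q⟩ : Nonempty (Sylow 3 (cen t)) := inferInstance
  have hm' : m = Nat.card (Sylow 3 (cen t)) * 2 := by
    rw [hm, card_commute_eq, CfsgLib.Small.card_orderOf_eq_prime hT]
  have hdvd : Nat.card (Sylow 3 (cen t)) ∣ 2 ^ 7 := by
    have h1 := Q.card_dvd_index
    have h3 := (Q : Subgroup (cen t)).card_mul_index
    rw [hT Q, h2.cent t ht] at h3
    rwa [show (Q : Subgroup (cen t)).index = 2 ^ 7 by norm_num; omega] at h1
  have hodd : n % 2 = 1 := by
    rw [hn, card_commute_eq]
    exact odd_involutions (by rw [hC z hz]; norm_num)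
  obtain ⟨a, ha, hae⟩ := (Nat.dvd_prime_pow Nat.prime_two).1 hdvd
  rw [hm', hae] at hdc
  rw [show Nat.card {g : G // orderOf g = 3} = 12320 by omega,
    show Nat.card {g : G // orderOf g = 2} = 1155 by omega] at hdc
  interval_cases a <;> norm_num at hdc <;> omega

theorem cent_sylow (h2 : LocalTwo G) (hC : ∀ z : G, orderOf z = 3 → Nat.card (cen z) = 36)
    (P : Sylow 3 G) : Subgroup.centralizer ((P : Subgroup G) : Set G) = (P : Subgroup G) := by
  haveI := Fact.mk Nat.prime_three
  haveI := Fact.mk Nat.prime_two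
  set D := Subgroup.centralizer ((P : Subgroup G) : Set G) with hD
  have hPD : (P : Subgroup G) ≤ D := fun a ha =>
    Subgroup.mem_centralizer_iff.2 fun b hb => (sylow_comm hG P hb ha).eq
  obtain ⟨⟨y, hy⟩, hyo⟩ := exists_prime_orderOf_dvd_card' (G := (P : Subgroup G)) 3
    (by rw [card_sylow_three hG P]; norm_num)
  rw [Subgroup.orderOf_mk] at hyo
  have hd : Nat.card D ∣ 36 := hC y hyo ▸
    Subgroup.card_dvd_of_le (Subgroup.centralizer_le (Set.singleton_subset_iff.2 hy))
  have hodd : ¬ 2 ∣ Nat.card D := fun h => by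
    obtain ⟨⟨v, hv⟩, hvo⟩ := exists_prime_orderOf_dvd_card' (G := D) 2 h
    rw [Subgroup.orderOf_mk] at hvo
    exact not_nine_dvd_invol hG h2 hvo fun a ha => (Subgroup.mem_centralizer_iff.1 hv a ha : _)
  refine (Subgroup.eq_of_le_of_card_ge hPD ?_).symm
  rw [card_sylow_three hG P]
  have h36 := Nat.le_of_dvd (by norm_num) hd
  have key : ∀ k ≤ 36, k ∣ 36 → ¬ 2 ∣ k → k ≤ 9 := by decide
  exact key _ h36 hd hodd

variable {P : Sylow 3 G}

/-- An element normalizing a Sylow subgroup cannot shift one of its elements by a nontrivial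
element that it fixes. -/
theorem fixed_of_shift (hcs : Subgroup.centralizer ((P : Subgroup G) : Set G) = (P : Subgroup G))
    {g y w : G} (hg : g ∈ Subgroup.normalizer ((P : Subgroup G) : Set G)) (hy : y ∈ (P : Subgroup G))
    (_hw : w ∈ (P : Subgroup G)) (hgw : Commute g w) (hgy : g * y * g⁻¹ = y * w) (hw3 : w ^ 3 = 1)
    (hgen : ∀ x : G, Commute x y → Commute x w → ∀ a ∈ (P : Subgroup G), Commute x a) : w = 1 := by
  haveI := Fact.mk Nat.prime_three
  have hit : ∀ k : ℕ, g ^ k * y * (g ^ k)⁻¹ = y * w ^ k := by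
    intro k
    induction k with
    | zero => simp
    | succ k ih =>
      have : g ^ (k + 1) * y * (g ^ (k + 1))⁻¹ = g * (g ^ k * y * (g ^ k)⁻¹) * g⁻¹ := by
        rw [pow_succ']; group
      rw [this, ih, show g * (y * w ^ k) * g⁻¹ = (g * y * g⁻¹) * (g * w ^ k * g⁻¹) by group, hgy,
        (hgw.pow_right k).eq, mul_inv_cancel_right, mul_assoc, pow_succ']
  have h3 : Commute (g ^ 3) y := by
    have := hit 3
    rw [hw3, mul_one] at this
    exact mul_inv_eq_iff_eq_mul.1 this
  have h3P : g ^ 3 ∈ (P : Subgroup G) := by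
    rw [← hcs]
    exact Subgroup.mem_centralizer_iff.2 fun a ha =>
      (hgen _ h3 (hgw.pow_left 3) a ha).symm.eq
  have hp : IsPGroup 3 (Subgroup.zpowers g) := by
    have h9 : g ^ 3 ^ 3 = 1 := by
      have := Subgroup.orderOf_dvd_natCard _ h3P
      rw [card_sylow_three hG P] at this
      rw [show 3 ^ 3 = 3 * 9 by rfl, pow_mul]
      exact orderOf_dvd_iff_pow_eq_one.1 this
    obtain ⟨i, -, hi⟩ := (Nat.dvd_prime_pow Nat.prime_three).1 (orderOf_dvd_of_pow_eq_one h9)
    exact IsPGroup.of_card (n := i) (by rw [Nat.card_zpowers, hi])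
  have hsup : IsPGroup 3 ((P : Subgroup G) ⊔ Subgroup.zpowers g : Subgroup G) :=
    IsPGroup.to_sup_of_normal_left' P.2 hp (Subgroup.zpowers_le.2 hg)
  have hgP : g ∈ (P : Subgroup G) := by
    rw [← P.3 hsup le_sup_left]
    exact Subgroup.mem_sup_right (Subgroup.mem_zpowers g)
  rw [(sylow_comm hG P hgP hy).eq, mul_inv_cancel_right] at hgy
  exact mul_eq_left.1 hgy.symm

theorem mem_normalizer_of_le {c : G}
    (h : ∀ a ∈ (P : Subgroup G), c * a * c⁻¹ ∈ (P : Subgroup G)) :
    c ∈ Subgroup.normalizer ((P : Subgroup G) : Set G) := by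
  refine Subgroup.mem_normalizer_iff.2 fun a => ⟨h a, fun ha => ?_⟩
  let f : ↥(P : Subgroup G) → ↥(P : Subgroup G) := fun a => ⟨_, h a a.2⟩
  obtain ⟨⟨b, hb⟩, hba⟩ := Finite.surjective_of_injective (f := f)
    (fun a b e => Subtype.ext (mul_left_cancel (mul_right_cancel (congrArg Subtype.val e :))))
    ⟨_, ha⟩
  rwa [← mul_left_cancel (mul_right_cancel (congrArg Subtype.val hba :))]

theorem gen_nine {y : G} (hyo : orderOf y = 9) (hy : y ∈ (P : Subgroup G)) :
    (P : Subgroup G) = Subgroup.zpowers y :=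
  (Subgroup.eq_of_le_of_card_ge (Subgroup.zpowers_le.2 hy)
    (by rw [card_sylow_three hG P, Nat.card_zpowers, hyo])).symm

theorem no_nine (h11 : LocalEleven G) (h7 : LocalSeven G) (h5 : LocalFive G) (h2 : LocalTwo G)
    (hC : ∀ z : G, orderOf z = 3 → Nat.card (cen z) = 36)
    (hconj : ∀ z z' : G, orderOf z = 3 → orderOf z' = 3 → IsConj z z') (g : G) :
    orderOf g ≠ 9 := by
  classical
  intro hg
  haveI := Fintype.ofFinite G
  haveI := Fact.mk Nat.prime_two
  haveI := Fact.mk Nat.prime_three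
  haveI := Fact.mk (show Nat.Prime 5 by norm_num)
  haveI := Fact.mk (show Nat.Prime 7 by norm_num)
  haveI := Fact.mk (show Nat.Prime 11 by norm_num)
  obtain ⟨P, hP⟩ := (IsPGroup.of_card (p := 3) (n := 2)
    (show Nat.card (Subgroup.zpowers g) = 3 ^ 2 by
      rw [Nat.card_zpowers, hg]; rfl)).exists_le_sylow
  have hgP : g ∈ (P : Subgroup G) := hP (Subgroup.mem_zpowers g)
  have hPz := gen_nine hG hg hgP
  have hcs := cent_sylow hG h2 hC P
  have hz : orderOf (g ^ 3) = 3 := by rw [orderOf_pow' g (by norm_num), hg]; rfl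
  have hcent : ∀ x : G, Commute x g → ∀ a ∈ (P : Subgroup G), Commute x a := by
    intro x hx a ha
    rw [hPz] at ha
    obtain ⟨k, rfl⟩ := Subgroup.mem_zpowers_iff.1 ha
    exact hx.zpow_right k
  -- the three classes of `g`, `g ^ 2` and `g ^ 4`
  have hcoprime : ∀ k ∈ ({1, 2, 4} : Finset ℕ), orderOf (g ^ k) = 9 := by
    intro k hk
    rw [Nat.Coprime.orderOf_pow, hg]
    rw [hg]
    fin_cases hk <;> norm_num
  have hcl : ∀ k ∈ ({1, 2, 4} : Finset ℕ),
      (Finset.univ.filter fun x : G => IsConj (g ^ k) x).card = 49280 := by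
    intro k hk
    have hko := hcoprime k hk
    have hkP : g ^ k ∈ (P : Subgroup G) := pow_mem hgP k
    have hcen : cen (g ^ k) = (P : Subgroup G) := by
      refine le_antisymm ?_ fun a ha => mem_cen.2 (sylow_comm hG P ha hkP)
      conv_rhs => rw [← hcs]
      intro x hx
      refine Subgroup.mem_centralizer_iff.2 fun a ha => ?_
      rw [SetLike.mem_coe, gen_nine hG hko hkP] at ha
      obtain ⟨j, rfl⟩ := Subgroup.mem_zpowers_iff.1 ha
      exact ((mem_cen.1 hx).zpow_right j).symm.eq
    have h1 : Nat.card {x : G // IsConj (g ^ k) x} = (cen (g ^ k)).index :=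
      CfsgLib.M12Order.ThreeColumns.card_class _
    have h3 := Subgroup.card_mul_index (cen (g ^ k))
    rw [← h1, hcen, card_sylow_three hG P, hG, Nat.card_eq_fintype_card,
      Fintype.card_subtype] at h3
    omega
  -- no two of them are conjugate
  have hne : ∀ x y : ℕ, x ∈ ({1, 2, 4} : Finset ℕ) → y ∈ ({1, 2, 4} : Finset ℕ) →
      IsConj (g ^ x) (g ^ y) → x = y := by
    have core : ∀ c : G, ∀ k : ℕ, k ∈ ({2, 4} : Finset ℕ) → c * g * c⁻¹ ≠ g ^ k := by
      intro c k hk hck
      have hcN : c ∈ Subgroup.normalizer ((P : Subgroup G) : Set G) := by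
        refine CfsgLib.M22Order.ThreeColumns.mem_normalizer_of_le hG (P := P) fun a ha => ?_
        rw [hPz] at ha
        obtain ⟨j, rfl⟩ := Subgroup.mem_zpowers_iff.1 ha
        rw [← conj_zpow, hck]
        exact zpow_mem (pow_mem hgP k) j
      -- `g ↦ g ^ 4` is the shift by the central element `g ^ 3`
      obtain ⟨d, hdN, hd⟩ : ∃ d ∈ Subgroup.normalizer ((P : Subgroup G) : Set G),
          d * g * d⁻¹ = g ^ 4 := by
        fin_cases hk
        · refine ⟨c ^ 2, pow_mem hcN 2, ?_⟩
          rw [pow_two, mul_inv_rev, show c * c * g * (c⁻¹ * c⁻¹) = c * (c * g * c⁻¹) * c⁻¹ by group,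
            hck, ← conj_pow, hck, ← pow_mul]
        · exact ⟨c, hcN, hck⟩
      have hw : Commute d (g ^ 3) := by
        have h4 : d * g ^ 3 * d⁻¹ = g ^ 3 := by
          rw [← conj_pow, hd, ← pow_mul, pow_eq_pow_mod _ (show g ^ 9 = 1 by
            rw [← hg]; exact pow_orderOf_eq_one g)]
        exact mul_inv_eq_iff_eq_mul.1 h4
      have h := fixed_of_shift hG hcs hdN hgP (pow_mem hgP 3) hw (by rw [hd]; group)
        (by rw [← pow_mul, show 3 * 3 = orderOf g from hg.symm, pow_orderOf_eq_one]) fun x hx _ => hcent x hx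
      rw [h, orderOf_one] at hz
      norm_num at hz
    have hg9 : g ^ 9 = 1 := by rw [← hg]; exact pow_orderOf_eq_one g
    intro x y hx hy hxy
    obtain ⟨c, hc⟩ := isConj_iff.1 hxy
    by_contra hxy'
    fin_cases hx <;> fin_cases hy <;> first | exact hxy' rfl | skip
    all_goals try simp only [pow_one] at hc
    · exact core c 2 (by simp) hc
    · exact core c 4 (by simp) hc
    · exact core c⁻¹ 2 (by simp) (by nth_rewrite 1 [← hc]; group)
    · refine core c 2 (by simp) ?_
      have h := congrArg (· ^ 5) hc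
      simp only [conj_pow, ← pow_mul] at h
      rwa [pow_eq_pow_mod (2 * 5) hg9, pow_eq_pow_mod (4 * 5) hg9, pow_one] at h
    · exact core c⁻¹ 4 (by simp) (by nth_rewrite 1 [← hc]; group)
    · refine core c⁻¹ 2 (by simp) ?_
      have h : c⁻¹ * g ^ 2 * c⁻¹⁻¹ = g ^ 4 := by rw [← hc]; group
      have h := congrArg (· ^ 5) h
      simp only [conj_pow, ← pow_mul] at h
      rwa [pow_eq_pow_mod (2 * 5) hg9, pow_eq_pow_mod (4 * 5) hg9, pow_one] at h
  -- counting
  set F : ℕ → Finset G := fun n => Finset.univ.filter fun x : G => orderOf x = n with hF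
  have hFc : ∀ n, (F n).card = Nat.card {x : G // orderOf x = n} := fun n => by
    rw [Nat.card_eq_fintype_card, Fintype.card_subtype]
  have hnine : 147840 ≤ (F 9).card := by
    have hle : (({1, 2, 4} : Finset ℕ).biUnion fun k =>
        Finset.univ.filter fun x : G => IsConj (g ^ k) x) ⊆ F 9 := by
      intro x hx
      obtain ⟨k, hk, hx⟩ := Finset.mem_biUnion.1 hx
      obtain ⟨c, rfl⟩ := isConj_iff.1 (Finset.mem_filter.1 hx).2
      simp only [hF, Finset.mem_filter, Finset.mem_univ, true_and]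
      rw [show c * g ^ k * c⁻¹ = MulAut.conj c (g ^ k) from rfl, MulEquiv.orderOf_eq]
      exact hcoprime k hk
    refine le_trans ?_ (Finset.card_le_card hle)
    rw [Finset.card_biUnion, Finset.sum_congr rfl hcl]
    · simp
    · intro x hx y hy hxy
      refine Finset.disjoint_left.2 fun a ha hb => hxy (hne x y hx hy ?_)
      exact (Finset.mem_filter.1 ha).2.trans (Finset.mem_filter.1 hb).2.symm
  have hsum : ∑ n ∈ ({1, 2, 3, 5, 7, 9, 11} : Finset ℕ), (F n).card ≤ 443520 := by
    rw [← Finset.card_biUnion, ← hG, Nat.card_eq_fintype_card]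
    · exact Finset.card_le_univ _
    · intro x _ y _ hxy
      exact Finset.disjoint_left.2 fun a ha hb =>
        hxy ((Finset.mem_filter.1 ha).2.symm.trans (Finset.mem_filter.1 hb).2)
  obtain ⟨t, ht⟩ := exists_prime_orderOf_dvd_card' (G := G) 2 (by rw [hG]; norm_num)
  have e2 := card_class_eq hG ht (h2.cent t ht) fun y hy => h2.conj t y ht hy
  have e3 := card_class_eq hG hz (hC _ hz) fun y hy => hconj _ y hz hy
  have e5 := card_prime_elements hG (p := 5) (m := 88704) (by norm_num) (by norm_num) h5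
  have e7 := card_prime_elements hG (p := 7) (m := 63360) (by norm_num) (by norm_num) h7
  have e11 := card_prime_elements hG (p := 11) (m := 40320) (by norm_num) (by norm_num) h11
  rw [← hFc] at e2 e3 e5 e7 e11
  simp [Finset.sum_insert] at hsum
  omega

theorem norm_three (hcs : Subgroup.centralizer ((P : Subgroup G) : Set G) = (P : Subgroup G))
    (h9 : ∀ g : G, orderOf g ≠ 9)
    (hconj : ∀ z z' : G, orderOf z = 3 → orderOf z' = 3 → IsConj z z') :
    Nat.card (Subgroup.normalizer ((P : Subgroup G) : Set G)) = 72 := by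
  classical
  haveI := Fintype.ofFinite G
  haveI := Fact.mk Nat.prime_three
  set N := Subgroup.normalizer ((P : Subgroup G) : Set G) with hN
  have h3 : ∀ a ∈ (P : Subgroup G), a ≠ 1 → orderOf a = 3 := by
    intro a ha ha1
    have hd := Subgroup.orderOf_dvd_natCard _ ha
    rw [card_sylow_three hG P] at hd
    obtain ⟨i, hi, hio⟩ := (Nat.dvd_prime_pow (m := 2) Nat.prime_three).1 hd
    interval_cases i
    · exact absurd (orderOf_eq_one_iff.1 hio) ha1
    · simpa using hio
    · exact absurd hio (h9 a)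
  obtain ⟨⟨z, hzP⟩, hz⟩ := exists_prime_orderOf_dvd_card' (G := (P : Subgroup G)) 3
    (by rw [card_sylow_three hG P]; norm_num)
  rw [Subgroup.orderOf_mk] at hz
  have hzne : z ≠ 1 := fun h => by rw [h, orderOf_one] at hz; norm_num at hz
  haveI : IsMulCommutative (P : Subgroup G) :=
    ⟨⟨fun a b => Subtype.ext (sylow_comm hG P a.2 b.2).eq⟩⟩
  -- the normalizer is transitive on the elements of order three
  letI act : MulAction N {a : (P : Subgroup G) // a ≠ 1} :=
    { smul := fun n a => ⟨⟨(n : G) * (a.1 : G) * (n : G)⁻¹,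
          (Subgroup.mem_normalizer_iff.1 n.2 _).1 a.1.2⟩,
          fun e => a.2 (Subtype.ext (conj_eq_one_iff.1 (congrArg Subtype.val e)))⟩
      one_smul := fun a => Subtype.ext (Subtype.ext (show (1 : G) * _ * (1 : G)⁻¹ = _ by simp))
      mul_smul := fun m n a => Subtype.ext (Subtype.ext
        (show (m : G) * n * _ * ((m : G) * n)⁻¹ = (m : G) * ((n : G) * _ * (n : G)⁻¹) * (m : G)⁻¹ by
          group)) }
  haveI : MulAction.IsPretransitive N {a : (P : Subgroup G) // a ≠ 1} := by
    refine MulAction.isPretransitive_iff_base ⟨⟨z, hzP⟩, fun e => hzne (congrArg Subtype.val e)⟩ |>.2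
      fun a => ?_
    obtain ⟨c, hc⟩ := isConj_iff.1 (hconj z (a.1 : G) hz (h3 _ a.1.2 fun e => a.2 (Subtype.ext e)))
    obtain ⟨n, hn, hnc⟩ := P.conj_eq_normalizer_conj_of_mem z c⁻¹ hzP
      (by rw [inv_inv, hc]; exact a.1.2)
    refine ⟨⟨n⁻¹, inv_mem hn⟩, Subtype.ext (Subtype.ext ?_)⟩
    show n⁻¹ * z * n⁻¹⁻¹ = (a.1 : G)
    rw [inv_inv, ← hnc, inv_inv, hc]
  set S := MulAction.stabilizer N (⟨⟨z, hzP⟩, fun e => hzne (congrArg Subtype.val e)⟩ :
    {a : (P : Subgroup G) // a ≠ 1}) with hS
  have hidx : S.index = 8 := by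
    rw [hS, MulAction.index_stabilizer_of_transitive, Nat.card_eq_fintype_card,
      Fintype.card_subtype_compl, ← Nat.card_eq_fintype_card, card_sylow_three hG P,
      Fintype.card_subtype_eq]
  have hmemS : ∀ n : N, n ∈ S ↔ Commute (n : G) z := fun n =>
    ⟨fun h => mul_inv_eq_iff_eq_mul.1 (congrArg Subtype.val (congrArg Subtype.val h)),
      fun h => Subtype.ext (Subtype.ext (mul_inv_eq_iff_eq_mul.2 h.eq))⟩
  -- a second element generating with `z`
  obtain ⟨y, hyP, hyz⟩ : ∃ y ∈ (P : Subgroup G), y ∉ Subgroup.zpowers z := by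
    by_contra hall
    push Not at hall
    have h := Subgroup.card_le_of_le (show (P : Subgroup G) ≤ Subgroup.zpowers z from hall)
    rw [card_sylow_three hG P, Nat.card_zpowers, hz] at h
    omega
  set Z := Subgroup.zpowers z with hZ
  have hZc : Nat.card Z = 3 := by rw [hZ, Nat.card_zpowers, hz]
  have hgen : ∀ w ∈ (P : Subgroup G), w ∉ Z → ∀ x : G, Commute x z → Commute x w →
      ∀ a ∈ (P : Subgroup G), Commute x a := by
    intro w hw hwz x hxz hxw a ha
    have hle : Z ⊔ Subgroup.zpowers w ≤ (P : Subgroup G) :=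
      sup_le (Subgroup.zpowers_le.2 hzP) (Subgroup.zpowers_le.2 hw)
    have hd : Nat.card (Z ⊔ Subgroup.zpowers w : Subgroup G) ∣ 3 ^ 2 := by
      have := Subgroup.card_dvd_of_le hle
      rwa [card_sylow_three hG P] at this
    have hlt : 3 < Nat.card (Z ⊔ Subgroup.zpowers w : Subgroup G) := by
      by_contra hge
      refine hwz ((Subgroup.eq_of_le_of_card_ge (le_sup_left : Z ≤ Z ⊔ Subgroup.zpowers w) ?_).ge
        (Subgroup.mem_sup_right (Subgroup.mem_zpowers w)))
      rw [hZc]
      omega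
    obtain ⟨i, hi, hie⟩ := (Nat.dvd_prime_pow Nat.prime_three).1 hd
    have heq : Z ⊔ Subgroup.zpowers w = (P : Subgroup G) := by
      refine Subgroup.eq_of_le_of_card_ge hle ?_
      rw [card_sylow_three hG P, hie]
      interval_cases i <;> simp_all
    have hC : Z ⊔ Subgroup.zpowers w ≤ cen x := sup_le
      (Subgroup.zpowers_le.2 (mem_cen.2 hxz.symm)) (Subgroup.zpowers_le.2 (mem_cen.2 hxw.symm))
    exact (mem_cen.1 (hC (heq ▸ ha))).symm
  -- the stabilizer has at most two cosets of `P`
  have hshift : ∀ n : N, n ∈ S → y⁻¹ * ((n : G) * y * (n : G)⁻¹) ∈ Z →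
      (n : G) ∈ (P : Subgroup G) := by
    intro n hn hZm
    set w := y⁻¹ * ((n : G) * y * (n : G)⁻¹) with hw
    have hnz := (hmemS n).1 hn
    have hnw : Commute (n : G) w := by
      obtain ⟨j, hj⟩ := Subgroup.mem_zpowers_iff.1 hZm
      exact hj ▸ hnz.zpow_right j
    by_cases hw1 : w = 1
    · rw [← hcs]
      refine Subgroup.mem_centralizer_iff.2 fun a ha => (hgen y hyP hyz _ hnz ?_ a ha).symm.eq
      exact mul_inv_eq_iff_eq_mul.1 (inv_mul_eq_one.1 hw1).symm
    · have hwP : w ∈ (P : Subgroup G) := (Subgroup.zpowers_le.2 hzP) hZm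
      refine absurd (fixed_of_shift hG hcs n.2 hyP hwP hnw (by rw [hw, mul_inv_cancel_left])
        (by rw [← h3 w hwP hw1, pow_orderOf_eq_one]) ?_) hw1
      intro x hxy hxw a ha
      refine hgen y hyP hyz x ?_ hxy a ha
      have hzw : Subgroup.zpowers w = Z := Subgroup.eq_of_le_of_card_ge (Subgroup.zpowers_le.2 hZm)
        (by rw [hZc, Nat.card_zpowers, h3 w hwP hw1])
      obtain ⟨j, hj⟩ := Subgroup.mem_zpowers_iff.1 (hzw ▸ Subgroup.mem_zpowers z : z ∈ Subgroup.zpowers w)
      exact hj ▸ hxw.zpow_right j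
  have hcosets : ∀ u v : G, u ∈ (P : Subgroup G) → v ∈ (P : Subgroup G) →
      y⁻¹ * u ∉ Z → y⁻¹ * v ∉ Z → u ∉ Z → v ∉ Z → u⁻¹ * v ∈ Z := by
    intro u v hu hv hyu hyv hu1 hv1
    let Zp := Z.subgroupOf (P : Subgroup G)
    have hZp : Zp.index = 3 := by
      have h1 := Zp.card_mul_index
      rw [Nat.card_congr (Subgroup.subgroupOfEquivOfLe (Subgroup.zpowers_le.2 hzP)).toEquiv,
        show Nat.card (Subgroup.zpowers z) = 3 from hZc, card_sylow_three hG P] at h1
      omega
    have hq : ∀ a b : (P : Subgroup G), (a : (P : Subgroup G) ⧸ Zp) = b ↔ (a : G)⁻¹ * b ∈ Z :=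
      fun a b => QuotientGroup.eq.trans Iff.rfl
    by_contra huv
    have hinj : Function.Injective
        (![((1 : (P : Subgroup G)) : (P : Subgroup G) ⧸ Zp), ((⟨y, hyP⟩ : (P : Subgroup G)) : _),
          ((⟨u, hu⟩ : (P : Subgroup G)) : _), ((⟨v, hv⟩ : (P : Subgroup G)) : _)]) := by
      intro i j hij
      fin_cases i <;> fin_cases j <;> first | rfl | skip
      all_goals (exfalso; simp [hq, -QuotientGroup.mk_one] at hij)
      all_goals first
        | exact hyz hij
        | exact hu1 hij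
        | exact hv1 hij
        | exact hyu hij
        | exact hyv hij
        | exact huv hij
        | exact hyz (hij ▸ one_mem Z)
        | exact hu1 (hij ▸ one_mem Z)
        | exact hv1 (hij ▸ one_mem Z)
        | exact hyz (by simpa using inv_mem hij)
        | exact hu1 (by simpa using inv_mem hij)
        | exact hv1 (by simpa using inv_mem hij)
        | exact hyu (by simpa using inv_mem hij)
        | exact hyv (by simpa using inv_mem hij)
        | exact huv (by simpa using inv_mem hij)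
    have := Nat.card_le_card_of_injective _ hinj
    rw [Nat.card_eq_fintype_card, Fintype.card_fin, ← Subgroup.index_eq_card, hZp] at this
    omega
  set P' := (P : Subgroup G).subgroupOf N with hP'
  have hP'c : Nat.card P' = 9 := by
    rw [hP', Nat.card_congr (Subgroup.subgroupOfEquivOfLe Subgroup.le_normalizer).toEquiv,
      card_sylow_three hG P]
  have hP'S : P' ≤ S := fun n hn => (hmemS n).2 (sylow_comm hG P hn hzP)
  have hnot : ∀ n : N, n ∈ S → (n : G) * y * (n : G)⁻¹ ∉ Z := by
    intro n hn hm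
    obtain ⟨j, hj⟩ := Subgroup.mem_zpowers_iff.1 hm
    refine hyz (Subgroup.mem_zpowers_iff.2 ⟨j, ?_⟩)
    have h1 : (n : G) * z ^ j * (n : G)⁻¹ = z ^ j := by
      rw [((hmemS n).1 hn).zpow_right j |>.eq, mul_inv_cancel_right]
    calc z ^ j = (n : G)⁻¹ * ((n : G) * z ^ j * (n : G)⁻¹) * n := by group
      _ = (n : G)⁻¹ * ((n : G) * y * (n : G)⁻¹) * n := by rw [h1, hj]
      _ = y := by group
  have htwo : ∀ m n : N, m ∈ S → n ∈ S → m ∉ P' → n ∉ P' → m⁻¹ * n ∈ P' := by
    intro m n hm hn hmP hnP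
    have h1 := hcosets _ _ ((Subgroup.mem_normalizer_iff.1 m.2 _).1 hyP)
      ((Subgroup.mem_normalizer_iff.1 n.2 _).1 hyP) (fun h => hmP (hshift m hm h))
      (fun h => hnP (hshift n hn h)) (hnot m hm) (hnot n hn)
    refine hshift (m⁻¹ * n) (mul_mem (inv_mem hm) hn) ?_
    obtain ⟨j, hj⟩ := Subgroup.mem_zpowers_iff.1 h1
    have hmz : Commute ((m : G)⁻¹) (z ^ j) := (((hmemS m).1 hm).inv_left).zpow_right j
    have e : y⁻¹ * ((↑(m⁻¹ * n) : G) * y * (↑(m⁻¹ * n) : G)⁻¹) =
        (m : G)⁻¹ * z ^ j * (m : G) := by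
      rw [hj]; simp only [Subgroup.coe_mul, Subgroup.coe_inv]; group
    rw [e, hmz.eq, mul_assoc, inv_mul_cancel, mul_one]
    exact Subgroup.zpow_mem _ (Subgroup.mem_zpowers z) j
  have hS18 : Nat.card S ≤ 18 := by
    by_cases hex : ∃ k ∈ S, k ∉ P'
    · obtain ⟨k, hk, hkP⟩ := hex
      let f : Bool × P' → N := fun bp => bif bp.1 then k * bp.2 else bp.2
      have hsub : ∀ s : S, ∃ bp, f bp = s := by
        intro s
        by_cases hs : (s : N) ∈ P'
        · exact ⟨(false, ⟨s, hs⟩), rfl⟩
        · exact ⟨(true, ⟨k⁻¹ * s, htwo k s hk s.2 hkP hs⟩), mul_inv_cancel_left k _⟩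
      choose g hg using hsub
      have := Nat.card_le_card_of_injective g fun a b e => Subtype.ext (by rw [← hg a, e, hg b])
      rwa [Nat.card_prod, hP'c, Nat.card_eq_fintype_card (α := Bool), Fintype.card_bool] at this
    · push Not at hex
      have := Subgroup.card_le_of_le (show S ≤ P' from hex)
      omega
  obtain ⟨k, hk⟩ := hP'c ▸ Subgroup.card_dvd_of_le hP'S
  have hNS : Nat.card S * 8 = Nat.card N := hidx ▸ S.card_mul_index
  have hn3 := card_sylow_modEq_one 3 G
  rw [Nat.ModEq, Sylow.card_eq_index_normalizer P] at hn3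
  change N.index % 3 = 1 % 3 at hn3
  have hmul := Subgroup.card_mul_index N
  rw [hG, ← hNS] at hmul
  have hkle : k ≤ 2 := by omega
  interval_cases k <;> rw [hk] at hNS hmul <;> omega

end CfsgLib.M22Order.ThreeColumns

namespace CfsgLib.M22Order

universe u

open ThreeColumns in
/-- Piece F. -/
theorem three : ThreeStmt.{u} := by
  intro G _ _ _ hG h11 h7 h5 h2 K
  have hC : ∀ z : G, orderOf z = 3 → Nat.card (cen z) = 36 := fun z hz =>
    cent_three hG h11 h7 h5 h2 K hz
  have hconj : ∀ z z' : G, orderOf z = 3 → orderOf z' = 3 → IsConj z z' := fun z z' hz hz' =>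
    conj_three hG h11 h7 h5 K hz hz'
  exact ⟨hC, hconj, fun z hz => invol_three hG h2 hC hconj hz, fun P => cent_sylow hG h2 hC P,
    fun P => norm_three hG (cent_sylow hG h2 hC P) (no_nine hG h11 h7 h5 h2 hC hconj) hconj⟩

end CfsgLib.M22Order
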