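import Mathlib

/-!
# Elements of order three in a simple group of order 443520: the finite search

The five parameters `a`, `b`, `f`, `i`, `e` are the values of the characters of degree 21, 45, 99,
280, 154; the block relations give those of degree 55, 210, 231 and the orthogonality with the
degrees that of degree 385.  Integrality of two structure constants leaves three columns.
-/

set_option autoImplicit false

namespace CfsgLib.M22Order.ThreeColumns

/-- The value at degree 55. -/
def gv (b f : ℤ) : ℤ := 1 - b + f

/-- The value at degree 210. -/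
def hv (a b i : ℤ) : ℤ := i - 1 + a - 2 * b

/-- The value at degree 231. -/
def lv (a f e : ℤ) : ℤ := f + e - 1 - a

/-- The weighted sum of the values other than that at degree 385. -/
def sv (a b f i e : ℤ) : ℤ :=
  1 + 21 * a + 90 * b + 55 * gv b f + 99 * f + 154 * e + 210 * hv a b i + 231 * lv a f e + 560 * i

/-- The value at degree 385. -/
def kv (a b f i e : ℤ) : ℤ := -(sv a b f i e) / 385

/-- The column. -/
def col (a b f i e : ℤ) : Fin 12 → ℤ :=
  ![1, a, b, b, gv b f, f, e, hv a b i, lv a f e, i, i, kv a b f i e]

/-- The sum of squares. -/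
def sq (a b f i e : ℤ) : ℤ :=
  1 + a * a + 2 * (b * b) + gv b f * gv b f + f * f + e * e + hv a b i * hv a b i
    + lv a f e * lv a f e + 2 * (i * i) + kv a b f i e * kv a b f i e

/-- The number of pairs of conjugates with product a given element of order five. -/
def fiveCount (a f e : ℤ) : ℤ :=
  16 * (27720 + 1320 * (a * a) - 280 * (f * f) - 180 * (e * e) + 120 * (lv a f e * lv a f e))

/-- The number of pairs of conjugates with product the element itself. -/
def selfCount (a b f i e : ℤ) : ℤ :=
  16 * (27720 + 1320 * (a * a * a) + 1232 * (b * b * b) + 504 * (gv b f * gv b f * gv b f)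
    + 280 * (f * f * f) + 180 * (e * e * e) + 132 * (hv a b i * hv a b i * hv a b i)
    + 120 * (lv a f e * lv a f e * lv a f e) + 198 * (i * i * i)
    + 72 * (kv a b f i e * kv a b f i e * kv a b f i e))

/-- What the columns satisfy. -/
def adm (C a b f i e : ℤ) : Bool :=
  decide (sv a b f i e % 385 = 0) && decide (sq a b f i e = C) &&
    decide (0 ≤ fiveCount a f e) && decide (fiveCount a f e % (C * C) = 0) &&
    decide (0 ≤ selfCount a b f i e) && decide (selfCount a b f i e % (C * C) = 0)

/-- The orders of centralizers of elements of order three that divide the order of the group. -/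
def cents : List ℤ := [9, 18, 36, 72, 144, 288, 576, 1152]

/-- The possible values at a degree `d`. -/
def cands (C d : ℤ) : List ℤ :=
  (((List.range 67).map fun k : ℕ => (k : ℤ) - 33)).filter fun x =>
    decide (x % 3 = d % 3) && decide (x * x ≤ C) && decide (443520 / C * x % d = 0)

/-- The three rows that survive. -/
def good : List (ℤ × ℤ × ℤ × ℤ × ℤ × ℤ) :=
  [(9, 0, 0, 0, 1, 1), (36, 0, 0, 0, -2, 1), (36, 3, 0, 0, 1, 1)]

/-- The search. -/
def search : Bool :=
  cents.all fun C => (cands C 21).all fun a => (cands C 45).all fun b => (cands C 99).all fun f =>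
    (cands C 280).all fun i => !(decide (1 + a * a + 2 * (b * b) + f * f + 2 * (i * i) ≤ C)) ||
      (cands C 154).all fun e => !(adm C a b f i e) || good.contains (C, a, b, f, i, e)

set_option maxRecDepth 100000 in
theorem search_eq : search = true := by decide +kernel

/-- The hypotheses of the search on one value. -/
def IsCand (C d x : ℤ) : Prop := x % 3 = d % 3 ∧ x * x ≤ C ∧ d ∣ 443520 / C * x

theorem mem_cands {C d x : ℤ} (hC : C ∈ cents) (h : IsCand C d x) : x ∈ cands C d := by
  obtain ⟨h3, hsq, hd⟩ := h
  have hC' : C ≤ 1152 := by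
    simp only [cents, List.mem_cons, List.not_mem_nil, or_false] at hC
    omega
  have hb : -33 ≤ x ∧ x ≤ 33 := ⟨by nlinarith, by nlinarith⟩
  simp only [cands, List.mem_filter, List.mem_map, List.mem_range, Bool.and_eq_true,
    decide_eq_true_eq]
  exact ⟨⟨(x + 33).toNat, by omega, by omega⟩, ⟨h3, hsq⟩, Int.emod_eq_zero_of_dvd hd⟩

theorem mem_good {C a b f i e : ℤ} (hC : C ∈ cents) (ha : IsCand C 21 a) (hb : IsCand C 45 b)
    (hf : IsCand C 99 f) (hi : IsCand C 280 i) (he : IsCand C 154 e)
    (h : adm C a b f i e = true) : (C, a, b, f, i, e) ∈ good := by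
  have hs := search_eq
  simp only [search, List.all_eq_true] at hs
  have h1 := hs C hC a (mem_cands hC ha) b (mem_cands hC hb) f (mem_cands hC hf) i (mem_cands hC hi)
  have hp : 1 + a * a + 2 * (b * b) + f * f + 2 * (i * i) ≤ C := by
    simp only [adm, Bool.and_eq_true, decide_eq_true_eq] at h
    obtain ⟨⟨⟨⟨⟨-, hsq⟩, -⟩, -⟩, -⟩, -⟩ := h
    unfold sq at hsq
    nlinarith [mul_self_nonneg (gv b f), mul_self_nonneg e, mul_self_nonneg (hv a b i),
      mul_self_nonneg (lv a f e), mul_self_nonneg (kv a b f i e)]
  simp only [hp, decide_true, Bool.not_true, Bool.false_or, List.all_eq_true] at h1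
  simpa [h] using h1 e (mem_cands hC he)

/-- No two of the surviving columns are orthogonal. -/
theorem inner_ne : ∀ p ∈ good, ∀ q ∈ good,
    ∑ k, col p.2.1 p.2.2.1 p.2.2.2.1 p.2.2.2.2.1 p.2.2.2.2.2 k *
      col q.2.1 q.2.2.1 q.2.2.2.1 q.2.2.2.2.1 q.2.2.2.2.2 k ≠ 0 := by
  decide +kernel

/-- The surviving centralizer orders. -/
theorem good_cent : ∀ p ∈ good, p.1 = 9 ∨ p.1 = 36 := by decide +kernel

end CfsgLib.M22Order.ThreeColumns
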