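import Cfsg.Agent.Lib.M22Order.Interface
import Cfsg.Agent.Lib.M22Order.ThreeArith
import Cfsg.Agent.Lib.M12Order.ThreeBase

/-!
# Elements of order three in a simple group of order 443520: the columns

The values at an element of order three are integers; the block relations, orthogonality and two
structure constants leave three columns, no two of them orthogonal, so there is one class.  An
involution with centralizer of order 384 gives centralizers of order 36.
-/

set_option autoImplicit false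
set_option linter.style.haveILetI false
set_option linter.unusedSectionVars false

open Cfsg CfsgLib.Chars CfsgLib.CharApps
open scoped ComplexConjugate
open CfsgLib.M12Order.ThreeColumns (orth orth_zero norm_sum Pairs card_pairs_dvd int_of_real)

namespace CfsgLib.M22Order.ThreeColumns

universe u

variable {G : Type u} [Group G] [Finite G]

theorem mem_cen {x y : G} : y ∈ cen x ↔ Commute y x := Subgroup.mem_centralizer_singleton_iff

theorem sum12 {M : Type*} [AddCommMonoid M] (F : Fin 12 → M) :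
    ∑ k, F k = F 0 + F 1 + F 2 + F 3 + F 4 + F 5 + F 6 + F 7 + F 8 + F 9 + F 10 + F 11 := by
  simp only [Fin.sum_univ_succ, Fin.sum_univ_zero, add_zero, add_assoc]
  rfl

/-- The only coincidences among the degrees. -/
theorem deg_pairs : ∀ j k : Fin 12, specMain.deg j = specMain.deg k →
    j = k ∨ (j = 2 ∧ k = 3) ∨ (j = 3 ∧ k = 2) ∨ (j = 9 ∧ k = 10) ∨ (j = 10 ∧ k = 9) := by
  decide +kernel

/-- The cofactors of the degrees in the order of the group. -/
theorem deg_mul : ∀ k : Fin 12, specMain.deg k *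
    (![443520, 21120, 9856, 9856, 8064, 4480, 2880, 2112, 1920, 1584, 1584, 1152] : Fin 12 → ℕ) k =
      443520 := by
  decide +kernel

theorem card_sylow_three (hG : Nat.card G = 443520) (P : Sylow 3 G) :
    Nat.card (P : Subgroup G) = 9 := by
  haveI := Fact.mk Nat.prime_three
  simpa using CfsgLib.Small.card_sylow_eq (p := 3) 2 49280 (by rw [hG]; rfl) (by norm_num) P

theorem sylow_comm (hG : Nat.card G = 443520) (P : Sylow 3 G) {a b : G}
    (ha : a ∈ (P : Subgroup G)) (hb : b ∈ (P : Subgroup G)) : Commute a b :=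
  haveI := Fact.mk Nat.prime_three
  congrArg Subtype.val (IsPGroup.commutative_of_card_eq_prime_sq (p := 3)
    (G := (P : Subgroup G)) (by rw [card_sylow_three hG P]; norm_num) ⟨a, ha⟩ ⟨b, hb⟩)

theorem exists_sylow {z : G} (hz : orderOf z = 3) : ∃ P : Sylow 3 G, z ∈ (P : Subgroup G) := by
  obtain ⟨P, hP⟩ := (IsPGroup.of_card (p := 3) (n := 1)
    (show Nat.card (Subgroup.zpowers z) = 3 ^ 1 by
      rw [Nat.card_zpowers, hz, pow_one])).exists_le_sylow
  exact ⟨P, hP (Subgroup.mem_zpowers z)⟩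

theorem card_cen (hG : Nat.card G = 443520) (h11 : LocalEleven G) (h7 : LocalSeven G)
    (h5 : LocalFive G) {z : G} (hz : orderOf z = 3) : (Nat.card (cen z) : ℤ) ∈ cents := by
  haveI := Fact.mk Nat.prime_three
  obtain ⟨P, hzP⟩ := exists_sylow hz
  obtain ⟨j, hj⟩ : 9 ∣ Nat.card (cen z) := card_sylow_three hG P ▸
    Subgroup.card_dvd_of_le fun a ha => mem_cen.2 (sylow_comm hG P ha hzP)
  have hno : ∀ q : ℕ, q = 5 ∨ q = 7 ∨ q = 11 → ¬ q ∣ Nat.card (cen z) := by
    intro q hq hdvd
    haveI := Fact.mk (show q.Prime by rcases hq with rfl | rfl | rfl <;> norm_num)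
    obtain ⟨⟨y, hyC⟩, hyo⟩ := exists_prime_orderOf_dvd_card' (G := cen z) q hdvd
    rw [Subgroup.orderOf_mk] at hyo
    have h := Subgroup.orderOf_dvd_natCard _ (mem_cen.2 (mem_cen.1 hyC).symm : z ∈ cen y)
    rcases hq with rfl | rfl | rfl
    · rw [hz, h5.cent y hyo] at h; norm_num at h
    · rw [hz, h7.cent y hyo] at h; norm_num at h
    · rw [hz, h11.cent y hyo] at h; norm_num at h
  have hd : Nat.card (cen z) ∣ 9 * (385 * 128) :=
    (Subgroup.card_subgroup_dvd_card _).trans (hG ▸ dvd_of_eq rfl)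
  rw [hj] at hd hno ⊢
  have h1 : j ∣ 385 * 128 := Nat.dvd_of_mul_dvd_mul_left (by norm_num : 0 < 9) hd
  have hq : ∀ q : ℕ, q.Prime → q = 5 ∨ q = 7 ∨ q = 11 → Nat.Coprime j q := fun q hp hq =>
    ((hp.coprime_iff_not_dvd).2 fun h => hno q hq (h.mul_left 9)).symm
  have hcop : Nat.Coprime j 385 := by
    rw [show 385 = 5 * 7 * 11 by rfl]
    exact ((hq 5 (by norm_num) (by omega)).mul_right (hq 7 (by norm_num) (by omega))).mul_right
      (hq 11 (by norm_num) (by omega))
  obtain ⟨a, ha, rfl⟩ := (Nat.dvd_prime_pow (m := 7) Nat.prime_two).1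
    (hcop.dvd_of_dvd_mul_left h1)
  interval_cases a <;> decide

variable (hG : Nat.card G = 443520) (K : Chars G specMain)

include hG

theorem int_val {z : G} (hz : orderOf z = 3) (k : Fin 12) :
    ∃ m : ℤ, (m : ℂ) = (K.c k : G → ℂ) z ∧
      IsCand (Nat.card (cen z) : ℤ) (specMain.deg k) m := by
  obtain ⟨j, hj⟩ : ∃ j, K.c j = conjIrr (K.c k) := ⟨_, K.c.apply_symm_apply _⟩
  have hval : ∀ g, (K.c j : G → ℂ) g = conj ((K.c k : G → ℂ) g) := fun g => by rw [hj]; rfl
  have hd : specMain.deg j = specMain.deg k := by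
    have h1 := hval 1
    rw [deg_eq, deg_eq, K.deg, K.deg, map_natCast] at h1
    exact_mod_cast h1
  have h2 : (K.c 9 : G → ℂ) z = (K.c 10 : G → ℂ) z :=
    (K.rel_eleven z (by rw [hz]; norm_num)).1
  have h3 : (K.c 2 : G → ℂ) z = (K.c 3 : G → ℂ) z :=
    (K.rel_seven z (by rw [hz]; norm_num)).1
  have hjk : (K.c j : G → ℂ) z = (K.c k : G → ℂ) z := by
    rcases deg_pairs j k hd with rfl | ⟨rfl, rfl⟩ | ⟨rfl, rfl⟩ | ⟨rfl, rfl⟩ | ⟨rfl, rfl⟩
    exacts [rfl, h3, h3.symm, h2, h2.symm]
  obtain ⟨m, hm, h3m⟩ := int_of_real (K.c k) hz (by rw [← hval, hjk])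
  rw [K.deg] at h3m
  refine ⟨m, hm, by omega, ?_, ?_⟩
  · have h1 := norm_sum K.c z
    have h2 : Complex.normSq ((K.c k : G → ℂ) z) ≤ (Nat.card (cen z) : ℝ) := by
      rw [← h1]
      exact Finset.single_le_sum (f := fun l => Complex.normSq ((K.c l : G → ℂ) z))
        (fun l _ => Complex.normSq_nonneg _) (Finset.mem_univ k)
    rw [← hm, Complex.normSq_intCast] at h2
    exact_mod_cast h2
  · have h1 := CfsgLib.M12Order.dvd_index_mul (K.c k) hm
    rw [K.deg] at h1
    have h2 : (Nat.card (cen z)) * (cen z).index = 443520 := by rw [Subgroup.card_mul_index, hG]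
    have h4 : (443520 : ℤ) / (Nat.card (cen z) : ℤ) = ((cen z).index : ℤ) := by
      rw [← show ((Nat.card (cen z) : ℤ) * (cen z).index) = 443520 by exact_mod_cast h2,
        Int.mul_ediv_cancel_left _ (by exact_mod_cast (Nat.card_pos (α := cen z)).ne')]
    rwa [h4]

theorem pairs_eq (x y z : G) :
    (Nat.card (Pairs x y z) : ℂ) =
      ∑ k, ((![443520, 21120, 9856, 9856, 8064, 4480, 2880, 2112, 1920, 1584, 1584, 1152] :
          Fin 12 → ℕ) k : ℂ) *
        ((K.c k : G → ℂ) x * (K.c k : G → ℂ) y * (K.c k : G → ℂ) z⁻¹) := by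
  classical
  haveI := Fintype.ofFinite G
  haveI := irrFintype G
  rw [card_conj_mul_conj, hG, ← K.c.sum_comp, Finset.mul_sum]
  refine Finset.sum_congr rfl fun k _ => ?_
  rw [deg_eq, K.deg]
  have hk : ((specMain.deg k : ℕ) : ℂ) *
    ((![443520, 21120, 9856, 9856, 8064, 4480, 2880, 2112, 1920, 1584, 1584, 1152] :
      Fin 12 → ℕ) k : ℂ) = ((443520 : ℕ) : ℂ) := by
    exact_mod_cast deg_mul k
  have h0 : ((specMain.deg k : ℕ) : ℂ) ≠ 0 := fun h => by rw [h, zero_mul] at hk; norm_num at hk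
  rw [← hk]
  field_simp

/-- The column at an element of order three. -/
theorem exists_col (h11 : LocalEleven G) (h7 : LocalSeven G) (h5 : LocalFive G) {z : G}
    (hz : orderOf z = 3) :
    ∃ a b f i e : ℤ, ((Nat.card (cen z) : ℤ), a, b, f, i, e) ∈ good ∧
      ∀ k, (K.c k : G → ℂ) z = (col a b f i e k : ℂ) := by
  classical
  haveI := irrFintype G
  choose m hm hc using int_val hG K hz
  have h0 : ∀ g : G, (K.c 0 : G → ℂ) g = 1 := fun g => by
    rw [K.principal]; exact principal_apply g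
  have m0 : m 0 = 1 := by
    have := hm 0
    rw [h0] at this
    exact_mod_cast this
  have m3 : m 3 = m 2 := by
    have := (K.rel_seven z (by rw [hz]; norm_num)).1
    simp only [specMain, ← hm, Int.cast_inj] at this
    exact this.symm
  have m10 : m 10 = m 9 := by
    have := (K.rel_eleven z (by rw [hz]; norm_num)).1
    simp only [specMain, ← hm, Int.cast_inj] at this
    exact this.symm
  have cast0 : ∀ (v : Fin 12 → ℤ), ∑ k, (v k : ℂ) * (K.c k : G → ℂ) z = 0 →
      ∑ k, v k * m k = 0 := fun v hv => by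
    simp only [← hm] at hv
    exact_mod_cast hv
  have e11 := cast0 _ (K.rel_eleven z (by rw [hz]; norm_num)).2
  have e7 := cast0 _ (K.rel_seven z (by rw [hz]; norm_num)).2
  have e5 := cast0 _ (K.rel_five z (by rw [hz]; norm_num))
  simp [sum12, specMain, m0, m3, m10] at e11 e7 e5
  have eD : ∑ k, (specMain.deg k : ℤ) * m k = 0 := by
    have hzne : z ≠ 1 := fun h => by rw [h, orderOf_one] at hz; norm_num at hz
    have hD := sum_degree_mul (G := G) z
    rw [if_neg hzne, ← K.c.sum_comp] at hD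
    simp only [deg_eq, K.deg, ← hm] at hD
    exact_mod_cast hD
  simp [sum12, specMain, m0, m3, m10] at eD
  have m4 : m 4 = gv (m 2) (m 5) := by unfold gv; linarith
  have m7 : m 7 = hv (m 1) (m 2) (m 9) := by unfold hv; linarith
  have m8 : m 8 = lv (m 1) (m 5) (m 6) := by unfold lv; linarith
  have hs : sv (m 1) (m 2) (m 5) (m 9) (m 6) = -385 * m 11 := by
    unfold sv; rw [← m4, ← m7, ← m8]; linarith
  have m11 : m 11 = kv (m 1) (m 2) (m 5) (m 9) (m 6) := by unfold kv; rw [hs]; omega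
  have hcol : ∀ k, m k = col (m 1) (m 2) (m 5) (m 9) (m 6) k := by
    intro k
    fin_cases k
    exacts [m0, rfl, rfl, m3, m4, rfl, rfl, m7, m8, rfl, m10, m11]
  refine ⟨m 1, m 2, m 5, m 9, m 6, mem_good (card_cen hG h11 h7 h5 hz) (hc 1) (hc 2) (hc 5) (hc 9)
    (hc 6) ?_, fun k => by rw [← hm k, hcol k]⟩
  have hreal : ∀ k, (K.c k : G → ℂ) z⁻¹ = (m k : ℂ) := fun k => by
    rw [char_inv (isCharacter_of_irr (K.c k).2), ← hm k, map_intCast]
  simp only [adm, Bool.and_eq_true, decide_eq_true_eq]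
  have hn : sq (m 1) (m 2) (m 5) (m 9) (m 6) = (Nat.card (cen z) : ℤ) := by
    have h1 := norm_sum K.c z
    simp only [← hm, Complex.normSq_intCast] at h1
    have h2 : ∑ k, m k * m k = (Nat.card (cen z) : ℤ) := by exact_mod_cast h1
    rw [← h2, sum12]
    simp only [m0, m3, m10]
    rw [m4, m7, m8, m11]
    unfold sq
    ring
  have key : ∀ (w : G) (V : ℤ), (Nat.card (Pairs z z w) : ℂ) = (V : ℂ) →
      0 ≤ V ∧ V % ((Nat.card (cen z) : ℤ) * (Nat.card (cen z) : ℤ)) = 0 := by
    intro w V hV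
    have h1 : (Nat.card (Pairs z z w) : ℤ) = V := by exact_mod_cast hV
    refine ⟨by omega, Int.emod_eq_zero_of_dvd ?_⟩
    rw [← h1, ← pow_two]
    exact_mod_cast card_pairs_dvd z w
  haveI := Fact.mk (show Nat.Prime 5 by norm_num)
  obtain ⟨w, hw⟩ := exists_prime_orderOf_dvd_card' (G := G) 5 (by rw [hG]; norm_num)
  have hw5 := key w (fiveCount (m 1) (m 5) (m 6)) (by
    rw [pairs_eq hG K, sum12]
    simp only [← hm, K.at_five w⁻¹ (by rw [orderOf_inv, hw])]
    simp only [m0, m3, m10, m4, m8]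
    simp [specMain, fiveCount]
    ring)
  have hwz := key z (selfCount (m 1) (m 2) (m 5) (m 9) (m 6)) (by
    rw [pairs_eq hG K, sum12]
    simp only [hreal]
    simp only [← hm, m0, m3, m10, m4, m7, m8, m11]
    simp [selfCount]
    ring)
  exact ⟨⟨⟨⟨⟨by rw [hs]; omega, hn⟩, hw5.1⟩, hw5.2⟩, hwz.1⟩, hwz.2⟩

/-- One class of elements of order three. -/
theorem conj_three (h11 : LocalEleven G) (h7 : LocalSeven G) (h5 : LocalFive G)
    (K : Chars G specMain) {z z' : G} (hz : orderOf z = 3) (hz' : orderOf z' = 3) :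
    IsConj z z' := by
  classical
  by_contra hne
  obtain ⟨a, b, f, i, e, hg, hv⟩ := exists_col hG K h11 h7 h5 hz
  obtain ⟨a', b', f', i', e', hg', hv'⟩ := exists_col hG K h11 h7 h5 hz'
  have h := orth K.c z' z
  rw [if_neg hne] at h
  simp only [hv, hv', map_intCast] at h
  refine inner_ne _ hg' _ hg ?_
  dsimp only
  exact_mod_cast h

/-- An element of order three commutes with an involution, so its centralizer has order 36. -/
theorem cent_three (h11 : LocalEleven G) (h7 : LocalSeven G) (h5 : LocalFive G) (h2 : LocalTwo G)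
    (K : Chars G specMain) {z : G} (hz : orderOf z = 3) : Nat.card (cen z) = 36 := by
  haveI := Fact.mk Nat.prime_two
  haveI := Fact.mk Nat.prime_three
  obtain ⟨a, b, f, i, e, hg, -⟩ := exists_col hG K h11 h7 h5 hz
  have hcases : (Nat.card (cen z) : ℤ) = 9 ∨ (Nat.card (cen z) : ℤ) = 36 := good_cent _ hg
  rcases hcases with h | h
  swap
  · exact_mod_cast h
  exfalso
  have h9 : Nat.card (cen z) = 9 := by exact_mod_cast h
  obtain ⟨t, ht⟩ := exists_prime_orderOf_dvd_card' (G := G) 2 (by rw [hG]; norm_num)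
  obtain ⟨⟨y, hyt⟩, hy⟩ := exists_prime_orderOf_dvd_card' (G := cen t) 3
    (by rw [h2.cent t ht]; norm_num)
  rw [Subgroup.orderOf_mk] at hy
  obtain ⟨c, hc⟩ := isConj_iff.1 (conj_three hG h11 h7 h5 K hy hz)
  have hcomm : Commute (c * t * c⁻¹) z := hc ▸ ((mem_cen.1 hyt).symm.map (MulAut.conj c))
  have h3 := Subgroup.orderOf_dvd_natCard _ (mem_cen.2 hcomm)
  rw [h9, show c * t * c⁻¹ = MulAut.conj c t from rfl, (MulAut.conj c).orderOf_eq, ht] at h3
  norm_num at h3

end CfsgLib.M22Order.ThreeColumns
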